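import Groth.Agent.Lib.Canon12.Pair
import Groth.Agent.Lib.RegSeqLoc.AnyBaseChange
import Groth.Agent.Lib.ASBun21.HorrocksGen
import Groth.Agent.S9372
import Mathlib.AlgebraicGeometry.Morphisms.Flat

/-!
# The canonical sheaf and base change
-/

set_option autoImplicit false
set_option linter.style.haveILetI false
set_option maxHeartbeats 2000000

universe u

open CategoryTheory CategoryTheory.Limits AlgebraicGeometry TopologicalSpace Opposite

noncomputable section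

namespace GrothLib.Canon12

/-- A regular immersion of codimension `c` in the first homological sense. -/
def H1Codim {Z X : Scheme.{u}} (c : ℕ) (i : Z ⟶ X) : Prop :=
  IsImmersion i ∧ ∀ z : Z, ∃ U : X.affineOpens, i z ∈ U.1 ∧ IsClosedImmersion (i ∣_ U.1) ∧
    ∃ rs : List Γ(X, U.1), rs.length = c ∧ CAlgX.IsH1Regular rs.get ∧
      RingHom.ker (i.app U.1).hom = Ideal.ofList rs

theorem h1Codim_of_regular {Z X : Scheme.{u}} {c : ℕ} {i : Z ⟶ X}
    (hi : RegImm.IsRegularImmersionOfCodim .regular c i) : H1Codim c i :=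
  ⟨hi.1, fun z => by
    obtain ⟨U, hzU, hci, rs, hlen, hrs, hker⟩ := hi.2 z
    exact ⟨U, hzU, hci, rs, hlen, SeqKinds.isH1Regular_of_isKoszulRegularSeq rs
      (KoszulFwd.isKoszulRegularSeq_of_isWeaklyRegular rs hrs.toIsWeaklyRegular), hker⟩⟩

theorem h1Codim_baseChange {Z X S S' : Scheme.{u}} (f : X ⟶ S) (i : Z ⟶ X) {c : ℕ}
    (hi : H1Codim c i) [Flat (i ≫ f)] (g : S' ⟶ S) :
    H1Codim c (pullback.snd i (pullback.fst f g)) := by
  have himm : IsImmersion i := hi.1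
  let g₀ := pullback.fst f g
  have hsq := IsPullback.of_hasPullback i g₀
  refine ⟨MorphismProperty.of_isPullback hsq himm, fun y' => ?_⟩
  obtain ⟨U, hzU, hci, rs, hlen, hrs, hI⟩ := hi.2 (pullback.fst i g₀ y')
  obtain ⟨W, hW, hzW, -⟩ := exists_isAffineOpen_mem_and_subset (Opens.mem_top (f (i (pullback.fst i g₀ y'))))
  obtain ⟨U₁, hU₁, hzU₁, hle⟩ :=
    exists_isAffineOpen_mem_and_subset (U := U.1 ⊓ f ⁻¹ᵁ W) (x := i (pullback.fst i g₀ y')) ⟨hzU, hzW⟩
  have e₁ : U₁ ≤ (𝟙 X) ⁻¹ᵁ U.1 := fun a ha => (hle ha).1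
  obtain ⟨hci₁, hker₁⟩ := GrothLib.RegSeqLoc.ker_of_isPullback (g := 𝟙 X) (i' := i) (g' := 𝟙 Z)
    (IsPullback.of_horiz_isIso ⟨by simp⟩) U hci hU₁ e₁
  have hUW : U₁ ≤ f ⁻¹ᵁ W := fun a ha => (hle ha).2
  have hφ : ((𝟙 X : X ⟶ X).appLE U.1 U₁ e₁).hom.Flat :=
    HasRingHomProperty.appLE (P := @Flat) (𝟙 X) inferInstance U ⟨U₁, hU₁⟩ e₁
  rw [hI, Ideal.map_ofList] at hker₁
  have hflat : ((Ideal.Quotient.mk (RingHom.ker (i.app U₁).hom)).comp (f.appLE W U₁ hUW).hom).Flat := by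
    obtain ⟨hsurj, hpre⟩ := GrothLib.RegSeqLoc.app_surjective_of_restrict i hU₁ hci₁
    have hfl := HasRingHomProperty.appLE (P := @Flat) (i ≫ f) inferInstance ⟨W, hW⟩ ⟨i ⁻¹ᵁ U₁, hpre⟩
      (fun a ha => hUW ha)
    let e := RingHom.quotientKerEquivOfSurjective hsurj
    have he : (Ideal.Quotient.mk (RingHom.ker (i.app U₁).hom)).comp (f.appLE W U₁ hUW).hom =
        e.symm.toRingHom.comp ((i ≫ f).appLE W (i ⁻¹ᵁ U₁) (fun a ha => hUW ha)).hom := by
      refine RingHom.ext fun a => e.injective ?_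
      show i.app U₁ (f.appLE W U₁ hUW a) = e (e.symm _)
      rw [e.apply_symm_apply]
      rw [← Scheme.Hom.appLE_eq_app, ← CommRingCat.comp_apply]
      erw [Scheme.Hom.appLE_comp_appLE]
    rw [he]
    exact hfl.comp (RingHom.Flat.of_bijective e.symm.bijective)
  obtain ⟨T, hT, hyT, hTW⟩ := exists_isAffineOpen_mem_and_subset (U := g ⁻¹ᵁ W)
    (x := pullback.snd f g (pullback.snd i g₀ y')) (by
      show g (pullback.snd f g (pullback.snd i g₀ y')) ∈ W
      rw [← Scheme.Hom.comp_apply, ← pullback.condition, Scheme.Hom.comp_apply, ← Scheme.Hom.comp_apply _ g₀,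
        ← hsq.w, Scheme.Hom.comp_apply]
      exact hzW)
  have H : IsPullback g₀ (pullback.snd f g) f g := IsPullback.of_hasPullback f g
  haveI : IsAffine W.toScheme := hW
  haveI : IsAffine U₁.toScheme := hU₁
  haveI : IsAffine T.toScheme := hT
  have hpo := (isIso_pushoutSection_iff H hTW hUW rfl).1
    (isIso_pushoutSection_of_isAffineOpen H hTW hUW rfl hW hT hU₁)
  have hV : IsAffineOpen (g₀ ⁻¹ᵁ U₁ ⊓ pullback.snd f g ⁻¹ᵁ T) :=
    .of_isIso (Scheme.Hom.isPullback_resLE H hTW hUW rfl).isoPullback.hom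
  obtain ⟨hci₂, hker₂⟩ := GrothLib.RegSeqLoc.ker_of_isPullback hsq ⟨U₁, hU₁⟩ hci₁ hV inf_le_left
  rw [hker₁, Ideal.map_ofList] at hker₂
  refine ⟨⟨_, hV⟩, ⟨?_, hyT⟩, hci₂, _, by simpa using hlen, ?_, hker₂⟩
  · show g₀ (pullback.snd i g₀ y') ∈ U₁
    rw [← Scheme.Hom.comp_apply, ← hsq.w, Scheme.Hom.comp_apply]
    exact hzU₁
  set φ₁ := ((𝟙 X : X ⟶ X).appLE U.1 U₁ e₁).hom
  set φ₂ := (g₀.appLE U₁ (g₀ ⁻¹ᵁ U₁ ⊓ pullback.snd f g ⁻¹ᵁ T) inf_le_left)
  have hspan : Ideal.span (Set.range ((φ₁ ∘ rs.get) : Fin rs.length → Γ(X, U₁))) = RingHom.ker (i.app U₁).hom := by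
    rw [hker₁, Ideal.ofList]
    congr 1
    ext a
    rw [Set.range_comp, Set.range_list_get]
    simp
  rw [← hspan] at hflat
  have hget : ∀ (P : ∀ {c : ℕ}, (Fin c → Γ(pullback f g, g₀ ⁻¹ᵁ U₁ ⊓ pullback.snd f g ⁻¹ᵁ T)) → Prop),
      P (fun j => φ₂ (φ₁ (rs.get j))) → P ((rs.map φ₁).map φ₂).get := by
    intro P h
    have : ∀ (c : ℕ) (hc : c = rs.length), P (fun j => φ₂ (φ₁ (rs.get (Fin.cast hc j)))) := by
      rintro c rfl; exact h
    have e : ((rs.map φ₁).map φ₂).get = fun j => φ₂ (φ₁ (rs.get (Fin.cast (by simp) j))) := by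
      funext j; simp
    rw [e]; exact this _ (by simp)
  obtain ⟨h1, h2⟩ := GrothLib.SeqKinds.map_of_isPushout hpo (φ₁ ∘ rs.get) hflat
  exact hget CAlgX.IsH1Regular (h1 (GrothLib.SeqKinds.isH1Regular_map φ₁ hφ _ hrs))


theorem h1Codim_iso {Z Z' X : Scheme.{u}} (e : Z' ≅ Z) {i : Z ⟶ X} {c : ℕ} (hi : H1Codim c i) :
    H1Codim c (e.hom ≫ i) := by
  haveI := hi.1
  refine ⟨inferInstance, fun z => ?_⟩
  obtain ⟨U, hzU, hci, rs, hlen, hrs, hker⟩ := hi.2 (e.hom z)
  obtain ⟨hci', hker'⟩ := RegSeqLoc.ker_of_isPullback (i := i) (g := 𝟙 X) (i' := e.hom ≫ i) (g' := e.hom)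
    (IsPullback.of_horiz_isIso ⟨by simp⟩) U hci U.2 le_rfl
  refine ⟨U, hzU, hci', rs, hlen, hrs, ?_⟩
  rw [hker', hker]
  have : (Scheme.Hom.appLE (𝟙 X : X ⟶ X) U.1 U.1 le_rfl).hom = RingHom.id _ := by
    simp only [Scheme.Hom.appLE, Scheme.Hom.id_app, CommRingCat.hom_comp, CommRingCat.hom_id, RingHom.comp_id]
    ext a
    exact congrArg (fun m : U.1 ⟶ U.1 => X.presheaf.map m.op a) (Subsingleton.elim (homOfLE le_rfl) (𝟙 U.1))
      |>.trans (ConcreteCategory.congr_hom (X.presheaf.map_id (op U.1)) a)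
  rw [this, Ideal.map_id]

set_option backward.isDefEq.respectTransparency false in
theorem rank_conormal_h1 {Z Y : Scheme.{u}} (i : Z ⟶ Y) [QuasiCompact i] {c : ℕ}
    (hi : H1Codim c i) : FlatMod.IsFinLocFreeOfRank c (Omega.conormal i) := by
  classical
  intro z
  obtain ⟨U, hzU, hci, rs, hlen, h1, hker⟩ := hi.2 z
  subst hlen
  obtain ⟨hsur, hT⟩ := RegSeqLoc.app_surjective_of_restrict i U.2 hci
  have hs : i.ker.ideal U = Ideal.span (Set.range rs.get) := by
    rw [i.ker_apply, hker, Set.range_list_get]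
  obtain ⟨e⟩ : Nonempty ((Fin rs.length → Γ(Z, i ⁻¹ᵁ U.1)) ≃ₗ[Γ(Z, i ⁻¹ᵁ U.1)] Γ(Omega.conormal i, i ⁻¹ᵁ U.1)) :=
    RegImm12.exists_equiv_sections i i.ker le_rfl U rs.get hs
      (fun a ha k => hs ▸ RegImm12.mem_span_of_h1 h1 ha k) ⟨i ⁻¹ᵁ U.1, hT⟩ le_rfl
  haveI := H1Sheaf6.isQuasicoherent_idealMod i.ker
  haveI : (Omega.conormal i).IsQuasicoherent := FittSheaf.isQuasicoherent_pullback i _
  have hfr : FinCov.IsFrame (Omega.conormal i) (i ⁻¹ᵁ U.1) (fun k => e (Pi.single k 1)) := by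
    refine Adj27.isFrame_of_affine _ hT _ ?_
    have : ⇑(Fintype.linearCombination Γ(Z, i ⁻¹ᵁ U.1) fun k => e (Pi.single k 1)) = ⇑e := funext fun b => by
      rw [Fintype.linearCombination_apply]
      simp only [← map_smul, ← map_sum]
      congr 1
      funext k
      simp [Finset.sum_apply, Pi.single_apply]
    show Function.Bijective ⇑(Fintype.linearCombination Γ(Z, i ⁻¹ᵁ U.1) fun k => e (Pi.single k 1))
    rw [this]
    exact e.bijective
  exact ⟨i ⁻¹ᵁ U.1, hzU, FinCov.exists_iso_of_frame hfr⟩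

set_option backward.isDefEq.respectTransparency false in
/-- The canonical sheaf commutes with flat base change. -/
theorem nonempty_iso_baseChange {X Y Y' Z Z₂ : Scheme.{u}} (f : X ⟶ Y) (u : Y' ⟶ Y) (hfl : Flat f ∨ Flat u)
    (i : X ⟶ Z) (g : Z ⟶ Y) (h : i ≫ g = f) [QuasiCompact i] [QuasiSeparated g] {c n : ℕ}
    (hi : RegImm.IsRegularImmersionOfCodim .regular c i) (hg : SmoothOfRelativeDimension n g)
    {ω : X.Modules} (hω : Canon.IsCanonicalVia i g c n ω)
    (i₂ : pullback f u ⟶ Z₂) (g₂ : Z₂ ⟶ Y') (h₂ : i₂ ≫ g₂ = pullback.snd f u) [QuasiCompact i₂]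
    [QuasiSeparated g₂] {c₂ n₂ : ℕ}
    (hi₂ : RegImm.IsRegularImmersionOfCodim .regular c₂ i₂) (hg₂ : SmoothOfRelativeDimension n₂ g₂)
    {ω' : (pullback f u).Modules} (hω' : Canon.IsCanonicalVia i₂ g₂ c₂ n₂ ω') :
    Nonempty (ω' ≅ (Scheme.Modules.pullback (pullback.fst f u)).obj ω) := by
  haveI : IsImmersion i := hi.1
  haveI := hg
  let t := pullback.fst f u
  let g₀ := pullback.fst g u
  let g' := pullback.snd g u
  haveI : SmoothOfRelativeDimension n g' :=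
    (smoothOfRelativeDimension_isStableUnderBaseChange n).of_isPullback (IsPullback.of_hasPullback g u) hg
  haveI : QuasiSeparated g' := inferInstanceAs (QuasiSeparated (pullback.snd g u))
  let i' : pullback f u ⟶ pullback g u := pullback.lift (t ≫ i) (pullback.snd f u)
    (by rw [Category.assoc, h]; exact pullback.condition)
  have hi'g : i' ≫ g' = pullback.snd f u := pullback.lift_snd _ _ _
  have hsq : IsPullback t i' i g₀ := by
    refine IsPullback.of_bot ?_ (pullback.lift_fst _ _ _).symm (IsPullback.of_hasPullback g u)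
    rw [hi'g, h]
    exact IsPullback.of_hasPullback f u
  haveI : IsImmersion i' := MorphismProperty.of_isPullback hsq ‹IsImmersion i›
  haveI : QuasiCompact i' := MorphismProperty.of_isPullback hsq ‹QuasiCompact i›
  have rC := rank_conormal i hi
  obtain ⟨φ, hφ, -⟩ := ConStalk4.existsUnique (i := i') (i' := i) (g := g₀) (gZ := t) hsq.w
  obtain ⟨hepi, hiso⟩ := Groth.Agent.S9372.result i' i g₀ t hsq.flip φ hφ
  haveI := hepi
  have rP := OX.isFinLocFreeOfRank_pullback t rC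
  haveI : IsIso φ := by
    rcases hfl with hf | hu
    · haveI : Flat (i ≫ g) := by rw [h]; exact hf
      have h1 := h1Codim_baseChange g i (h1Codim_of_regular hi) u
      have hc' : H1Codim c i' := by
        have e : i' = hsq.isoPullback.hom ≫ pullback.snd i g₀ := hsq.isoPullback_hom_snd.symm
        rw [e]
        exact h1Codim_iso hsq.isoPullback h1
      exact ASBun21.HorrocksGen.isIso_of_epi_rank rP (rank_conormal_h1 i' hc') φ
    · haveI : Flat g₀ := MorphismProperty.of_isPullback (IsPullback.of_hasPullback g u).flip hu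
      exact hiso inferInstance
  have rC' : FlatMod.IsFinLocFreeOfRank c (Omega.conormal i') := OX.isFinLocFreeOfRank_of_iso (asIso φ) rP
  -- the differentials
  have hd := Groth.Agent.S5005.result g
  have hd' := Groth.Agent.S5005.result g'
  obtain ⟨cP, hcP, -⟩ := OmegaLocal4.existsUnique_compat g₀ u (IsPullback.of_hasPullback g u).w.symm
    (OmegaSh.dOmega g) hd (OmegaSh.dOmega g')
  haveI := Groth.Agent.S9386.result g u g₀ g' (IsPullback.of_hasPullback g u) _ _ hd _ _ hd' cP hcP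
  obtain ⟨DC, DΩ, hDC, hDΩ, ⟨e⟩⟩ := hω
  have fC' := FinCov.isFinLocFree_of_rank rC'
  obtain ⟨eC⟩ := ExtPowX.nonempty_iso
    (ExtPowX.isExtPow_pullback (f := t) (FinCov.isFinLocFree_of_rank rC) hDC) (ExtPowX.isExtPow_wedge fC' c) (asIso φ)
  have rg := rank_omega g n
  obtain ⟨eΩ⟩ := ExtPowX.nonempty_iso
    (ExtPowX.isExtPow_pullback (f := g₀) (FinCov.isFinLocFree_of_rank rg) hDΩ)
    (ExtPowX.isExtPow_wedge (Adj27.isFinLocFree_omega g' n) n) (asIso cP)
  have hvia : Canon.IsCanonicalVia i' g' c n ((Scheme.Modules.pullback t).obj ω) :=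
    ⟨_, _, ExtPowX.isExtPow_wedge fC' c, ExtPowX.isExtPow_wedge (Adj27.isFinLocFree_omega g' n) n,
      ⟨Ample.LineData.tensorModMapIso (Iso.refl _) eC.symm ≪≫ (OX.pullTensorIso t ω DC).symm ≪≫
        (Scheme.Modules.pullback t).mapIso e ≪≫ (Scheme.Modules.pullbackComp t i).app DΩ ≪≫
        (Scheme.Modules.pullbackCongr hsq.w).app DΩ ≪≫ ((Scheme.Modules.pullbackComp i' g₀).app DΩ).symm ≪≫
        (Scheme.Modules.pullback i').mapIso eΩ⟩⟩
  haveI : IsImmersion i₂ := hi₂.1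
  exact nonempty_iso_pair_rank i₂ g₂ i' g' (h₂.trans hi'g.symm) (rank_conormal i₂ hi₂) hg₂ rC' inferInstance hω' hvia

end GrothLib.Canon12
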