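import Groth.Agent.Lib.Canon12.NegDegree
import Groth.Agent.Lib.Contract29.ArSurf
import Groth.Agent.Lib.ExcP1.Factor
import Groth.Agent.Lib.ArSurf29.ExcTransport
import Groth.Agent.Lib.ArSurf29.RelMinExists
import Groth.Agent.Lib.ResProp22.Ample
import Groth.Agent.S3254

/-!
# Relative minimality and nefness of the canonical sheaf
-/

set_option autoImplicit false
set_option linter.all false
set_option backward.isDefEq.respectTransparency false
set_option maxHeartbeats 1000000

universe u

open CategoryTheory CategoryTheory.Limits AlgebraicGeometry TopologicalSpace IsLocalRing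

noncomputable section

namespace GrothLib.Canon12

open GrothLib.ArSurf29

variable {R : Type u} [CommRing R] [IsDomain R] [IsDiscreteValuationRing R] {X : Over (Spec (CommRingCat.of R))}

theorem apply_eq_closedPoint_of_isClosed {Y : Scheme.{u}} (q : Y ⟶ Spec (CommRingCat.of R)) [IsProper q]
    {y : Y} (hy : IsClosed ({y} : Set Y)) : q y = closedPoint R := by
  have h := q.isClosedMap _ hy
  rw [Set.image_singleton] at h
  exact ((IsLocalRing.specializes_closedPoint (q y)).mem_closed h rfl).symm

theorem exists_inverse_ideal (hX : ArSurf.IsArithSurface R X) (E : ArSurf.VertComp R X) :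
    ∃ L : X.left.Modules, ClSub.IsInverseOf L (ClSub.idealMod E.ι.ker) := by
  haveI := hX.2.1
  haveI := hX.2.2.2.1
  haveI := isProper_of_isArithSurface hX
  haveI := isLocallyNoetherian_of_isArithSurface hX
  have hI := IdealModSec.isInvertible_of_isEffCartier (isEffCartier_ker (isMaxComp_of_isArithSurface hX E) hX.1)
  refine ⟨HodgeIndex.rep (Cube.clsMod hI)⁻¹, ?_⟩
  exact (Cube.clsMod_eq_one_iff (Ample.isInvertible_tensorMod (HodgeIndex.isInv_rep _) hI)).1 (by
    rw [Cube.clsMod_tensorMod (HodgeIndex.isInv_rep _) hI, HodgeIndex.cls_rep, inv_mul_cancel])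

/-- A relatively minimal surface with fibres of positive genus has a nef canonical sheaf. -/
theorem nef_of_isRelMinimal (hX : ArSurf.IsArithSurface R X)
    (hg : FGA.eulerCharLE (FractionRing R) ((Neron.genericFibre R).obj X).left
      (Coh.structureModule ((Neron.genericFibre R).obj X).left) 1 ≤ 0)
    (ω : X.left.Modules) (hω : Canon.IsCanonical X.hom ω) (hmin : Neron.IsRelMinimalRegularModel R X)
    (C : ArSurf.VertComp R X) : 0 ≤ ArSurf.inter R X ω C := by
  by_contra hK
  push Not at hK
  obtain ⟨L, hL⟩ := exists_inverse_ideal hX C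
  obtain ⟨k', i1, i2, hfin, e, he, hself⟩ := (exceptional_iff hX C L hL ω hω).1.2
    ⟨hK, selfInter_neg hX hg C L hL ω hω hK⟩
  obtain ⟨Y, f, y, hy, hY, hfy, -, hiso⟩ := Groth.Agent.S3254.result R X hX C k' e he L hL hself
  haveI := isProper_of_isArithSurface hY
  haveI := hiso
  have hgen : IsIso ((Neron.genericFibre R).map f) := by
    refine Contract29.isIso_genericFibre_map f ⟨{y}ᶜ, hy.isOpen_compl⟩ fun z hz h => ?_
    rw [Set.mem_singleton_iff] at h
    subst h
    rw [apply_eq_closedPoint_of_isClosed Y.hom hy] at hz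
    exact IsDiscreteValuationRing.not_a_field R hz
  haveI := hmin.2.2.2 Y hY.1 hY.2.2.2.2 hY.2.2.2.1 f hgen
  haveI : IsIso f.left := (Over.forget _).map_isIso f
  haveI := C.isClosedImmersion
  haveI : Subsingleton C.curve.left := ⟨fun a b => by
    have h : ∀ c, f.left (C.ι c) = y := fun c => hfy.le ⟨c, rfl⟩
    exact C.ι.isEmbedding.injective (f.left.homeomorph.injective ((h a).trans (h b).symm))⟩
  haveI : Subsingleton (IrreducibleCloseds C.curve.left) := ⟨fun s t => IrreducibleCloseds.ext
    ((Set.subsingleton_of_subsingleton.eq_singleton_of_mem s.isIrreducible.nonempty.some_mem).trans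
      ((Set.subsingleton_of_subsingleton.eq_singleton_of_mem t.isIrreducible.nonempty.some_mem).trans
        (congrArg _ (Subsingleton.elim _ _))).symm)⟩
  have h0 : topologicalKrullDim C.curve.left ≤ 0 := Order.krullDim_nonpos_of_subsingleton
  rw [C.dim_eq] at h0
  exact absurd h0 (by norm_num)

/-- An exceptional curve of the first kind has negative canonical degree. -/
theorem canonical_inter_neg_of_isExcCurve (hX : ArSurf.IsArithSurface R X) (Γ : ArSurf.VertComp R X)
    (h : Models.IsExcCurve Γ.ι) (ω : X.left.Modules) (hω : Canon.IsCanonical X.hom ω) :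
    ArSurf.inter R X ω Γ < 0 := by
  haveI := hX.2.1
  haveI := hX.2.2.2.1
  haveI := isProper_of_isArithSurface hX
  haveI := isLocallyNoetherian_of_isArithSurface hX
  obtain ⟨L, hL⟩ := exists_inverse_ideal hX Γ
  obtain ⟨h1, hs⟩ := h1_inter_of_isExcCurve Γ h.1 hL h
  have adj := selfInter_add_canonical_inter hX Γ L hL ω hω
  simp only [FGA.eulerCharLE, Finset.sum_range_succ, Finset.sum_range_zero, pow_zero, pow_one] at adj
  have hw : (0 : ℤ) < Models.wdeg R X Γ := by exact_mod_cast wdeg_pos Γ
  simp only [Models.h1, Models.wdeg] at h1 hs hw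
  rw [h1, hs] at adj
  omega

/-- A surface with a nef canonical sheaf is relatively minimal. -/
theorem isRelMinimal_of_nef (hX : ArSurf.IsArithSurface R X) (ω : X.left.Modules) (hω : Canon.IsCanonical X.hom ω)
    (hnef : ∀ C : ArSurf.VertComp R X, 0 ≤ ArSurf.inter R X ω C) : Neron.IsRelMinimalRegularModel R X := by
  haveI := hX.2.1
  haveI := hX.2.2.2.1
  haveI := isProper_of_isArithSurface hX
  haveI := isLocallyNoetherian_of_isArithSurface hX
  refine ⟨hX.1, hX.2.2.2.2, inferInstance, fun Z hZ hZp hZf g hg => ?_⟩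
  haveI := hg
  haveI := hZf
  haveI : IsProper Z.hom := by
    obtain ⟨n, i, hi, hw⟩ := hZp
    haveI := hi
    haveI := GrothLib.Chow.isProper_toBase n (Spec (CommRingCat.of R))
    exact hw ▸ inferInstance
  obtain ⟨hZint, -, -⟩ := target_integral g hZ
  haveI : IsProper (g.left ≫ Z.hom) := by rw [Over.w g]; infer_instance
  haveI : IsProper g.left := IsProper.of_comp g.left Z.hom
  haveI : CompactSpace X.left := QuasiCompact.compactSpace_of_compactSpace X.hom
  haveI : IsNoetherian X.left := {}
  haveI : IsLocallyNoetherian Z.left := LocallyOfFiniteType.isLocallyNoetherian Z.hom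
  haveI : CompactSpace Z.left := QuasiCompact.compactSpace_of_compactSpace Z.hom
  haveI : IsNoetherian Z.left := {}
  let j := pullback.fst Z.hom (Neron.genPt R)
  obtain ⟨ϖ, hϖ⟩ := IsDiscreteValuationRing.exists_irreducible R
  haveI := isLocalizationAway_fractionRing hϖ
  haveI : IsOpenImmersion (Neron.genPt R) := IsOpenImmersion.of_isLocalization ϖ
  haveI : IsOpenImmersion j := inferInstance
  haveI hiso : IsIso (g.left ∣_ j.opensRange) := by
    let m := ((Neron.genericFibre R).map g).left
    haveI : IsIso m := (Over.forget _).map_isIso ((Neron.genericFibre R).map g)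
    have hsq : IsPullback (pullback.fst X.hom (Neron.genPt R)) m g.left j := by
      refine IsPullback.of_bot ?_ (pullback.lift_fst _ _ _).symm (IsPullback.of_hasPullback Z.hom (Neron.genPt R))
      rw [Over.w g, show m ≫ pullback.snd Z.hom (Neron.genPt R) = pullback.snd X.hom (Neron.genPt R) from
        pullback.lift_snd _ _ _]
      exact IsPullback.of_hasPullback X.hom (Neron.genPt R)
    haveI : IsIso (pullback.snd g.left j) := by
      rw [← hsq.isoPullback_inv_snd]
      infer_instance
    exact (MorphismProperty.arrow_mk_iso_iff (MorphismProperty.isomorphisms Scheme)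
      (morphismRestrictOpensRange g.left j)).2 ‹_›
  have hne : (j.opensRange : Set Z.left).Nonempty := by
    refine ⟨genericPoint Z.left, ?_⟩
    exact (range_fst_genPt Z.hom).ge (hom_genericPoint Z.hom)
  have hseq := GrothLib.ExcP1.isContractionSeq_of_birational hX.1 hX.2.2.1.le _ hZ g.left j.opensRange hne hiso le_rfl
  have key : ∀ {A B : Scheme.{u}} {r : A ⟶ B}, Models.IsContractionSeq r → IsIso r ∨
      ∃ (E : Scheme.{u}) (ι : E ⟶ A) (_ : IsClosedImmersion ι), Models.IsExcCurve ι ∧
        ∃ b : B, Set.range (ι ≫ r) = {b} := by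
    intro A B r hr
    cases hr with
    | iso e => exact Or.inl inferInstance
    | @step _ M _ E ι b t hι hE hb ht =>
      obtain ⟨-, -, y, hy, hrange, -⟩ := hb
      refine Or.inr ⟨E, ι, hι, hE, t y, ?_⟩
      rw [← Category.assoc, Scheme.Hom.comp_base, TopCat.coe_comp, Set.range_comp, hrange, Set.image_singleton]
  obtain h | ⟨E, ι, hι, hE, b, hb⟩ := key hseq
  · haveI : IsIso ((Over.forget _).map g) := h
    exact isIso_of_reflects_iso g (Over.forget _)
  exfalso
  haveI := hι
  have hbc : IsClosed ({b} : Set Z.left) := by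
    rw [← hb]
    exact (ι ≫ g.left).isClosedMap.isClosed_range
  obtain ⟨F, hF, -⟩ := exists_vertComp_of_excCurve ι hE fun e => by
    rw [← over_apply g, show g.left (ι e) = b from hb.le ⟨e, rfl⟩]
    exact apply_eq_closedPoint_of_isClosed Z.hom hbc
  exact (canonical_inter_neg_of_isExcCurve hX F hF ω hω).not_ge (hnef F)

end GrothLib.Canon12
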