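import Groth.Agent.Lib.Canon12.CanonModelAut
import Groth.Agent.Lib.Canon12.Minimal
import Groth.Agent.Lib.OmegaSheaf.Basic
import Groth.Agent.Lib.InvHartogs26.Basic
import Groth.Agent.Lib.HodgeIndex.IdealLe
import Groth.Agent.Lib.NonPure12.Points
import Groth.Agent.Lib.Contract29.Twist
import Groth.Agent.Lib.Contract29.MinimalUnique
import Groth.Agent.Lib.Contract29.ProperAmple
import Groth.Agent.Lib.EssDim.ConicCurve
import Groth.Agent.Lib.ProjPic26.Main
import Groth.Agent.S7922
import Groth.Agent.S7929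
import Groth.Agent.S8652
import Groth.Agent.S8905
import Groth.Agent.S5003

/-!
# The canonical sheaf of a blow-up in a point
-/

set_option autoImplicit false
set_option linter.all false
set_option backward.isDefEq.respectTransparency false
set_option maxHeartbeats 1000000

universe u

open CategoryTheory CategoryTheory.Limits AlgebraicGeometry TopologicalSpace IsLocalRing

noncomputable section

namespace GrothLib.Canon12

open GrothLib.ArSurf29
open GrothLib.Cube (Pic clsMod)

/-- A canonical sheaf is invertible. -/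
theorem isInvertible_of_isCanonical {X S : Scheme.{u}} {p : X ⟶ S} {ω : X.Modules} (hω : Canon.IsCanonical p ω) :
    PicF.IsInvertible ω := by
  obtain ⟨Z, i, g, c, n, hig, hi, hg, hqc, hqs, DC, DΩ, hDC, hDΩ, ⟨a⟩⟩ := hω
  haveI := hg
  haveI := hi.1
  exact FMAdj25.isInvertible_of_tensor (PBDeg.isInvertible_extPow (rank_conormal i hi) hDC)
    (RelProjK.isInvertible_of_iso a (Ample.isInvertible_pullback i (PBDeg.isInvertible_extPow (rank_omega g n) hDΩ)))

/-- Two canonical sheaves are isomorphic. -/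
theorem nonempty_iso_of_isCanonical {X S : Scheme.{u}} [IsLocallyNoetherian S] {p : X ⟶ S} [LocallyOfFiniteType p]
    [QuasiCompact p] {ω₁ ω₂ : X.Modules} (h₁ : Canon.IsCanonical p ω₁) (h₂ : Canon.IsCanonical p ω₂) :
    Nonempty (ω₁ ≅ ω₂) := by
  obtain ⟨Z₁, i₁, g₁, c₁, n₁, e₁, hi₁, hg₁, hqc₁, hqs₁, hv₁⟩ := h₁
  obtain ⟨Z₂, i₂, g₂, c₂, n₂, e₂, hi₂, hg₂, hqc₂, hqs₂, hv₂⟩ := h₂
  exact Groth.Agent.S13305.result X S Z₁ Z₂ p i₁ g₁ i₂ g₂ e₁ e₂ c₁ n₁ c₂ n₂ hi₁ hg₁ hi₂ hg₂ ω₁ ω₂ hv₁ hv₂

/-- Transport of a canonical sheaf along an isomorphism. -/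
theorem isCanonical_pullback_iso {X X' S : Scheme.{u}} {p : X ⟶ S} {p' : X' ⟶ S} (φ : X' ≅ X)
    (hφ : φ.hom ≫ p = p') {ω : X.Modules} (hω : Canon.IsCanonical p ω) :
    Canon.IsCanonical p' ((Scheme.Modules.pullback φ.hom).obj ω) := by
  obtain ⟨Z, i, g, c, n, hig, hi, hg, hqc, hqs, hvia⟩ := hω
  haveI := hqc
  haveI := hqs
  haveI := hg
  haveI := hi.1
  obtain ⟨-, hv⟩ := via_transfer (i := i) (i' := φ.hom ≫ i) (t := φ.hom) (q := 𝟙 Z)
    (IsPullback.of_horiz_isIso ⟨by simp⟩) (g := g) (g' := g) ((Scheme.Modules.pullbackId Z).app _)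
    (rank_conormal i hi) hvia
  exact ⟨Z, φ.hom ≫ i, g, c, n, by rw [Category.assoc, hig, hφ], regularCodim_iso φ hi, hg, inferInstance, hqs, hv⟩

/-- Restriction of a canonical sheaf to an open subscheme. -/
theorem isCanonical_restrict {X S : Scheme.{u}} [IsLocallyNoetherian S] {p : X ⟶ S} {ω : X.Modules}
    (hω : Canon.IsCanonical p ω) (V : X.Opens) :
    Canon.IsCanonical (V.ι ≫ p) ((Scheme.Modules.pullback V.ι).obj ω) := by
  obtain ⟨Z, i, g, c, n, hig, hi, hg, hqc, hqs, hv⟩ := hω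
  haveI := hg
  haveI := hi.1
  haveI := hqc
  haveI := hqs
  haveI : Smooth g := SmoothOfRelativeDimension.smooth n g
  haveI : IsLocallyNoetherian Z := LocallyOfFiniteType.isLocallyNoetherian g
  obtain ⟨O, rfl⟩ : ∃ O : Z.Opens, i ⁻¹ᵁ O = V := by
    obtain ⟨s, hs, hsV⟩ := i.isEmbedding.isInducing.isOpen_iff.1 V.2
    exact ⟨⟨s, hs⟩, Opens.ext hsV⟩
  have sq : IsPullback (i ∣_ O) (i ⁻¹ᵁ O).ι O.ι i := isPullback_morphismRestrict i O
  haveI : IsImmersion (i ∣_ O) := MorphismProperty.of_isPullback sq.flip hi.1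
  haveI : QuasiCompact (i ∣_ O) := MorphismProperty.of_isPullback sq.flip hqc
  haveI : SmoothOfRelativeDimension n (O.ι ≫ g) := by
    have : SmoothOfRelativeDimension (0 + n) (O.ι ≫ g) := inferInstance
    rwa [Nat.zero_add] at this
  obtain ⟨a⟩ := OmegaSheaf.nonempty_pullback_sheaf O.ι g
  obtain ⟨r, hv'⟩ := via_transfer sq.flip a (rank_conormal i hi) hv
  have hreg : RegImm.IsRegularImmersion .regular i := isRegularImmersion_of_codim hi
  have hk := Groth.Agent.S8652.result i O.ι (i ∣_ O) (i ⁻¹ᵁ O).ι sq.flip ((Groth.Agent.S8905.result i).1 hreg)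
  have hreg' : RegImm.IsRegularImmersion .regular (i ∣_ O) := (Groth.Agent.S5003.result _).2
    ((Groth.Agent.S8905.result _).2.2 ((Groth.Agent.S8905.result _).2.1 hk))
  exact ⟨_, i ∣_ O, O.ι ≫ g, c, n, by rw [morphismRestrict_ι_assoc, hig],
    isRegularImmersionOfCodim_of_rank _ hreg' r, inferInstance, inferInstance, inferInstance, hv'⟩

variable {R : Type u} [CommRing R] [IsDomain R] [IsDiscreteValuationRing R]

/-- The blow-up of an arithmetic surface in a point of its closed fibre is an arithmetic surface. -/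
theorem isArithSurface_blowUp {Y : Over (Spec (CommRingCat.of R))} (hY : ArSurf.IsArithSurface R Y)
    (y : Y.left) (hy : IsClosed ({y} : Set Y.left)) (hys : Y.hom.base y = IsLocalRing.closedPoint R)
    {X : Scheme.{u}} (f : X ⟶ Y.left)
    (hf : _root_.BlowUp.IsBlowUp f (Scheme.IdealSheafData.vanishingIdeal ⟨{y}, hy⟩))
    (E : ArSurf.VertComp R (Over.mk (f ≫ Y.hom)))
    (hE : Set.range (E.ι.base : E.curve.left → X) = f.base ⁻¹' {y}) :
    ArSurf.IsArithSurface R (Over.mk (f ≫ Y.hom)) ∧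
      ringKrullDim (Y.left.presheaf.stalk y) = 2 ∧ IsIso (f ∣_ (⟨{y}ᶜ, hy.isOpen_compl⟩ : Y.left.Opens)) := by
  haveI := hY.2.1
  haveI : Flat Y.hom := hY.2.2.2.1
  haveI := isProper_of_isArithSurface hY
  haveI := isLocallyNoetherian_of_isArithSurface hY
  haveI : IsProper f := GrothLib.BlowUpProper.isProper_of_isBlowUp hf
  haveI : IsProper (Over.mk (f ≫ Y.hom)).hom := inferInstanceAs (IsProper (f ≫ Y.hom))
  haveI : CompactSpace Y.left := QuasiCompact.compactSpace_of_compactSpace Y.hom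
  haveI : CompactSpace X := QuasiCompact.compactSpace_of_compactSpace f
  haveI : CompactSpace ↥(Over.mk (f ≫ Y.hom)).left := ‹CompactSpace X›
  haveI := E.isIntegral
  haveI := E.isClosedImmersion
  haveI : CompactSpace E.curve.left := E.ι.isClosedEmbedding.compactSpace
  obtain ⟨c, -, hc⟩ := IsClosed.exists_closed_singleton isClosed_univ (Set.univ_nonempty (α := E.curve.left))
  have hne : genericPoint E.curve.left ≠ c := fun h =>
    GrothLib.CurvePoints.genericPoint_not_isClosed (X := E.curve.left) E.dim_eq (h ▸ hc)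
  have hbig : ∃ x x' : X, x ≠ x' ∧ f.base x = y ∧ f.base x' = y :=
    ⟨E.ι.base (genericPoint E.curve.left), E.ι.base c, fun h => hne (E.ι.isClosedEmbedding.injective h),
      hE.le ⟨_, rfl⟩, hE.le ⟨_, rfl⟩⟩
  haveI := hY.1 y
  have hd : ringKrullDim (Y.left.presheaf.stalk y) = 2 :=
    GrothLib.ExcP1.dim_eq_two_of_two_points hy
      ((GrothLib.Ref1.ringKrullDim_stalk_le_topologicalKrullDim y).trans hY.2.2.1.le) hf hbig
  haveI : IsIntegral X := GrothLib.ExcP1.integral_of_blowUp hy hd hf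
  haveI : IsIntegral (Over.mk (f ≫ Y.hom)).left := ‹IsIntegral X›
  haveI hiso : IsIso (f ∣_ (⟨{y}ᶜ, hy.isOpen_compl⟩ : Y.left.Opens)) := by
    have h := GrothLib.BlowUp.isIso_off_center hf
    have e : (Scheme.IdealSheafData.vanishingIdeal (⟨{y}, hy⟩ : Closeds Y.left)).support.compl =
        (⟨{y}ᶜ, hy.isOpen_compl⟩ : Y.left.Opens) := Opens.ext (by
      show (_ : Set Y.left)ᶜ = {y}ᶜ
      rw [Scheme.IdealSheafData.coe_support_vanishingIdeal]
      rfl)
    rwa [e] at h
  refine ⟨?_, hd, hiso⟩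
  have hreg : Models.IsRegularScheme (Over.mk (f ≫ Y.hom)).left := fun x =>
    GrothLib.ExcP1.regular_of_blowUp hY.1 hy hd hf x
  have hηy : genericPoint Y.left ≠ y := fun h => by
    have hA : IsField (Y.left.presheaf.stalk y) := h ▸ (inferInstance : Field Y.left.functionField).toIsField
    rw [ringKrullDim_eq_zero_of_isField hA] at hd
    exact absurd hd (by norm_num)
  obtain ⟨x₀, hx₀⟩ : ∃ x : X, f x = genericPoint Y.left := by
    obtain ⟨x, hx⟩ := (f ∣_ (⟨{y}ᶜ, hy.isOpen_compl⟩ : Y.left.Opens)).homeomorph.surjective ⟨_, hηy⟩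
    exact ⟨x.1, (morphismRestrict_base_coe f _ x).symm.trans (congrArg Subtype.val hx)⟩
  have hη0 : Y.hom (genericPoint Y.left) = genericPoint (Spec (CommRingCat.of R)) := by
    refine (genericPoint_spec (Spec (CommRingCat.of R))).eq ?_ |>.symm
    rw [show Y.hom (genericPoint Y.left) = (⊥ : PrimeSpectrum R) from PrimeSpectrum.ext (ArSurf29.hom_genericPoint Y.hom)]
    exact Set.eq_univ_of_forall fun q => specializes_iff_mem_closure.1 ((PrimeSpectrum.le_iff_specializes _ q).1 bot_le)
  haveI : Flat (Over.mk (f ≫ Y.hom)).hom := by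
    show Flat (f ≫ Y.hom)
    refine CurvePoints.flat_of_dominant ?_ (fun q => ?_) (f ≫ Y.hom)
      (((genericPoint_specializes ((f ≫ Y.hom) (genericPoint X))).antisymm ?_).eq.symm)
    · exact (PrimeSpectrum.topologicalKrullDim_eq_ringKrullDim R).le.trans (Ring.krullDimLE_iff.1 inferInstance)
    · exact IsIntegrallyClosed.of_equiv (StructureSheaf.stalkIso R q).toRingEquiv
    · rw [← hη0, ← hx₀, ← Scheme.Hom.comp_apply]
      exact (genericPoint_specializes x₀).map (f ≫ Y.hom).continuous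
  have hdim : topologicalKrullDim (Over.mk (f ≫ Y.hom)).left = 2 := by
    let F : Over.mk (f ≫ Y.hom) ⟶ Y := Over.homMk f rfl
    haveI : IsIso (F.left ∣_ (⟨{y}ᶜ, hy.isOpen_compl⟩ : Y.left.Opens)) := hiso
    haveI : IsIso ((Neron.genericFibre R).map F) := Contract29.isIso_genericFibre_map F ⟨{y}ᶜ, hy.isOpen_compl⟩
      fun z hz h => by
        rw [Set.mem_singleton_iff] at h
        subst h
        rw [hys] at hz
        exact IsDiscreteValuationRing.not_a_field R hz
    haveI : IsIso ((Neron.genericFibre R).map F).left := (Over.forget _).map_isIso ((Neron.genericFibre R).map F)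
    let m : pullback (f ≫ Y.hom) (Neron.genPt R) ≅ pullback Y.hom (Neron.genPt R) :=
      asIso ((Neron.genericFibre R).map F).left
    haveI := Contract29.isIntegral_genericFibre hY
    haveI : Nonempty ↥(pullback (f ≫ Y.hom) (Neron.genPt R)) := ⟨m.inv (genericPoint _)⟩
    haveI : IsIntegral (pullback (f ≫ Y.hom) (Neron.genPt R)) := isIntegral_of_isOpenImmersion m.hom
    refine le_antisymm (dim_le_two_of_model
      (g := pullback.fst (f ≫ Y.hom) (Neron.genPt R)) (f := pullback.snd (f ≫ Y.hom) (Neron.genPt R))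
      (IsPullback.of_hasPullback _ _) hreg ?_) ?_
    · rw [m.hom.homeomorph.isHomeomorph.topologicalKrullDim_eq,
        Contract29.dim_genericFibre hY (IsDiscreteValuationRing.not_isField R)]
    · by_contra h2
      have h1 : topologicalKrullDim X ≤ ((0 + 1 : ℕ) : WithBot ℕ∞) := by
        push Not at h2
        generalize hA : topologicalKrullDim (Over.mk (f ≫ Y.hom)).left = d at h2
        rw [show topologicalKrullDim X = d from hA]
        induction d using WithBot.recBotCoe with
        | bot => exact bot_le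
        | coe a =>
          induction a using ENat.recTopCoe with
          | top => exact absurd h2 (by simp)
          | coe a =>
            have h3 : (a : ℕ∞) < 2 := WithBot.coe_lt_coe.1 h2
            have h2' : a < 2 := (Nat.cast_lt (α := ℕ∞)).1 (h3.trans_le (le_of_eq (by norm_num)))
            have h4 : (a : ℕ∞) ≤ ((0 + 1 : ℕ) : ℕ∞) := Nat.cast_le.2 (by omega)
            exact WithBot.coe_le_coe.2 h4
      have h0 := EssDim.Conic.topologicalKrullDim_add_one_le (A := E.curve.left) (B := X) E.ι.base E.ι.isClosedEmbedding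
        (fun h => hηy (by
          have hx : x₀ ∈ Set.range (E.ι.base : E.curve.left → X) := h.ge trivial
          rw [hE] at hx
          exact hx₀.symm.trans hx)) (n := 0) h1
      rw [E.dim_eq] at h0
      exact absurd h0 (by norm_num)
  obtain ⟨A, hA⟩ := Contract29.exists_isAmple_of_proper (X := Over.mk (f ≫ Y.hom)) hreg hdim
  exact ⟨hreg, inferInstance, hdim, inferInstance, Contract29.isProjectiveOver_of_isAmple _ hA⟩

theorem canonical_blowUp {Y : Over (Spec (CommRingCat.of R))} (hY : ArSurf.IsArithSurface R Y)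
    (y : Y.left) (hy : IsClosed ({y} : Set Y.left)) (hys : Y.hom.base y = IsLocalRing.closedPoint R)
    {X : Scheme.{u}} (f : X ⟶ Y.left)
    (hf : _root_.BlowUp.IsBlowUp f (Scheme.IdealSheafData.vanishingIdeal ⟨{y}, hy⟩))
    (E : ArSurf.VertComp R (Over.mk (f ≫ Y.hom)))
    (hE : Set.range (E.ι.base : E.curve.left → X) = f.base ⁻¹' {y})
    (L : X.Modules) (hL : ClSub.IsInverseOf L (ClSub.idealMod E.ι.ker))
    (ωY : Y.left.Modules) (hωY : Canon.IsCanonical Y.hom ωY)
    (ωX : X.Modules) (hωX : Canon.IsCanonical (f ≫ Y.hom) ωX) :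
    Nonempty (ωX ≅ CohB1.tensorMod ((Scheme.Modules.pullback f).obj ωY) L) := by
  obtain ⟨hX, hd, hiso⟩ := isArithSurface_blowUp hY y hy hys f hf E hE
  haveI := hY.2.1
  haveI := isProper_of_isArithSurface hY
  haveI := isLocallyNoetherian_of_isArithSurface hY
  haveI : IsProper f := GrothLib.BlowUpProper.isProper_of_isBlowUp hf
  haveI := isProper_of_isArithSurface hX
  haveI := isLocallyNoetherian_of_isArithSurface hX
  haveI := E.isClosedImmersion
  haveI := E.isIntegral
  haveI : IsLocallyNoetherian X := ‹IsLocallyNoetherian (Over.mk (f ≫ Y.hom)).left›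
  obtain ⟨hexc, -, -, hself⟩ := Groth.Agent.S7922.result R Y hY y hy hys f hf E hE L hL
  have hI : PicF.IsInvertible (ClSub.idealMod E.ι.ker) := IdealModSec.isInvertible_of_isEffCartier hexc.1
  have hLi : PicF.IsInvertible L := ArSurf29.isInvertible_of_isInverseOf hexc.1 hL
  have iX := isInvertible_of_isCanonical hωX
  have iY := isInvertible_of_isCanonical hωY
  -- the canonical degree of the exceptional curve
  have hdeg : ArSurf.inter R (Over.mk (f ≫ Y.hom)) ωX E = -(Models.wdeg R (Over.mk (f ≫ Y.hom)) E : ℤ) := by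
    obtain ⟨h1, -⟩ := h1_inter_of_isExcCurve (X := Over.mk (f ≫ Y.hom)) E hexc.1 hL hexc
    have adj := selfInter_add_canonical_inter hX E L hL ωX hωX
    simp only [FGA.eulerCharLE, Finset.sum_range_succ, Finset.sum_range_zero, pow_zero, pow_one] at adj
    simp only [Models.h1, Models.wdeg] at h1 hself ⊢
    rw [h1, hself] at adj
    omega
  have hcL : clsMod hLi = (clsMod hI)⁻¹ := cls_of_isInverseOf hLi hI hL
  let x : Pic X := clsMod iX
  let a : Pic X := clsMod hI
  have hia : icl E a = (Models.wdeg R (Over.mk (f ≫ Y.hom)) E : ℤ) := by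
    have h := (inter_eq_icl E hLi).symm.trans hself
    rw [hcL, icl_inv] at h
    show icl E (clsMod hI) = _
    omega
  have hix : icl E x = -(Models.wdeg R (Over.mk (f ≫ Y.hom)) E : ℤ) := (inter_eq_icl E iX).symm.trans hdeg
  -- the class on the curve
  have htriv : Cube.pull E.ι (x * a) = 1 := by
    obtain ⟨-, κ, _, e, ⟨t⟩⟩ := hexc
    have hpa : Cube.pull (e.hom ≫ E.ι) a = clsMod (CMReg.isInvertible_twist (n := 1) (k := κ) 1) := by
      rw [← Cube.clsMod_pullback (e.hom ≫ E.ι) hI]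
      exact (Cube.clsMod_eq_iff _ _).2 ⟨t⟩
    obtain ⟨d, ⟨td⟩⟩ := ProjPic26.exists_iso_twist (n := 1) (R := κ) (Ample.isInvertible_pullback (e.hom ≫ E.ι) iX)
    have hpx : Cube.pull (e.hom ≫ E.ι) x = Cube.pull (e.hom ≫ E.ι) (a ^ d) := by
      rw [map_zpow, hpa, ← Contract29.cls_twist_zpow, ← Cube.clsMod_pullback (e.hom ≫ E.ι) iX]
      exact (Cube.clsMod_eq_iff _ _).2 ⟨td⟩
    have hpx' : Cube.pull E.ι x = Cube.pull E.ι (a ^ d) := by
      have h := congrArg (Cube.pull e.inv) hpx
      simpa only [Cube.pull_comp, Iso.inv_hom_id_assoc, Category.assoc] using h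
    have h0 : icl E (x * (a ^ d)⁻¹) = 0 := by
      have h1 : Cube.pull E.ι (x * (a ^ d)⁻¹) = 1 := by rw [map_mul, map_inv, hpx', mul_inv_cancel]
      obtain ⟨r, hr, hrc⟩ : ∃ (r : X.Modules) (hr : PicF.IsInvertible r), clsMod hr = x * (a ^ d)⁻¹ :=
        ⟨_, HodgeIndex.isInv_rep _, HodgeIndex.cls_rep _⟩
      rw [← hrc, ← inter_eq_icl E hr]
      obtain ⟨u⟩ := (Cube.clsMod_eq_one_iff (Ample.isInvertible_pullback E.ι hr)).1 (by
        rw [Cube.clsMod_pullback E.ι hr, hrc, h1])
      show ArSurf.curveDeg (ResidueField R) E.curve.left _ = 0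
      rw [curveDeg_of_iso (ResidueField R) u, ArSurf.curveDeg, sub_self]
    rw [icl_mul, icl_inv, icl_zpow, hix, hia] at h0
    have hw : (0 : ℤ) < Models.wdeg R (Over.mk (f ≫ Y.hom)) E := by exact_mod_cast wdeg_pos E
    obtain rfl : d = -1 := by nlinarith
    rw [map_mul, hpx', ← map_mul, zpow_neg_one, inv_mul_cancel, map_one]
  have iM := Ample.isInvertible_tensorMod iX hI
  obtain ⟨L', iL', ⟨tL⟩⟩ := (Groth.Agent.S7929.result R Y hY y hy hys f hf E hE).2 _ iM
    ((Cube.clsMod_eq_one_iff (Ample.isInvertible_pullback E.ι iM)).1 (by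
      rw [Cube.clsMod_pullback E.ι iM, Cube.clsMod_tensorMod iX hI]
      exact htriv))
  have hpL : Cube.pull f (clsMod iL') = x * a := by
    rw [← Cube.clsMod_pullback f iL']
    exact ((Cube.clsMod_eq_iff _ iM).2 ⟨tL⟩).trans (Cube.clsMod_tensorMod iX hI)
  -- comparison away from the point
  let U : Y.left.Opens := ⟨{y}ᶜ, hy.isOpen_compl⟩
  let V : X.Opens := f ⁻¹ᵁ U
  haveI : IsIso (f ∣_ U) := hiso
  let φ := asIso (f ∣_ U)
  have hφ : φ.hom ≫ U.ι = V.ι ≫ f := morphismRestrict_ι f U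
  have haV : Cube.pull V.ι a = 1 := by
    haveI : IsIso ((Scheme.Modules.pullback V.ι).map (ClSub.idealModι E.ι.ker)) := HodgeIndex.isoOn_of_bijective (ClSub.idealModι E.ι.ker) V (fun z hz =>
      HodgeIndex.stalk_bijective_idealModι E.ι.ker fun hs => by
        rw [Scheme.Hom.support_ker, E.ι.isClosedEmbedding.isClosed_range.closure_eq, hE] at hs
        exact hz hs)
    rw [← Cube.clsMod_pullback V.ι hI]
    obtain ⟨o⟩ := Ample.nonempty_pullback_structureModule V.ι
    exact (Cube.clsMod_eq_one_iff _).2 ⟨asIso ((Scheme.Modules.pullback V.ι).map (ClSub.idealModι E.ι.ker)) ≪≫ o⟩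
  haveI : IsNoetherian Y.left := { toCompactSpace := QuasiCompact.compactSpace_of_compactSpace Y.hom }
  haveI : IsLocallyNoetherian X := ‹IsLocallyNoetherian (Over.mk (f ≫ Y.hom)).left›
  haveI : IsNoetherian X := { toCompactSpace := QuasiCompact.compactSpace_of_compactSpace f }
  obtain ⟨eV⟩ := nonempty_iso_of_isCanonical (p := V.ι ≫ f ≫ Y.hom)
    (isCanonical_pullback_iso φ (by rw [← Category.assoc, hφ, Category.assoc]) (isCanonical_restrict hωY U))
    (isCanonical_restrict hωX V)
  have hU : Cube.pull U.ι (clsMod iL') = Cube.pull U.ι (clsMod iY) := by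
    have h1 : Cube.pull φ.hom (Cube.pull U.ι (clsMod iL')) = Cube.pull φ.hom (Cube.pull U.ι (clsMod iY)) := by
      rw [Cube.pull_comp, hφ, ← Cube.pull_comp, hpL, map_mul, haV, mul_one,
        ← Cube.clsMod_pullback U.ι iY, ← Cube.clsMod_pullback φ.hom (Ample.isInvertible_pullback U.ι iY),
        ← Cube.clsMod_pullback V.ι iX]
      exact (Cube.clsMod_eq_iff _ _).2 ⟨eV.symm⟩
    have h2 := congrArg (Cube.pull φ.inv) h1
    simpa only [Cube.pull_comp, Iso.inv_hom_id_assoc, Category.assoc] using h2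
  obtain ⟨eU⟩ := (Cube.clsMod_eq_iff (Ample.isInvertible_pullback U.ι iL') (Ample.isInvertible_pullback U.ι iY)).1
    (by rw [Cube.clsMod_pullback U.ι iL', Cube.clsMod_pullback U.ι iY, hU])
  obtain ⟨eY⟩ := InvHartogs26.nonempty_iso_of_restrict (U := U) (fun z hz => by
      have hzy : z = y := not_not.1 hz
      subst hzy
      obtain ⟨_, _⟩ := isNormalScheme_of_regular hY.1 z
      exact GrothLib.FEt21.two_le_depth_of_normal _ hd.ge) iL' iY
    ((Scheme.Modules.restrictFunctorIsoPullback U.ι).app L' ≪≫ eU ≪≫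
      ((Scheme.Modules.restrictFunctorIsoPullback U.ι).app ωY).symm)
  refine (Cube.clsMod_eq_iff iX (Ample.isInvertible_tensorMod (Ample.isInvertible_pullback f iY) hLi)).1 ?_
  rw [Cube.clsMod_tensorMod (Ample.isInvertible_pullback f iY) hLi, Cube.clsMod_pullback f iY,
    ← (Cube.clsMod_eq_iff iL' iY).2 ⟨eY⟩, hpL, hcL]
  show x = x * a * a⁻¹
  rw [mul_inv_cancel_right]

end GrothLib.Canon12
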