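import Groth.Agent.Lib.Canon12.Comp
import Groth.Agent.Lib.ConStalk4.VirtualDimComp
import Groth.Agent.Lib.LCI6.Koszul
import Groth.Agent.Lib.ModelK.Rank
import Groth.Agent.Lib.Grass26.Smooth
import Groth.Agent.Lib.PurIsol6.Main
import Groth.Agent.Lib.EulerPull.Abelian
import Groth.Agent.Lib.Ample.Product
import Groth.Agent.Lib.PPGen.EtaleSquare
import Groth.Agent.S5003
import Groth.Prelude.Def_Dual3

/-!
# The canonical sheaf on a generic fibre
-/

set_option autoImplicit false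
set_option linter.style.haveILetI false
set_option backward.isDefEq.respectTransparency false
set_option maxHeartbeats 4000000

universe u

open CategoryTheory CategoryTheory.Limits AlgebraicGeometry TopologicalSpace Opposite

noncomputable section

namespace GrothLib.Canon12

/-- Transport of a canonical sheaf along a flat map of the middle schemes. -/
theorem via_transfer {X X' V V' S S' : Scheme.{u}} {i : X ⟶ V} [QuasiCompact i] [IsImmersion i]
    {i' : X' ⟶ V'} {t : X' ⟶ X} {q : V' ⟶ V} (hsq : IsPullback t i' i q) [Flat q]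
    {g : V ⟶ S} {g' : V' ⟶ S'} [QuasiSeparated g] [QuasiSeparated g']
    (e : (Scheme.Modules.pullback q).obj (Omega.sheaf g) ≅ Omega.sheaf g') {c n : ℕ}
    [SmoothOfRelativeDimension n g] [SmoothOfRelativeDimension n g']
    (rC : FlatMod.IsFinLocFreeOfRank c (Omega.conormal i)) {ω : X.Modules} (hω : Canon.IsCanonicalVia i g c n ω) :
    FlatMod.IsFinLocFreeOfRank c (Omega.conormal i') ∧
      Canon.IsCanonicalVia i' g' c n ((Scheme.Modules.pullback t).obj ω) := by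
  haveI : IsImmersion i' := MorphismProperty.of_isPullback hsq ‹IsImmersion i›
  haveI : QuasiCompact i' := MorphismProperty.of_isPullback hsq ‹QuasiCompact i›
  obtain ⟨φ, hφ, -⟩ := ConStalk4.existsUnique (i := i') (i' := i) (g := q) (gZ := t) hsq.w
  obtain ⟨-, hiso⟩ := Groth.Agent.S9372.result i' i q t hsq.flip φ hφ
  haveI : IsIso φ := hiso inferInstance
  have rC' : FlatMod.IsFinLocFreeOfRank c (Omega.conormal i') :=
    OX.isFinLocFreeOfRank_of_iso (asIso φ) (OX.isFinLocFreeOfRank_pullback t rC)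
  refine ⟨rC', ?_⟩
  obtain ⟨DC, DΩ, hDC, hDΩ, ⟨a⟩⟩ := hω
  have fC' := FinCov.isFinLocFree_of_rank rC'
  obtain ⟨eC⟩ := ExtPowX.nonempty_iso
    (ExtPowX.isExtPow_pullback (f := t) (FinCov.isFinLocFree_of_rank rC) hDC) (ExtPowX.isExtPow_wedge fC' c) (asIso φ)
  obtain ⟨eΩ⟩ := ExtPowX.nonempty_iso
    (ExtPowX.isExtPow_pullback (f := q) (FinCov.isFinLocFree_of_rank (rank_omega g n)) hDΩ)
    (ExtPowX.isExtPow_wedge (Adj27.isFinLocFree_omega g' n) n) e
  exact ⟨_, _, ExtPowX.isExtPow_wedge fC' c, ExtPowX.isExtPow_wedge (Adj27.isFinLocFree_omega g' n) n,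
    ⟨Ample.LineData.tensorModMapIso (Iso.refl _) eC.symm ≪≫ (OX.pullTensorIso t ω DC).symm ≪≫
      (Scheme.Modules.pullback t).mapIso a ≪≫ (Scheme.Modules.pullbackComp t i).app DΩ ≪≫
      (Scheme.Modules.pullbackCongr hsq.w).app DΩ ≪≫ ((Scheme.Modules.pullbackComp i' q).app DΩ).symm ≪≫
      (Scheme.Modules.pullback i').mapIso eΩ⟩⟩

/-- The canonical sheaf of a composite, given by a diagram of factorisations. -/
theorem nonempty_iso_squares {X Y Z P' P'' V W R : Scheme.{u}} (j : X ⟶ P') (π : P' ⟶ Y) (k : P' ⟶ P'')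
    (π' : P'' ⟶ W) (p' : P'' ⟶ V) (πV : V ⟶ Z) (i₂ : Y ⟶ W) (g₂ : W ⟶ Z)
    (hk : IsPullback k π π' i₂) (hP : IsPullback p' π' πV g₂) {m n₂ c' c₂ : ℕ}
    [SmoothOfRelativeDimension m πV] [SmoothOfRelativeDimension n₂ g₂] [QuasiSeparated πV] [QuasiSeparated g₂]
    [SmoothOfRelativeDimension m π] [QuasiSeparated π]
    [IsImmersion j] [QuasiCompact j] [IsImmersion i₂] [QuasiCompact i₂]
    (hh1 : RegImm.IsRegularImmersion .h1 j) (rj : FlatMod.IsFinLocFreeOfRank c' (Omega.conormal j))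
    (r₂ : FlatMod.IsFinLocFreeOfRank c₂ (Omega.conormal i₂))
    {ω₁ : X.Modules} (hω₁ : Canon.IsCanonicalVia j π c' m ω₁)
    {ω₂ : Y.Modules} (hω₂ : Canon.IsCanonicalVia i₂ g₂ c₂ n₂ ω₂)
    (i₃ : X ⟶ R) (g₃ : R ⟶ Z) (h₃ : i₃ ≫ g₃ = (j ≫ π) ≫ i₂ ≫ g₂) [IsImmersion i₃] [QuasiCompact i₃]
    [QuasiSeparated g₃] {c₃ n₃ : ℕ} (r₃ : FlatMod.IsFinLocFreeOfRank c₃ (Omega.conormal i₃))
    (hg₃ : SmoothOfRelativeDimension n₃ g₃) {ω₃ : X.Modules} (hω₃ : Canon.IsCanonicalVia i₃ g₃ c₃ n₃ ω₃) :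
    Nonempty (ω₃ ≅ CohB1.tensorMod ω₁ ((Scheme.Modules.pullback (j ≫ π)).obj ω₂)) := by
  haveI : SmoothOfRelativeDimension m π' :=
    (smoothOfRelativeDimension_isStableUnderBaseChange m).of_isPullback hP inferInstance
  haveI : Smooth π' := SmoothOfRelativeDimension.smooth m π'
  haveI : QuasiSeparated π' := MorphismProperty.of_isPullback hP ‹QuasiSeparated πV›
  haveI : SmoothOfRelativeDimension n₂ p' :=
    (smoothOfRelativeDimension_isStableUnderBaseChange n₂).of_isPullback hP.flip inferInstance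
  haveI : QuasiSeparated p' := MorphismProperty.of_isPullback hP.flip ‹QuasiSeparated g₂›
  obtain ⟨DC₁, DΩ₁, hDC₁, hDΩ₁, ⟨a₁⟩⟩ := hω₁
  obtain ⟨DC₂, DΩ₂, hDC₂, hDΩ₂, ⟨a₂⟩⟩ := hω₂
  haveI : IsImmersion k := MorphismProperty.of_isPullback hk.flip ‹IsImmersion i₂›
  haveI : QuasiCompact k := MorphismProperty.of_isPullback hk.flip ‹QuasiCompact i₂›
  obtain ⟨φ, hφ, -⟩ := ConStalk4.existsUnique (i := k) (i' := i₂) (g := π') (gZ := π) hk.w.symm
  obtain ⟨-, hiso⟩ := Groth.Agent.S9372.result k i₂ π' π hk φ hφ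
  haveI : IsIso φ := hiso inferInstance
  have rk : FlatMod.IsFinLocFreeOfRank c₂ (Omega.conormal k) :=
    OX.isFinLocFreeOfRank_of_iso (asIso φ) (OX.isFinLocFreeOfRank_pullback π r₂)
  have rjk : FlatMod.IsFinLocFreeOfRank c₂ ((Scheme.Modules.pullback j).obj (Omega.conormal k)) :=
    OX.isFinLocFreeOfRank_pullback j rk
  obtain ⟨a, ha, -⟩ := ConStalk4.existsUnique (i := j ≫ k) (i' := k) (g := 𝟙 _) (gZ := j) (Category.comp_id _).symm
  obtain ⟨b, hb, -⟩ := ConStalk4.existsUnique (i := j) (i' := j ≫ k) (g := k) (gZ := 𝟙 X) (Category.id_comp _)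
  obtain ⟨w, hse⟩ := RegImm12.main j k a ha b hb hh1
  have fjk : FlatMod.IsFinLocFree (Omega.conormal (j ≫ k)) :=
    K0Sub.isFinLocFree_ext _ (hse w) (FinCov.isFinLocFree_of_rank rjk) (FinCov.isFinLocFree_of_rank rj)
  have rc := rank_ext _ (hse w) rjk rj
  obtain ⟨d⟩ := nonempty_det_ses _ (hse w) (n := c₂ + c') rfl rjk fjk rj
  let q := π' ≫ g₂
  haveI : SmoothOfRelativeDimension (n₂ + m) q := by
    have : SmoothOfRelativeDimension (m + n₂) q := inferInstanceAs (SmoothOfRelativeDimension (m + n₂) (π' ≫ g₂))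
    rwa [Nat.add_comm] at this
  haveI : QuasiSeparated q := inferInstanceAs (QuasiSeparated (π' ≫ g₂))
  have hp' : p' ≫ πV = q := hP.w
  have hd := Groth.Agent.S5005.result g₂
  have hdZ := Groth.Agent.S5005.result πV
  have hW := Groth.Agent.S5005.result q
  have hV := Groth.Agent.S5005.result π'
  have hV' := Groth.Agent.S5005.result p'
  obtain ⟨cP, hcP, -⟩ := OmegaLocal4.existsUnique_compat p' g₂ hP.w.symm (OmegaSh.dOmega πV) hdZ (OmegaSh.dOmega π')
  haveI := Groth.Agent.S9386.result πV g₂ p' π' hP _ _ hdZ _ _ hV cP hcP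
  obtain ⟨cP', hcP', -⟩ := OmegaLocal4.existsUnique_compat π' πV hP.flip.w.symm (OmegaSh.dOmega g₂) hd (OmegaSh.dOmega p')
  haveI := Groth.Agent.S9386.result g₂ πV π' p' hP.flip _ _ hd _ _ hV' cP' hcP'
  obtain ⟨s, t, ws, -, -, ⟨spl⟩⟩ := CotIso4.exists_splitting rfl hp' hd hdZ hW hV hcP hcP'
  have rW := rank_omega g₂ n₂
  have rP := rank_omega π' m
  have rπW : FlatMod.IsFinLocFreeOfRank n₂ ((Scheme.Modules.pullback π').obj (Omega.sheaf g₂)) :=
    OX.isFinLocFreeOfRank_pullback π' rW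
  obtain ⟨d1⟩ := nonempty_det_ses (ShortComplex.mk s t ws) spl.shortExact (a := n₂) (c := m) rfl rπW
    (Adj27.isFinLocFree_omega q (n₂ + m)) rP
  obtain ⟨c, hc, -⟩ := OmegaLocal4.existsUnique_compat k i₂ hk.w.symm (OmegaSh.dOmega π') hV (OmegaSh.dOmega π)
  haveI := Groth.Agent.S9386.result π' i₂ k π hk _ _ hV _ _ (Groth.Agent.S5005.result π) c hc
  obtain ⟨eC⟩ := ExtPowX.nonempty_iso (ExtPowX.isExtPow_wedge (FinCov.isFinLocFree_of_rank rj) c') hDC₁ (Iso.refl _)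
  obtain ⟨eA⟩ := ExtPowX.nonempty_iso (ExtPowX.isExtPow_wedge (FinCov.isFinLocFree_of_rank rjk) c₂)
    (ExtPowX.isExtPow_pullback (f := j ≫ π) (FinCov.isFinLocFree_of_rank r₂) hDC₂)
    ((Scheme.Modules.pullback j).mapIso (asIso φ).symm ≪≫ (Scheme.Modules.pullbackComp j π).app _)
  obtain ⟨eπ⟩ := ExtPowX.nonempty_iso
    (ExtPowX.isExtPow_pullback (f := k) (FinCov.isFinLocFree_of_rank rP)
      (ExtPowX.isExtPow_wedge (FinCov.isFinLocFree_of_rank rP) m)) hDΩ₁ (asIso c)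
  obtain ⟨eW⟩ := ExtPowX.nonempty_pullback_iso π' (FinCov.isFinLocFree_of_rank rW) hDΩ₂
    (ExtPowX.isExtPow_wedge (FinCov.isFinLocFree_of_rank rπW) n₂)
  have hfk : (j ≫ π) ≫ i₂ = (j ≫ k) ≫ π' := by simp only [Category.assoc, hk.w]
  let F := Scheme.Modules.pullback (j ≫ π)
  let JK := Scheme.Modules.pullback (j ≫ k)
  let A := ExtPowX.wedge ((Scheme.Modules.pullback π').obj (Omega.sheaf g₂)) n₂
  let B := ExtPowX.wedge (Omega.sheaf π') m
  let u₁ : CohB1.tensorMod ω₁ (ExtPowX.wedge (Omega.conormal j) c') ≅ JK.obj B :=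
    Ample.LineData.tensorModMapIso (Iso.refl _) eC ≪≫ a₁ ≪≫ (Scheme.Modules.pullback j).mapIso eπ.symm ≪≫
      (Scheme.Modules.pullbackComp j k).app B
  let u₂ : CohB1.tensorMod (F.obj ω₂) (F.obj DC₂) ≅ JK.obj A :=
    (OX.pullTensorIso (j ≫ π) ω₂ DC₂).symm ≪≫ F.mapIso a₂ ≪≫ (Scheme.Modules.pullbackComp (j ≫ π) i₂).app DΩ₂ ≪≫
      (Scheme.Modules.pullbackCongr hfk).app DΩ₂ ≪≫ ((Scheme.Modules.pullbackComp (j ≫ k) π').app DΩ₂).symm ≪≫
      JK.mapIso eW
  have hvia : Canon.IsCanonicalVia (j ≫ k) q (c₂ + c') (n₂ + m) (CohB1.tensorMod ω₁ (F.obj ω₂)) := by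
    refine ⟨_, _, ExtPowX.isExtPow_wedge fjk _, ExtPowX.isExtPow_wedge (Adj27.isFinLocFree_omega q (n₂ + m)) _, ⟨?_⟩⟩
    exact WeilFin11.congrIso (Iso.refl _) (d ≪≫ WeilFin11.congrIso eA (Iso.refl _) ≪≫ WeilFin11.swapIso _ _) ≪≫
      WeilFin11.interchangeIso _ _ _ _ ≪≫ WeilFin11.congrIso u₁ u₂ ≪≫ WeilFin11.swapIso _ _ ≪≫
      (OX.pullTensorIso (j ≫ k) A B).symm ≪≫ JK.mapIso d1.symm
  exact nonempty_iso_pair_rank i₃ g₃ (j ≫ k) q
    (h₃.trans (by
      show (j ≫ π) ≫ i₂ ≫ g₂ = (j ≫ k) ≫ π' ≫ g₂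
      rw [← Category.assoc, hfk, Category.assoc]))
    r₃ hg₃ rc inferInstance hω₃ hvia

/-- The constant codimension is the rank of the conormal sheaf. -/
theorem isRegularImmersionOfCodim_of_rank {Z Y : Scheme.{u}} (i : Z ⟶ Y) [QuasiCompact i] {c : ℕ}
    (hi : RegImm.IsRegularImmersion .regular i) (rC : FlatMod.IsFinLocFreeOfRank c (Omega.conormal i)) :
    RegImm.IsRegularImmersionOfCodim .regular c i := by
  classical
  refine ⟨hi.1, fun z => ?_⟩
  obtain ⟨U, hzU, hci, rs, hrs, hker⟩ := hi.2 z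
  refine ⟨U, hzU, hci, rs, ?_, hrs, hker⟩
  have h1 : CAlgX.IsH1Regular rs.get := SeqKinds.isH1Regular_of_isKoszulRegularSeq rs
    (KoszulFwd.isKoszulRegularSeq_of_isWeaklyRegular rs hrs.toIsWeaklyRegular)
  obtain ⟨hsur, hT⟩ := RegSeqLoc.app_surjective_of_restrict i U.2 hci
  have hs : i.ker.ideal U = Ideal.span (Set.range rs.get) := by
    rw [i.ker_apply, hker, Set.range_list_get]
  obtain ⟨e⟩ : Nonempty ((Fin rs.length → Γ(Z, i ⁻¹ᵁ U.1)) ≃ₗ[Γ(Z, i ⁻¹ᵁ U.1)] Γ(Omega.conormal i, i ⁻¹ᵁ U.1)) :=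
    RegImm12.exists_equiv_sections i i.ker le_rfl U rs.get hs
      (fun a ha k => hs ▸ RegImm12.mem_span_of_h1 h1 ha k) ⟨i ⁻¹ᵁ U.1, hT⟩ le_rfl
  haveI := H1Sheaf6.isQuasicoherent_idealMod i.ker
  haveI : (Omega.conormal i).IsQuasicoherent := FittSheaf.isQuasicoherent_pullback i _
  have hfr : FinCov.IsFrame (Omega.conormal i) (i ⁻¹ᵁ U.1) (fun k => e (Pi.single k 1)) := by
    refine Adj27.isFrame_of_affine _ hT _ ?_
    have : ⇑(Fintype.linearCombination Γ(Z, i ⁻¹ᵁ U.1) fun k => e (Pi.single k 1)) = ⇑e := funext fun b => by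
      rw [Fintype.linearCombination_apply]
      simp only [← map_smul, ← map_sum]
      congr 1
      funext k
      simp [Finset.sum_apply, Pi.single_apply]
    show Function.Bijective ⇑(Fintype.linearCombination Γ(Z, i ⁻¹ᵁ U.1) fun k => e (Pi.single k 1))
    rw [this]
    exact e.bijective
  obtain ⟨W, hzW, ⟨φ⟩⟩ := rC z
  obtain ⟨ψ⟩ := FinCov.exists_iso_of_frame hfr
  exact BCCrit.rank_unique (U := i ⁻¹ᵁ U.1) hzU hzW ψ φ

/-- The canonical sheaf restricts to the canonical sheaf of the generic fibre. -/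
theorem isCanonical_genericFibre (F : Type u) [Field F] {X B : Scheme.{u}} [IsIntegral X] [IsIntegral B]
    (pX : X ⟶ Spec (CommRingCat.of F)) (pB : B ⟶ Spec (CommRingCat.of F))
    [LocallyOfFiniteType pB] (π : X ⟶ B) (hπ : π ≫ pB = pX) (hπlci : Dual3.IsLCIMor π)
    (hBlci : Dual3.IsLCIMor pB)
    {ω : X.Modules} (hω : Canon.IsCanonical pX ω) :
    Canon.IsCanonical (pullback.snd π (B.fromSpecStalk (genericPoint B)))
      ((Scheme.Modules.pullback (pullback.fst π (B.fromSpecStalk (genericPoint B)))).obj ω) := by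
  obtain ⟨Z, i, g, c, n, hig, hi, hg, hqc, hqs, hv⟩ := hω
  haveI := hg
  haveI := hi.1
  haveI : Smooth g := SmoothOfRelativeDimension.smooth n g
  haveI : IsLocallyNoetherian Z := LocallyOfFiniteType.isLocallyNoetherian g
  haveI : IsLocallyNoetherian B := LocallyOfFiniteType.isLocallyNoetherian pB
  -- an affine piece
  obtain ⟨B₀, hB₀, hη, -⟩ := exists_isAffineOpen_mem_and_subset (x := genericPoint B) (U := (⊤ : B.Opens)) trivial
  haveI : IsAffine (B₀ : Scheme.{u}) := hB₀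
  obtain ⟨N, e, he, heq⟩ := ConStalk4.exists_closedImmersion_affineSpace (B₀.ι ≫ pB)
  haveI := he
  let gA := 𝔸(ULift.{u} (Fin N); Spec (CommRingCat.of F)) ↘ Spec (CommRingCat.of F)
  haveI : SmoothOfRelativeDimension N gA := by
    obtain ⟨ε⟩ := Grass26.exists_iso_affineSpace (R := F) (ULift.{u} (Fin N)) (ULift.{u} (Fin N)) (Equiv.refl _)
    have h1 := Grass26.smoothOfRelativeDimension_polynomial (R := F) (ULift.{u} (Fin N)) N Equiv.ulift
    have h2 : gA = ε.inv.left ≫ Spec.map (CommRingCat.ofHom (algebraMap F (MvPolynomial (ULift.{u} (Fin N)) F))) :=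
      (Over.w ε.inv).symm
    rw [h2]
    exact (MorphismProperty.cancel_left_of_respectsIso (@SmoothOfRelativeDimension N) _ _).2 h1
  haveI : QuasiSeparated gA := inferInstance
  -- its preimage
  obtain ⟨O, hO, hOe⟩ := i.isEmbedding.isInducing.isOpen_iff.1 (π ⁻¹ᵁ B₀).2
  let Oo : Z.Opens := ⟨O, hO⟩
  let X₀ : X.Opens := i ⁻¹ᵁ Oo
  have hX₀ : X₀ = π ⁻¹ᵁ B₀ := Opens.ext hOe
  let π₀ : (X₀ : Scheme.{u}) ⟶ (B₀ : Scheme.{u}) := π.resLE B₀ X₀ hX₀.le
  have hπ₀ : π₀ ≫ B₀.ι = X₀.ι ≫ π := Scheme.Hom.resLE_comp_ι _ _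
  have sqπ : IsPullback π₀ X₀.ι B₀.ι π :=
    IsOpenImmersion.isPullback π₀ X₀.ι B₀.ι π hπ₀.symm (by simp [Scheme.Opens.opensRange_ι, hX₀])
  let i₀ : (X₀ : Scheme.{u}) ⟶ (Oo : Scheme.{u}) := i ∣_ Oo
  have sqi : IsPullback i₀ X₀.ι Oo.ι i := isPullback_morphismRestrict i Oo
  let g₀ := Oo.ι ≫ g
  haveI : IsImmersion i₀ := MorphismProperty.of_isPullback sqi.flip hi.1
  haveI : QuasiCompact i₀ := MorphismProperty.of_isPullback sqi.flip hqc
  haveI : SmoothOfRelativeDimension n g₀ := by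
    have : SmoothOfRelativeDimension (0 + n) g₀ := inferInstanceAs (SmoothOfRelativeDimension (0 + n) (Oo.ι ≫ g))
    rwa [Nat.zero_add] at this
  haveI : QuasiSeparated g₀ := inferInstanceAs (QuasiSeparated (Oo.ι ≫ g))
  obtain ⟨cO, hcO, -⟩ := OmegaLocal4.existsUnique_compat Oo.ι (𝟙 _) (show g₀ ≫ 𝟙 _ = Oo.ι ≫ g from Category.comp_id _)
    (OmegaSh.dOmega g) (Groth.Agent.S5005.result g) (OmegaSh.dOmega g₀)
  haveI : IsIso cO := PPGen.isIso_of_etale_square g g₀ Oo.ι (𝟙 _) (Category.comp_id _).symm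
    (Groth.Agent.S5005.result g) (Groth.Agent.S5005.result g₀) cO hcO
  obtain ⟨r₃, hv₀⟩ := via_transfer sqi.flip (asIso cO) (rank_conormal i hi) hv
  -- the relative factorisation
  let f₀ := B₀.ι ≫ pB
  let πY := pullback.snd g f₀
  haveI : SmoothOfRelativeDimension n πY :=
    (smoothOfRelativeDimension_isStableUnderBaseChange n).of_isPullback (IsPullback.of_hasPullback g f₀) hg
  haveI : Smooth πY := SmoothOfRelativeDimension.smooth n πY
  haveI : QuasiSeparated πY := inferInstanceAs (QuasiSeparated (pullback.snd g f₀))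
  haveI : IsLocallyNoetherian (pullback g f₀) := LocallyOfFiniteType.isLocallyNoetherian πY
  have hjc : (X₀.ι ≫ i) ≫ g = π₀ ≫ f₀ := by
    show (X₀.ι ≫ i) ≫ g = π₀ ≫ B₀.ι ≫ pB
    rw [Category.assoc, hig, ← hπ, ← Category.assoc, ← hπ₀, Category.assoc]
  let j := pullback.lift (X₀.ι ≫ i) π₀ hjc
  have hjπ : j ≫ πY = π₀ := pullback.lift_snd _ _ _
  haveI : IsImmersion j := by
    haveI : IsImmersion (j ≫ pullback.fst g f₀) := by
      rw [pullback.lift_fst]
      infer_instance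
    exact IsImmersion.of_comp j (pullback.fst g f₀)
  haveI : QuasiCompact j := by
    rw [← j.liftCoborder_ι]
    infer_instance
  have hkz : ∀ x, Synt.IsKoszulAt π₀ x := fun x => by
    refine (LCI6.isKoszulAt_iff_inLocus _ _).2 ?_
    have h : LCI6.InLocus (X₀.ι ≫ π) x := by
      refine (LCI6.inLocus_openImmersion_comp_iff X₀.ι π).2 ?_
      obtain ⟨U, V, e', hxU, h⟩ := hπlci (X₀.ι x)
      exact ⟨U.1, V.1, U.2, V.2, e', hxU, h⟩
    rw [← hπ₀] at h
    exact LCI6.inLocus_cancel_smooth π₀ B₀.ι h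
  have hkj : RegImm.IsRegularImmersion .koszul j := Groth.Agent.S8656.result π₀ hkz πY j hjπ
  have hh1 : RegImm.IsRegularImmersion .h1 j := (Groth.Agent.S8905.result j).2.1 hkj
  have fj : FlatMod.IsFinLocFree (Omega.conormal j) := RegImm12.isFinLocFree_conormal_of_h1 j hh1
  obtain ⟨c', rj⟩ : ∃ c', FlatMod.IsFinLocFreeOfRank c' (Omega.conormal j) := by
    rcases isEmpty_or_nonempty ↥(X₀ : Scheme.{u}) with hE | hN
    · exact ⟨0, fun x => (hE.false x).elim⟩
    · haveI := hN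
      haveI : IsIntegral (X₀ : Scheme.{u}) := isIntegral_of_isOpenImmersion X₀.ι
      exact ModelK.exists_rank_connected fj
  obtain ⟨ω₁, hω₁⟩ := exists_via j πY (n := n) rj
  have fe : FlatMod.IsFinLocFree (Omega.conormal e) → ∃ c₂, FlatMod.IsFinLocFreeOfRank c₂ (Omega.conormal e) := by
    intro h
    haveI : Nonempty ↥(B₀ : Scheme.{u}) := ⟨⟨_, hη⟩⟩
    haveI : IsIntegral (B₀ : Scheme.{u}) := isIntegral_of_isOpenImmersion B₀.ι
    exact ModelK.exists_rank_connected h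
  haveI : Smooth gA := SmoothOfRelativeDimension.smooth N gA
  have hke : ∀ x, Synt.IsKoszulAt (B₀.ι ≫ pB) x := fun x => by
    refine (LCI6.isKoszulAt_iff_inLocus _ _).2 ((LCI6.inLocus_openImmersion_comp_iff B₀.ι pB).2 ?_)
    obtain ⟨U, V, e', hxU, h⟩ := hBlci (B₀.ι x)
    exact ⟨U.1, V.1, U.2, V.2, e', hxU, h⟩
  obtain ⟨c₂, r₂⟩ := fe (RegImm12.isFinLocFree_conormal_of_h1 e
    ((Groth.Agent.S8905.result e).2.1 (Groth.Agent.S8656.result _ hke gA e heq)))
  obtain ⟨ω₂, hω₂⟩ := exists_via e gA (n := N) r₂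
  let pA := pullback.fst g gA
  let πA := pullback.snd g gA
  let k : pullback g f₀ ⟶ pullback g gA := pullback.lift (pullback.fst g f₀) (πY ≫ e)
    (by rw [Category.assoc, heq]; exact pullback.condition)
  have hk : IsPullback k πY πA e := by
    refine IsPullback.of_right ?_ (pullback.lift_snd _ _ _) (IsPullback.of_hasPullback g gA)
    rw [pullback.lift_fst, heq]
    exact IsPullback.of_hasPullback g f₀
  obtain ⟨main⟩ := nonempty_iso_squares j πY k πA pA g e gA hk (IsPullback.of_hasPullback g gA) hh1 rj r₂ hω₁ hω₂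
    i₀ g₀ (by
      show i₀ ≫ Oo.ι ≫ g = (j ≫ πY) ≫ e ≫ gA
      rw [← Category.assoc, sqi.w, hjπ, heq]
      exact hjc) r₃ inferInstance hv₀
  -- base change to the generic point
  letI : Field (B.presheaf.stalk (genericPoint B)) := inferInstanceAs (Field B.functionField)
  let s := B.fromSpecStalk (genericPoint B)
  let s₀ := B₀.fromSpecStalkOfMem (genericPoint B) hη
  have hs₀ : s₀ ≫ B₀.ι = s := Scheme.Opens.fromSpecStalkOfMem_ι _ _ _
  haveI : Flat s := PurIsol6.flat_fromSpecStalk _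
  haveI : Flat s₀ := by
    have h : IsPullback s₀ (𝟙 _) B₀.ι s := by
      refine IsOpenImmersion.isPullback s₀ (𝟙 _) B₀.ι s (by rw [Category.id_comp, hs₀]) ?_
      refine Opens.ext (Set.ext fun y => ?_)
      simp only [Scheme.Opens.opensRange_ι, Opens.map_coe, Set.mem_preimage, SetLike.mem_coe]
      refine ⟨fun _ => ⟨y, rfl⟩, fun _ => ?_⟩
      rw [← hs₀, Scheme.Hom.comp_apply]
      exact (s₀ y).2
    exact MorphismProperty.of_isPullback h.flip ‹Flat s›
  let t := pullback.fst π s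
  let pr := pullback.snd π s
  have ht : (pr ≫ s₀) ≫ B₀.ι = t ≫ π := by
    rw [Category.assoc, hs₀]
    exact pullback.condition.symm
  let t₀ := sqπ.lift (pr ≫ s₀) t ht
  have ht₀ : t₀ ≫ X₀.ι = t := sqπ.lift_snd _ _ ht
  have ht₀' : t₀ ≫ π₀ = pr ≫ s₀ := sqπ.lift_fst _ _ ht
  have hT : IsPullback t₀ pr π₀ s₀ := by
    refine IsPullback.of_right ?_ ht₀' sqπ.flip
    rw [ht₀, hs₀]
    exact IsPullback.of_hasPullback π s
  let q₀ := pullback.fst πY s₀
  let gη := pullback.snd πY s₀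
  haveI : SmoothOfRelativeDimension n gη :=
    (smoothOfRelativeDimension_isStableUnderBaseChange n).of_isPullback (IsPullback.of_hasPullback πY s₀) inferInstance
  haveI : Smooth gη := SmoothOfRelativeDimension.smooth n gη
  haveI : QuasiSeparated gη := inferInstanceAs (QuasiSeparated (pullback.snd πY s₀))
  haveI : Flat q₀ := MorphismProperty.of_isPullback (IsPullback.of_hasPullback πY s₀).flip ‹Flat s₀›
  let jη : pullback π s ⟶ pullback πY s₀ := pullback.lift (t₀ ≫ j) pr (by rw [Category.assoc, hjπ, ht₀'])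
  have hjη : jη ≫ gη = pr := pullback.lift_snd _ _ _
  have hJ : IsPullback t₀ jη j q₀ := by
    refine IsPullback.of_bot ?_ (pullback.lift_fst _ _ _).symm (IsPullback.of_hasPullback πY s₀)
    rw [hjη, hjπ]
    exact hT
  obtain ⟨cη, hcη, -⟩ := OmegaLocal4.existsUnique_compat q₀ s₀ (IsPullback.of_hasPullback πY s₀).w.symm
    (OmegaSh.dOmega πY) (Groth.Agent.S5005.result πY) (OmegaSh.dOmega gη)
  haveI := Groth.Agent.S9386.result πY s₀ q₀ gη (IsPullback.of_hasPullback πY s₀) _ _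
    (Groth.Agent.S5005.result πY) _ _ (Groth.Agent.S5005.result gη) cη hcη
  obtain ⟨rη, hvη⟩ := via_transfer hJ (asIso cη) rj hω₁
  haveI : QuasiCompact jη := MorphismProperty.of_isPullback hJ ‹QuasiCompact j›
  haveI : IsLocallyNoetherian (pullback πY s₀) := LocallyOfFiniteType.isLocallyNoetherian gη
  have hkη : RegImm.IsRegularImmersion .koszul jη := Groth.Agent.S8652.result j q₀ jη t₀ hJ hkj
  have hregη : RegImm.IsRegularImmersion .regular jη :=
    (Groth.Agent.S5003.result jη).2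
      ((Groth.Agent.S8905.result jη).2.2 ((Groth.Agent.S8905.result jη).2.1 hkη))
  -- the pull-back of `ω₂` to the point is trivial
  have hω₂i : PicF.IsInvertible ω₂ := by
    obtain ⟨DC, DΩ, hDC, hDΩ, ⟨a⟩⟩ := hω₂
    exact FMAdj25.isInvertible_of_tensor (PBDeg.isInvertible_extPow r₂ hDC)
      (RelProjK.isInvertible_of_iso a
        (Ample.isInvertible_pullback e (PBDeg.isInvertible_extPow (rank_omega gA N) hDΩ)))
  haveI : Subsingleton ↥(Spec (B.presheaf.stalk (genericPoint B))) :=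
    inferInstanceAs (Subsingleton (PrimeSpectrum (B.presheaf.stalk (genericPoint B))))
  haveI : Nonempty ↥(Spec (B.presheaf.stalk (genericPoint B))) :=
    inferInstanceAs (Nonempty (PrimeSpectrum (B.presheaf.stalk (genericPoint B))))
  obtain ⟨triv⟩ := EulerPull.nonempty_free_iso_of_subsingleton
    (PBDeg.rankOne_iff.2 (Ample.isInvertible_pullback s₀ hω₂i))
  obtain ⟨one⟩ := Ample.nonempty_pullback_structureModule pr
  let E : (Scheme.Modules.pullback t).obj ω ≅ (Scheme.Modules.pullback t₀).obj ω₁ :=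
    (Scheme.Modules.pullbackCongr ht₀.symm).app ω ≪≫ ((Scheme.Modules.pullbackComp t₀ X₀.ι).app ω).symm ≪≫
      (Scheme.Modules.pullback t₀).mapIso main ≪≫ OX.pullTensorIso t₀ _ _ ≪≫
      WeilFin11.congrIso (Iso.refl _)
        ((Scheme.Modules.pullbackComp t₀ (j ≫ πY)).app ω₂ ≪≫
          (Scheme.Modules.pullbackCongr (by rw [hjπ, ht₀'] : t₀ ≫ j ≫ πY = pr ≫ s₀)).app ω₂ ≪≫
          ((Scheme.Modules.pullbackComp pr s₀).app ω₂).symm ≪≫
          (Scheme.Modules.pullback pr).mapIso (triv ≪≫ OmegaPn27.freeOneIso) ≪≫ one) ≪≫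
      Euler.tFUnitIso _
  obtain ⟨DC, DΩ, hDC, hDΩ, ⟨a⟩⟩ := hvη
  exact ⟨_, jη, gη, c', n, hjη, isRegularImmersionOfCodim_of_rank jη hregη rη, inferInstance, inferInstance,
    inferInstance, DC, DΩ, hDC, hDΩ, ⟨WeilFin11.congrIso E (Iso.refl _) ≪≫ a⟩⟩

end GrothLib.Canon12
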