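import Groth.Agent.Lib.Canon12.Smooth
import Groth.Agent.Lib.Canon12.Det
import Groth.Agent.Lib.CotIso4.Piece
import Groth.Agent.Lib.K0Sub.LocFree
import Groth.Agent.Lib.PBDeg17.VBInj
import Groth.Agent.S5005

/-!
# Independence of the canonical sheaf from the factorisation
-/

set_option autoImplicit false
set_option linter.style.haveILetI false
set_option backward.isDefEq.respectTransparency false
set_option maxHeartbeats 2000000

universe u

open CategoryTheory CategoryTheory.Limits AlgebraicGeometry TopologicalSpace Opposite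

noncomputable section

namespace GrothLib.Canon12

/-- The differentials of a smooth morphism have rank the relative dimension. -/
theorem rank_omega {S X : Scheme.{u}} (p : X ⟶ S) [QuasiSeparated p] (n : ℕ) [SmoothOfRelativeDimension n p] :
    FlatMod.IsFinLocFreeOfRank n (Omega.sheaf p) := fun x => by
  obtain ⟨U, hU, T, hT, hxT, e, h⟩ :=
    SmoothOfRelativeDimension.exists_isStandardSmoothOfRelativeDimension (n := n) (f := p) x
  letI := (p.appLE U T e).hom.toAlgebra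
  haveI : Algebra.IsStandardSmoothOfRelativeDimension n Γ(S, U) Γ(X, T) := h
  obtain ⟨s, hs⟩ := Adj27.exists_bijective_coords n Γ(S, U) Γ(X, T)
  exact ⟨T, hxT, FinCov.exists_iso_of_frame (Adj27.isFrame_dd p hT hU e s hs)⟩

/-- Ranks add up in extensions. -/
theorem rank_ext {X : Scheme.{u}} (S : ShortComplex X.Modules) (hS : S.ShortExact) {a c : ℕ}
    (h₁ : FlatMod.IsFinLocFreeOfRank a S.X₁) (h₃ : FlatMod.IsFinLocFreeOfRank c S.X₃) :
    FlatMod.IsFinLocFreeOfRank (a + c) S.X₂ := by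
  haveI := hS.epi_g
  haveI := hS.mono_f
  refine OX.isFinLocFreeOfRank_of_local fun x => ?_
  obtain ⟨U, j, hj, s, hx, hs⟩ := OX.exists_local_lift (FinCov.isFinLocFree_of_rank h₃) S.g (𝟙 _) x
  let R := Scheme.Modules.restrictFunctor j
  refine ⟨U, j, hj, hx, ?_⟩
  haveI : Epi (S.map R).g := inferInstanceAs (Epi (R.map S.g))
  haveI : Mono (S.map R).f := inferInstanceAs (Mono (R.map S.f))
  let spl := ShortComplex.Splitting.ofExactOfSection (S.map R) (hS.exact.map R) s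
    (hs.trans (R.map_id _)) inferInstance
  exact OX.isFinLocFreeOfRank_of_iso spl.isoBinaryBiproduct.symm (PBDeg.isFinLocFreeOfRank_biprod
    (OX.isFinLocFreeOfRank_of_iso ((Scheme.Modules.restrictFunctorIsoPullback j).app S.X₁).symm
      (OX.isFinLocFreeOfRank_pullback j h₁))
    (OX.isFinLocFreeOfRank_of_iso ((Scheme.Modules.restrictFunctorIsoPullback j).app S.X₃).symm
      (OX.isFinLocFreeOfRank_pullback j h₃)))

/-- A canonical sheaf computed through a factorisation is computed through a dominating one. -/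
theorem via_dominate {X Y W V V' : Scheme.{u}} {g : V ⟶ Y} {g' : V' ⟶ Y} {p : W ⟶ V} {p' : W ⟶ V'}
    (hP : IsPullback p' p g' g) (q : W ⟶ Y) (hp : p ≫ g = q) {n₁ n₂ : ℕ}
    [SmoothOfRelativeDimension n₁ g] [SmoothOfRelativeDimension n₂ g'] [SmoothOfRelativeDimension n₂ p]
    [SmoothOfRelativeDimension n₁ p'] [SmoothOfRelativeDimension (n₁ + n₂) q]
    [QuasiSeparated g] [QuasiSeparated g'] [QuasiSeparated p] [QuasiSeparated p'] [QuasiSeparated q]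
    (i : X ⟶ W) (i₁ : X ⟶ V) (hi : i ≫ p = i₁) [IsImmersion i] [QuasiCompact i] [IsImmersion i₁] [QuasiCompact i₁]
    {c : ℕ} (rC : FlatMod.IsFinLocFreeOfRank c (Omega.conormal i₁))
    {ω : X.Modules} (hω : Canon.IsCanonicalVia i₁ g c n₁ ω) :
    FlatMod.IsFinLocFreeOfRank (c + n₂) (Omega.conormal i) ∧ ∃ (D : X.Modules) (_ : PicF.IsInvertible D),
      Nonempty (D ≅ ExtPowX.wedge (Omega.conormal i) (c + n₂)) ∧
      Nonempty (CohB1.tensorMod ω D ≅ (Scheme.Modules.pullback i).obj (ExtPowX.wedge (Omega.sheaf q) (n₁ + n₂))) := by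
  have hp' : p' ≫ g' = q := hP.w.trans hp
  -- the differentials
  have hd := Groth.Agent.S5005.result g
  have hd' := Groth.Agent.S5005.result g'
  have hW := Groth.Agent.S5005.result q
  have hV := Groth.Agent.S5005.result p
  have hV' := Groth.Agent.S5005.result p'
  obtain ⟨cP, hcP, -⟩ := OmegaLocal4.existsUnique_compat p' g hP.w.symm (OmegaSh.dOmega g') hd' (OmegaSh.dOmega p)
  haveI := Groth.Agent.S9386.result g' g p' p hP _ _ hd' _ _ hV cP hcP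
  obtain ⟨cP', hcP', -⟩ := OmegaLocal4.existsUnique_compat p g' hP.flip.w.symm (OmegaSh.dOmega g) hd (OmegaSh.dOmega p')
  haveI := Groth.Agent.S9386.result g g' p p' hP.flip _ _ hd _ _ hV' cP' hcP'
  obtain ⟨a, b, w, -, -, ⟨spl⟩⟩ := CotIso4.exists_splitting hp hp' hd hd' hW hV hcP hcP'
  have r1 := rank_omega g n₁
  have r2 := rank_omega p n₂
  have rP : FlatMod.IsFinLocFreeOfRank n₁ ((Scheme.Modules.pullback p).obj (Omega.sheaf g)) :=
    OX.isFinLocFreeOfRank_pullback p r1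
  obtain ⟨d1⟩ := nonempty_det_ses (ShortComplex.mk a b w) spl.shortExact (a := n₁) (c := n₂) rfl rP
    (Adj27.isFinLocFree_omega q (n₁ + n₂)) r2
  -- the conormal sheaves
  obtain ⟨ψ, hψ, -⟩ := ConStalk4.existsUnique (i := i) (i' := i₁) (g := p) (gZ := 𝟙 X)
    ((Category.id_comp _).trans hi.symm)
  haveI : Smooth p := SmoothOfRelativeDimension.smooth n₂ p
  obtain ⟨wS, hS⟩ := Groth.Agent.S9711.result p i i₁ hi _ _ hV ψ hψ _
    (ConStalk4.isConormalDiff_conormalDiff i (OmegaSh.dOmega p))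
  have rC' : FlatMod.IsFinLocFreeOfRank c ((Scheme.Modules.pullback (𝟙 X)).obj (Omega.conormal i₁)) :=
    OX.isFinLocFreeOfRank_pullback _ rC
  have rp : FlatMod.IsFinLocFreeOfRank n₂ ((Scheme.Modules.pullback i).obj (Omega.sheaf p)) :=
    OX.isFinLocFreeOfRank_pullback i r2
  have hfree : FlatMod.IsFinLocFree (Omega.conormal i) :=
    K0Sub.isFinLocFree_ext _ hS (FinCov.isFinLocFree_of_rank rC') (FinCov.isFinLocFree_of_rank rp)
  obtain ⟨d2⟩ := nonempty_det_ses _ hS (a := c) (c := n₂) rfl rC' hfree rp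
  obtain ⟨DC, DΩ, hDC, hDΩ, ⟨e⟩⟩ := hω
  have fC := FinCov.isFinLocFree_of_rank rC
  obtain ⟨eC⟩ := ExtPowX.nonempty_iso hDC
    (ExtPowX.isExtPow_wedge (FinCov.isFinLocFree_of_rank rC') c) ((Scheme.Modules.pullbackId X).app _).symm
  obtain ⟨eΩ⟩ := ExtPowX.nonempty_pullback_iso p (FinCov.isFinLocFree_of_rank r1) hDΩ
    (ExtPowX.isExtPow_wedge (FinCov.isFinLocFree_of_rank rP) n₁)
  obtain ⟨ep⟩ := ExtPowX.nonempty_pullback_iso i (FinCov.isFinLocFree_of_rank r2)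
    (ExtPowX.isExtPow_wedge (FinCov.isFinLocFree_of_rank r2) n₂)
    (ExtPowX.isExtPow_wedge (FinCov.isFinLocFree_of_rank rp) n₂)
  let T := ExtPowX.wedge ((Scheme.Modules.pullback i).obj (Omega.sheaf p)) n₂
  have hT : PicF.IsInvertible T :=
    PBDeg.isInvertible_extPow rp (ExtPowX.isExtPow_wedge (FinCov.isFinLocFree_of_rank rp) n₂)
  have hDCi : PicF.IsInvertible DC := PBDeg.isInvertible_extPow rC hDC
  refine ⟨rank_ext _ hS rC' rp, CohB1.tensorMod DC T, Ample.isInvertible_tensorMod hDCi hT,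
    ⟨Ample.LineData.tensorModMapIso eC (Iso.refl T) ≪≫ d2.symm⟩, ⟨?_⟩⟩
  exact (OX.tensorAssoc ω DC T).symm ≪≫
    Ample.LineData.tensorModMapIso (e ≪≫ (Scheme.Modules.pullbackCongr hi.symm).app DΩ ≪≫
      ((Scheme.Modules.pullbackComp i p).app DΩ).symm ≪≫ (Scheme.Modules.pullback i).mapIso eΩ) ep.symm ≪≫
    (OX.pullTensorIso i _ _).symm ≪≫ (Scheme.Modules.pullback i).mapIso d1.symm

/-- The canonical sheaf only needs the conormal sheaves to have the expected rank. -/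
theorem nonempty_iso_pair_rank {X Y Z₁ Z₂ : Scheme.{u}} (i₁ : X ⟶ Z₁) (g₁ : Z₁ ⟶ Y) (i₂ : X ⟶ Z₂) (g₂ : Z₂ ⟶ Y)
    [QuasiCompact i₁] [QuasiCompact i₂] [QuasiSeparated g₁] [QuasiSeparated g₂] [IsImmersion i₁] [IsImmersion i₂]
    (h : i₁ ≫ g₁ = i₂ ≫ g₂) {c₁ n₁ c₂ n₂ : ℕ}
    (hi₁ : FlatMod.IsFinLocFreeOfRank c₁ (Omega.conormal i₁)) (hg₁ : SmoothOfRelativeDimension n₁ g₁)
    (hi₂ : FlatMod.IsFinLocFreeOfRank c₂ (Omega.conormal i₂)) (hg₂ : SmoothOfRelativeDimension n₂ g₂)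
    {ω₁ ω₂ : X.Modules} (hω₁ : Canon.IsCanonicalVia i₁ g₁ c₁ n₁ ω₁) (hω₂ : Canon.IsCanonicalVia i₂ g₂ c₂ n₂ ω₂) :
    Nonempty (ω₁ ≅ ω₂) := by
  rcases isEmpty_or_nonempty ↥X with hE | ⟨⟨x⟩⟩
  · exact Adj27.nonempty_iso_of_isEmpty _ _
  haveI := hg₁; haveI := hg₂
  let p₁ := pullback.fst g₁ g₂
  let p₂ := pullback.snd g₁ g₂
  let q := p₁ ≫ g₁
  haveI : SmoothOfRelativeDimension n₂ p₁ :=
    (smoothOfRelativeDimension_isStableUnderBaseChange n₂).of_isPullback (IsPullback.of_hasPullback g₁ g₂).flip hg₂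
  haveI : SmoothOfRelativeDimension n₁ p₂ :=
    (smoothOfRelativeDimension_isStableUnderBaseChange n₁).of_isPullback (IsPullback.of_hasPullback g₁ g₂) hg₁
  haveI : SmoothOfRelativeDimension (n₁ + n₂) q := by
    have : SmoothOfRelativeDimension (n₂ + n₁) q := inferInstanceAs (SmoothOfRelativeDimension (n₂ + n₁) (p₁ ≫ g₁))
    rwa [Nat.add_comm] at this
  haveI : SmoothOfRelativeDimension (n₂ + n₁) q := by rwa [Nat.add_comm]
  haveI : QuasiSeparated p₁ := inferInstanceAs (QuasiSeparated (pullback.fst g₁ g₂))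
  haveI : QuasiSeparated p₂ := inferInstanceAs (QuasiSeparated (pullback.snd g₁ g₂))
  haveI : QuasiSeparated q := inferInstanceAs (QuasiSeparated (p₁ ≫ g₁))
  let i := pullback.lift i₁ i₂ h
  have hip : i ≫ p₁ = i₁ := pullback.lift_fst _ _ _
  have hip' : i ≫ p₂ = i₂ := pullback.lift_snd _ _ _
  haveI : IsImmersion i := by
    haveI : IsImmersion (i ≫ p₁) := by rwa [hip]
    exact IsImmersion.of_comp i p₁
  haveI : QuasiCompact i := by
    haveI : QuasiCompact (i ≫ p₁) := by rwa [hip]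
    exact QuasiCompact.of_comp i p₁
  have hsq := IsPullback.of_hasPullback g₁ g₂
  obtain ⟨R₁, D₁, hD₁, ⟨a₁⟩, ⟨b₁⟩⟩ :=
    via_dominate (n₁ := n₁) (n₂ := n₂) hsq.flip q rfl i i₁ hip hi₁ hω₁
  obtain ⟨R₂, D₂, hD₂, ⟨a₂⟩, ⟨b₂⟩⟩ :=
    via_dominate (n₁ := n₂) (n₂ := n₁) hsq q hsq.w.symm i i₂ hip' hi₂ hω₂
  -- the two ranks agree
  have hr : c₁ + n₂ = c₂ + n₁ := by
    obtain ⟨U₁, hx₁, ⟨φ₁⟩⟩ := R₁ x
    obtain ⟨U₂, hx₂, ⟨φ₂⟩⟩ := R₂ x
    exact BCCrit.rank_unique hx₁ hx₂ φ₁ φ₂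
  have e : n₂ + n₁ = n₁ + n₂ := Nat.add_comm _ _
  rw [e] at b₂
  rw [← hr] at a₂
  obtain ⟨T, hT, eT⟩ := VA.exists_inverse hD₁
  obtain ⟨inv⟩ : Nonempty (CohB1.tensorMod D₁ T ≅ Coh.structureModule X) :=
    (Cube.clsMod_eq_one_iff (Ample.isInvertible_tensorMod hD₁ hT)).1
      (by rw [Cube.clsMod_tensorMod hD₁ hT, eT, mul_inv_cancel])
  let main : CohB1.tensorMod ω₁ D₁ ≅ CohB1.tensorMod ω₂ D₁ :=
    b₁ ≪≫ b₂.symm ≪≫ Ample.LineData.tensorModMapIso (Iso.refl ω₂) (a₂ ≪≫ a₁.symm)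
  exact ⟨(HypVan12.cancelIso inv (Iso.refl _)).symm ≪≫ HypVan12.cancelIso inv main⟩

/-- The canonical sheaf does not depend on the factorisation. -/
theorem nonempty_iso_pair {X Y Z₁ Z₂ : Scheme.{u}} (i₁ : X ⟶ Z₁) (g₁ : Z₁ ⟶ Y) (i₂ : X ⟶ Z₂) (g₂ : Z₂ ⟶ Y)
    [QuasiCompact i₁] [QuasiCompact i₂] [QuasiSeparated g₁] [QuasiSeparated g₂]
    (h : i₁ ≫ g₁ = i₂ ≫ g₂) {c₁ n₁ c₂ n₂ : ℕ}
    (hi₁ : RegImm.IsRegularImmersionOfCodim .regular c₁ i₁) (hg₁ : SmoothOfRelativeDimension n₁ g₁)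
    (hi₂ : RegImm.IsRegularImmersionOfCodim .regular c₂ i₂) (hg₂ : SmoothOfRelativeDimension n₂ g₂)
    {ω₁ ω₂ : X.Modules} (hω₁ : Canon.IsCanonicalVia i₁ g₁ c₁ n₁ ω₁) (hω₂ : Canon.IsCanonicalVia i₂ g₂ c₂ n₂ ω₂) :
    Nonempty (ω₁ ≅ ω₂) :=
  haveI : IsImmersion i₁ := hi₁.1
  haveI : IsImmersion i₂ := hi₂.1
  nonempty_iso_pair_rank i₁ g₁ i₂ g₂ h (rank_conormal i₁ hi₁) hg₁ (rank_conormal i₂ hi₂) hg₂ hω₁ hω₂

end GrothLib.Canon12
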