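import Groth.Agent.Lib.Canon12.UniqueAny
import Groth.Agent.Lib.Canon12.Generic
import Groth.Agent.Lib.Canon12.BaseChange
import Groth.Agent.S13305
import Groth.Agent.S7909

/-!
# Automorphisms of the canonical model
-/

set_option autoImplicit false
set_option linter.all false
set_option backward.isDefEq.respectTransparency false

universe u

open CategoryTheory CategoryTheory.Limits AlgebraicGeometry TopologicalSpace IsLocalRing Opposite

noncomputable section

namespace GrothLib.Canon12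

open GrothLib.ArSurf29

theorem regularCodim_iso {Z Z' X : Scheme.{u}} (e : Z' ≅ Z) {i : Z ⟶ X} {c : ℕ}
    (hi : RegImm.IsRegularImmersionOfCodim .regular c i) :
    RegImm.IsRegularImmersionOfCodim .regular c (e.hom ≫ i) := by
  haveI := hi.1
  refine ⟨inferInstance, fun z => ?_⟩
  obtain ⟨U, hzU, hci, rs, hlen, hrs, hker⟩ := hi.2 (e.hom z)
  obtain ⟨hci', hker'⟩ := RegSeqLoc.ker_of_isPullback (i := i) (g := 𝟙 X) (i' := e.hom ≫ i) (g' := e.hom)
    (IsPullback.of_horiz_isIso ⟨by simp⟩) U hci U.2 le_rfl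
  refine ⟨U, hzU, hci', rs, hlen, hrs, ?_⟩
  rw [hker', hker]
  have : (Scheme.Hom.appLE (𝟙 X : X ⟶ X) U.1 U.1 le_rfl).hom = RingHom.id _ := by
    simp only [Scheme.Hom.appLE, Scheme.Hom.id_app, CommRingCat.hom_comp, CommRingCat.hom_id, RingHom.comp_id]
    ext a
    exact congrArg (fun m : U.1 ⟶ U.1 => X.presheaf.map m.op a) (Subsingleton.elim (homOfLE le_rfl) (𝟙 U.1))
      |>.trans (ConcreteCategory.congr_hom (X.presheaf.map_id (op U.1)) a)
  rw [this, Ideal.map_id]

/-- The canonical sheaf is invariant under automorphisms. -/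
theorem nonempty_pullback_aut {X Y : Scheme.{u}} (p : X ⟶ Y) [IsLocallyNoetherian Y] [LocallyOfFiniteType p]
    [QuasiCompact p] (φ : X ≅ X) (hφ : φ.hom ≫ p = p) {ω : X.Modules} (hω : Canon.IsCanonical p ω) :
    Nonempty ((Scheme.Modules.pullback φ.hom).obj ω ≅ ω) := by
  obtain ⟨Z, i, g, c, n, hig, hi, hg, hqc, hqs, hvia⟩ := hω
  haveI := hqc
  haveI := hqs
  haveI := hg
  haveI := hi.1
  obtain ⟨-, hv⟩ := via_transfer (i := i) (i' := φ.hom ≫ i) (t := φ.hom) (q := 𝟙 Z)
    (IsPullback.of_horiz_isIso ⟨by simp⟩) (g := g) (g' := g) ((Scheme.Modules.pullbackId Z).app _)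
    (rank_conormal i hi) hvia
  exact Groth.Agent.S13305.result X Y Z Z p (φ.hom ≫ i) g i g (by rw [Category.assoc, hig, hφ]) hig c n c n
    (regularCodim_iso φ hi) hg hi hg _ _ hv hvia

variable {R : Type u} [CommRing R] [IsDomain R] [IsDiscreteValuationRing R] {X : Over (Spec (CommRingCat.of R))}

theorem curveDeg_of_iso (k : Type u) [Field k] {C : Scheme.{u}} [C.Over (Spec (CommRingCat.of k))] {M N : C.Modules}
    (e : M ≅ N) : ArSurf.curveDeg k C M = ArSurf.curveDeg k C N := by
  simp only [ArSurf.curveDeg, FGA.eulerCharLE, fun i => (Euler.hhEquiv (A := k) e i).finrank_eq]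

/-- The image of a vertical prime divisor under an automorphism. -/
def mapComp (Φ : X ⟶ X) [IsIso Φ.left] (Γ : ArSurf.VertComp R X) : ArSurf.VertComp R X :=
  haveI := Γ.isClosedImmersion
  ⟨Γ.curve, Γ.ι ≫ Φ.left, inferInstance, Γ.isIntegral, Γ.dim_eq, by rw [Category.assoc, Over.w Φ]; exact Γ.w⟩

theorem inter_mapComp [IsProper X.hom] [IsLocallyNoetherian X.left] (Φ : X ⟶ X) [IsIso Φ.left]
    (Γ : ArSurf.VertComp R X) {ω : X.left.Modules} (hω : Canon.IsCanonical X.hom ω) :
    ArSurf.inter R X ω (mapComp Φ Γ) = ArSurf.inter R X ω Γ := by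
  obtain ⟨e⟩ := nonempty_pullback_aut X.hom (asIso Φ.left) (Over.w Φ) hω
  exact (curveDeg_of_iso (ResidueField R) ((Scheme.Modules.pullbackComp Γ.ι Φ.left).app ω)).symm.trans
    (curveDeg_of_iso (ResidueField R) ((Scheme.Modules.pullback Γ.ι).mapIso e))

theorem existsUnique_canonicalModel_aut (hX : ArSurf.IsArithSurface R X) (hmin : Neron.IsRelMinimalRegularModel R X)
    (hg : FGA.eulerCharLE (FractionRing R) ((Neron.genericFibre R).obj X).left (Coh.structureModule ((Neron.genericFibre R).obj X).left) 1 ≤ 0)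
    {ωX : X.left.Modules} (hωX : Canon.IsCanonical X.hom ωX)
    {r : ℕ} (Γ : Fin r → ArSurf.VertComp R X)
    (hΓ : Function.Injective fun i => Set.range ((Γ i).ι.base : (Γ i).curve.left → X.left))
    (hK : ∀ i, ArSurf.inter R X ωX (Γ i) = 0)
    (hall : ∀ C : ArSurf.VertComp R X, ArSurf.inter R X ωX C = 0 →
      ∃ i, Set.range (C.ι.base : C.curve.left → X.left) = Set.range ((Γ i).ι.base : (Γ i).curve.left → X.left))
    (Y : Over (Spec (CommRingCat.of R))) (f : X ⟶ Y)
    (hYint : IsIntegral Y.left) (hYnor : ∀ q : Y.left, IsIntegrallyClosed (Y.left.presheaf.stalk q))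
    (hYdim : topologicalKrullDim Y.left = 2) (hYfl : Flat Y.hom) (hYpr : Neron.IsProjectiveOver R Y)
    (hfpt : ∀ i, ∃ y : Y.left, Set.range (((Γ i).ι ≫ f.left).base : (Γ i).curve.left → Y.left) = {y})
    (hfpre : f.left.base ⁻¹' (f.left.base '' ⋃ i, Set.range (Γ i).ι.base) = ⋃ i, Set.range (Γ i).ι.base)
    (hfiso : ∀ V : Y.left.Opens, (V : Set Y.left) ∩ f.left.base '' (⋃ i, Set.range (Γ i).ι.base) = ∅ →
      IsIso (f.left ∣_ V))
    (σ : (Neron.genericFibre R).obj Y ≅ (Neron.genericFibre R).obj Y) :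
    ∃! τ : Y ⟶ Y, IsIso τ ∧ (Neron.genericFibre R).map τ = σ.hom := by
  classical
  haveI := hX.2.1
  haveI := hX.2.2.2.1
  haveI := isProper_of_isArithSurface hX
  haveI := isLocallyNoetherian_of_isArithSurface hX
  -- the contraction is an isomorphism on the generic fibre
  obtain ⟨π, hπ⟩ := IsDiscreteValuationRing.exists_irreducible R
  let jY := pullback.fst Y.hom (Neron.genPt R)
  haveI : IsOpenImmersion jY := isOpenImmersion_generic (IsPullback.of_hasPullback Y.hom (Neron.genPt R))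
  haveI : IsIso (f.left ∣_ jY.opensRange) := by
    refine hfiso _ (Set.eq_empty_iff_forall_notMem.2 ?_)
    rintro _ ⟨hy, ⟨x, hx, rfl⟩⟩
    obtain ⟨i, hi⟩ := Set.mem_iUnion.1 hx
    have h1 : f.left x ∈ (Models.specialFibreSet R Y)ᶜ :=
      (range_generic (IsPullback.of_hasPullback Y.hom (Neron.genPt R))).le hy
    refine h1 ?_
    show Y.hom (f.left x) = closedPoint R
    rw [← Scheme.Hom.comp_apply, Over.w f]
    exact range_subset_fibre _ hi
  haveI hfK : IsIso ((Neron.genericFibre R).map f) := by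
    haveI : IsIso (pullback.snd f.left jY) :=
      ((MorphismProperty.isomorphisms Scheme).arrow_mk_iso_iff (morphismRestrictOpensRange f.left jY)).1 ‹_›
    have H : IsPullback (pullback.fst X.hom (Neron.genPt R)) ((Neron.genericFibre R).map f).left f.left jY := by
      refine IsPullback.of_bot ?_ (genericFibre_map_fst f).symm (IsPullback.of_hasPullback Y.hom (Neron.genPt R))
      have hw : ((Neron.genericFibre R).map f).left ≫ pullback.snd Y.hom (Neron.genPt R) = pullback.snd X.hom (Neron.genPt R) :=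
        Over.w ((Neron.genericFibre R).map f)
      rw [Over.w f, hw]
      exact IsPullback.of_hasPullback X.hom (Neron.genPt R)
    haveI : IsIso ((Neron.genericFibre R).map f).left := by
      rw [← H.isoPullback_hom_snd]; infer_instance
    haveI : IsIso ((Over.forget _).map ((Neron.genericFibre R).map f)) := this
    exact isIso_of_reflects_iso _ (Over.forget _)
  let F := asIso ((Neron.genericFibre R).map f)
  obtain ⟨Φ, ⟨hΦi, hΦ⟩, -⟩ := GrothLib.Contract29.existsUnique_iso_any hX hX hmin hmin hg (F ≪≫ σ ≪≫ F.symm)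
  haveI := hΦi
  haveI : IsIso Φ.left := (Over.forget _).map_isIso Φ
  -- the contracted curves are permuted
  have hperm : ∀ i, ∃ j, Set.range ((Γ i).ι ≫ Φ.left).base = Set.range ((Γ j).ι.base : (Γ j).curve.left → X.left) :=
    fun i => hall (mapComp Φ (Γ i)) ((inter_mapComp Φ (Γ i) hωX).trans (hK i))
  choose p hp using hperm
  have hinj : Function.Injective Φ.left.base := Φ.left.homeomorph.injective
  have hpinj : Function.Injective p := fun i j h => hΓ (by
    show Set.range (Γ i).ι.base = Set.range (Γ j).ι.base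
    apply hinj.image_injective
    rw [← Set.range_comp, ← Set.range_comp]
    show Set.range ((Γ i).ι ≫ Φ.left).base = Set.range ((Γ j).ι ≫ Φ.left).base
    rw [hp, hp, h])
  let S : Set X.left := ⋃ i, Set.range (Γ i).ι.base
  have himg : Φ.left.base '' S = S := by
    simp only [S, Set.image_iUnion]
    rw [← (Finite.injective_iff_bijective.1 hpinj).2.iUnion_comp (fun j => Set.range (Γ j).ι.base)]
    refine Set.iUnion_congr fun i => ?_
    rw [← Set.range_comp]
    exact hp i
  have hpre : Φ.left.base ⁻¹' S = S := by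
    conv_lhs => rw [← himg]
    exact hinj.preimage_image S
  have himg2 : (Φ ≫ f).left.base '' S = f.left.base '' S := by
    conv_rhs => rw [← himg]
    rw [← Set.image_comp]
    rfl
  have h₁ : IsIntegral Y.left ∧ (∀ q : Y.left, IsIntegrallyClosed (Y.left.presheaf.stalk q)) ∧
      topologicalKrullDim Y.left = 2 ∧ Flat Y.hom ∧ Neron.IsProjectiveOver R Y ∧
      (∀ i, ∃ y : Y.left, Set.range (((Γ i).ι ≫ f.left).base : (Γ i).curve.left → Y.left) = {y}) ∧
      f.left.base ⁻¹' (f.left.base '' S) = S ∧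
      (∀ V : Y.left.Opens, (V : Set Y.left) ∩ f.left.base '' S = ∅ → IsIso (f.left ∣_ V)) :=
    ⟨hYint, hYnor, hYdim, hYfl, hYpr, hfpt, hfpre, hfiso⟩
  have h₂ : IsIntegral Y.left ∧ (∀ q : Y.left, IsIntegrallyClosed (Y.left.presheaf.stalk q)) ∧
      topologicalKrullDim Y.left = 2 ∧ Flat Y.hom ∧ Neron.IsProjectiveOver R Y ∧
      (∀ i, ∃ y : Y.left, Set.range (((Γ i).ι ≫ (Φ ≫ f).left).base : (Γ i).curve.left → Y.left) = {y}) ∧
      (Φ ≫ f).left.base ⁻¹' ((Φ ≫ f).left.base '' S) = S ∧
      (∀ V : Y.left.Opens, (V : Set Y.left) ∩ (Φ ≫ f).left.base '' S = ∅ → IsIso ((Φ ≫ f).left ∣_ V)) := by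
    refine ⟨hYint, hYnor, hYdim, hYfl, hYpr, fun i => ?_, ?_, fun V hV => ?_⟩
    · obtain ⟨y, hy⟩ := hfpt (p i)
      refine ⟨y, ?_⟩
      show Set.range (f.left.base ∘ ((Γ i).ι ≫ Φ.left).base) = {y}
      rw [Set.range_comp, hp, ← Set.range_comp]
      exact hy
    · rw [himg2]
      show Φ.left.base ⁻¹' (f.left.base ⁻¹' (f.left.base '' S)) = S
      rw [hfpre]
      exact hpre
    · rw [himg2] at hV
      haveI := hfiso V hV
      rw [Over.comp_left, morphismRestrict_comp]
      infer_instance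
  obtain ⟨⟨g, hgf, hguniq⟩, hgiso⟩ := Groth.Agent.S7909.result R X
    (fun x => by obtain ⟨_, h⟩ := isNormalScheme_of_regular hX.1 x; exact h) hX.2.2.1
    hmin.2.1 Γ Y Y f (Φ ≫ f) h₁ h₂
  haveI : Epi ((Neron.genericFibre R).map f) := inferInstance
  refine ⟨g, ⟨hgiso g hgf, ?_⟩, fun τ' hτ' => hguniq τ' ?_⟩
  · rw [← cancel_epi ((Neron.genericFibre R).map f), ← Functor.map_comp, hgf, Functor.map_comp, hΦ]
    simp [F]
  · haveI : IsProper Y.hom := by
      obtain ⟨n, i, hi, hiY⟩ := hYpr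
      haveI := hi
      haveI : IsProper (CohB1.ProjSpaceOver.toBase n (Spec (CommRingCat.of R))) := GrothLib.Chow.isProper_toBase _ _
      rw [← hiY]; infer_instance
    refine Over.OverMorphism.ext (GrothLib.Contract29.eq_of_genericFibre hX (Over.w (f ≫ τ')) (Over.w (Φ ≫ f)) ?_)
    rw [← genericFibre_map_fst, ← genericFibre_map_fst, Functor.map_comp, hτ'.2, Functor.map_comp, hΦ]
    simp [F]

end GrothLib.Canon12
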