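import Groth.Agent.Lib.Canon12.IsolatedChi
import Groth.Agent.Lib.Canon12.Minimal

/-!
# Components with canonical degree zero
-/

set_option autoImplicit false
set_option linter.all false
set_option backward.isDefEq.respectTransparency false
set_option maxHeartbeats 1000000

universe u

open CategoryTheory AlgebraicGeometry TopologicalSpace IsLocalRing

noncomputable section

namespace GrothLib.Canon12

open GrothLib.ArSurf29

variable {R : Type u} [CommRing R] [IsDomain R] [IsDiscreteValuationRing R] {X : Over (Spec (CommRingCat.of R))}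

theorem canonical_inter_eq_zero_iff (hX : ArSurf.IsArithSurface R X) (E : ArSurf.VertComp R X)
    (L : X.left.Modules) (hL : ClSub.IsInverseOf L (ClSub.idealMod E.ι.ker))
    (ω : X.left.Modules) (hω : Canon.IsCanonical X.hom ω) :
    ArSurf.inter R X ω E = 0 ↔
      ((Models.h1 R X E = 0 ∧ ArSurf.inter R X L E = -2 * (Models.wdeg R X E : ℤ)) ∨
       (FGA.eulerCharLE (FractionRing R) ((Neron.genericFibre R).obj X).left
          (Coh.structureModule ((Neron.genericFibre R).obj X).left) 1 = 0 ∧
        ∃ U : X.left.Opens, (U : Set X.left) ∩ Models.specialFibreSet R X =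
          Set.range (E.ι.base : E.curve.left → X.left))) := by
  classical
  haveI := hX.2.1
  haveI := hX.2.2.2.1
  haveI := isProper_of_isArithSurface hX
  haveI := isLocallyNoetherian_of_isArithSurface hX
  obtain ⟨n, Γ, L', c, hΓ, hL', hc, hΓc, hLc⟩ := exists_componentList_extending hX (fun _ : Fin 1 => E)
    (fun i j _ => Subsingleton.elim i j) (fun _ => L) (fun _ => hL)
  let e := c 0
  have hΓe : Γ e = E := hΓc 0
  have hLe : L' e = L := hLc 0
  have adj : ArSurf.inter R X L E + ArSurf.inter R X ω E =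
      -2 * ((Models.wdeg R X E : ℤ) - Models.h1 R X E) := by
    rw [selfInter_add_canonical_inter hX E L hL ω hω]
    simp only [FGA.eulerCharLE, Finset.sum_range_succ, Finset.sum_range_zero, pow_zero, pow_one, Models.wdeg, Models.h1]
    ring
  have hsum := sum_mult_inter hX.1 hΓ hL' e
  rw [← Finset.add_sum_erase _ _ (Finset.mem_univ e), hΓe, hLe] at hsum
  have hm : (0 : ℤ) < Models.mult R X E := by rw [← hΓe]; exact_mod_cast mult_pos (isMaxComp hΓ e) hX.1
  have hnn : ∀ j ∈ Finset.univ.erase e, 0 ≤ (Models.mult R X (Γ j) : ℤ) * ArSurf.inter R X (L' j) E := fun j hj =>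
    mul_nonneg (Int.natCast_nonneg _) (hΓe ▸ (inter_nonneg_of_ne hX.1 hΓ hL' (Finset.ne_of_mem_erase hj).symm).1)
  let Iso' : Prop := ∀ j, j ≠ e → Disjoint (Set.range (Γ e).ι.base) (Set.range (Γ j).ι.base)
  have h0iff : ArSurf.inter R X L E = 0 ↔ Iso' := by
    constructor
    · intro h0 j hj
      rw [h0, mul_zero, zero_add] at hsum
      have h := (Finset.sum_eq_zero_iff_of_nonneg hnn).1 hsum j (Finset.mem_erase.2 ⟨hj, Finset.mem_univ j⟩)
      have hmj : (0 : ℤ) < Models.mult R X (Γ j) := by exact_mod_cast mult_pos (isMaxComp hΓ j) hX.1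
      exact (inter_nonneg_of_ne hX.1 hΓ hL' hj.symm).2.1 (hΓe.symm ▸ (mul_eq_zero.1 h).resolve_left hmj.ne')
    · intro h
      rw [Finset.sum_eq_zero (fun j hj => by
        rw [← hΓe, (inter_nonneg_of_ne hX.1 hΓ hL' (Finset.ne_of_mem_erase hj).symm).2.2
          (h j (Finset.ne_of_mem_erase hj)), mul_zero]), add_zero] at hsum
      exact (mul_eq_zero.1 hsum).resolve_left hm.ne'
  have hprop : Iso' → ∃ a d : ℤ, 0 < a ∧ 0 < d ∧ a * ((Models.wdeg R X E : ℤ) - Models.h1 R X E) =
      d * FGA.eulerCharLE (FractionRing R) ((Neron.genericFibre R).obj X).left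
        (Coh.structureModule ((Neron.genericFibre R).obj X).left) 1 := fun h => by
    have := exists_chi_proportional hX.1 hΓ e (hL' e) (by rw [hΓe, hLe]; exact h0iff.2 h) h
    rwa [hΓe] at this
  have hU : Iso' → ∃ U : X.left.Opens, (U : Set X.left) ∩ Models.specialFibreSet R X =
      Set.range (E.ι.base : E.curve.left → X.left) := fun h => by
    let T' : Set X.left := ⋃ j ∈ ({e}ᶜ : Set (Fin n)), Set.range (Γ j).ι.base
    have hT' : IsClosed T' := Set.toFinite _ |>.isClosed_biUnion fun j _ => (Γ j).ι.isClosedEmbedding.isClosed_range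
    refine ⟨⟨T'ᶜ, hT'.isOpen_compl⟩, ?_⟩
    rw [← hΓe]
    ext x
    constructor
    · rintro ⟨hx, hxF⟩
      obtain ⟨i, hi⟩ := exists_mem_range hΓ hxF
      by_cases hie : i = e
      · subst hie; exact hi
      · exact (hx (Set.mem_biUnion (x := i) hie hi)).elim
    · intro hx
      refine ⟨fun h' => ?_, range_subset_fibre _ hx⟩
      obtain ⟨j, hj, hj'⟩ := Set.mem_iUnion₂.1 h'
      exact Set.disjoint_left.1 (h j hj) hx hj'
  have hU' : (∃ U : X.left.Opens, (U : Set X.left) ∩ Models.specialFibreSet R X =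
      Set.range (E.ι.base : E.curve.left → X.left)) → Iso' := fun ⟨U, hU⟩ j hj => by
    rw [Set.disjoint_left]
    intro x hxe hxj
    rw [hΓe] at hxe
    have hxU : x ∈ U := (hU.ge hxe).1
    have hg : Models.genPtOf R X (Γ j) ∈ U := ((mem_range_iff _).1 hxj).mem_open U.2 hxU
    exact notMem_range_of_ne hΓ (Ne.symm hj) (hΓe.symm ▸ hU.le ⟨hg, genPt_mem_fibre _⟩)
  have hw : (0 : ℤ) < Models.wdeg R X E := by exact_mod_cast wdeg_pos E
  constructor
  · intro hK
    rw [hK, add_zero] at adj
    by_cases h0 : ArSurf.inter R X L E = 0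
    · obtain ⟨a, d, ha, hd, hcd⟩ := hprop (h0iff.1 h0)
      rw [h0] at adj
      refine Or.inr ⟨?_, hU (h0iff.1 h0)⟩
      rw [show (Models.wdeg R X E : ℤ) - Models.h1 R X E = 0 by linarith, mul_zero] at hcd
      exact (mul_eq_zero.1 hcd.symm).resolve_left hd.ne'
    · have hle : ArSurf.inter R X L E ≤ 0 := by
        have h2 := Finset.sum_nonneg hnn
        by_contra hc
        push Not at hc
        have := mul_pos hm hc
        linarith
      have hlt : ArSurf.inter R X L E < 0 := lt_of_le_of_ne hle h0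
      have h1 : Models.h1 R X E = 0 := by
        by_contra h
        have hle' := Nat.le_of_dvd (Nat.pos_of_ne_zero h) (wdeg_dvd_h1 E)
        omega
      refine Or.inl ⟨h1, ?_⟩
      rw [h1] at adj
      push_cast at adj
      linarith
  · rintro (⟨h1, hS⟩ | ⟨hχ, hUE⟩)
    · rw [h1, hS] at adj
      push_cast at adj
      linarith
    · obtain ⟨a, d, ha, hd, hcd⟩ := hprop (hU' hUE)
      rw [hχ, mul_zero] at hcd
      rw [(mul_eq_zero.1 hcd).resolve_left ha.ne', h0iff.2 (hU' hUE)] at adj
      linarith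

end GrothLib.Canon12
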