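import Groth.Agent.Lib.RegLoc.Basic
import Groth.Agent.Lib.RegUFD.Basic

/-!
# Generators of an integral quotient of embedding codimension one
-/

set_option autoImplicit false
set_option linter.style.haveILetI false
set_option maxHeartbeats 800000

universe u

open IsLocalRing

noncomputable section

namespace GrothLib.Canon12

open GrothLib.RegLoc

theorem span_range_single {P : Type u} [CommRing P] (x : P) :
    Ideal.span (Set.range fun _ : Fin 1 => x) = Ideal.span {x} := by
  rw [Set.range_const]

/-- An integral quotient of a regular local ring whose embedding dimension exceeds its dimension by at most one is cut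
out by as many equations as its codimension. -/
theorem exists_generators_of_embDim : ∀ (n : ℕ) (P : Type u) [CommRing P] [IsRegularLocalRing P],
    (maximalIdeal P).spanFinrank = n → ∀ (K : Ideal P) [K.IsPrime] (e : ℕ),
      ringKrullDim (P ⧸ K) = e → (∃ z : Fin (e + 1) → P, maximalIdeal P = Ideal.span (Set.range z) ⊔ K) →
      ∃ f : Fin (n - e) → P, K = Ideal.span (Set.range f) := by
  intro n
  induction n using Nat.strong_induction_on with
  | _ n ih =>
    intro P _ _ hn K _ e he hz
    haveI := GrothLib.CMFree.isDomain_of_isRegularLocalRing P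
    have hdimP : ringKrullDim P = (n : WithBot ℕ∞) := by
      rw [← IsRegularLocalRing.spanFinrank_maximalIdeal, hn]
    have hKm : K ≤ maximalIdeal P := le_maximalIdeal Ideal.IsPrime.ne_top'
    have hlt : ∀ (J : Ideal P) (b : P), J.IsPrime → J ≤ K → b ∈ K → b ∉ J →
        ringKrullDim (P ⧸ K) + 1 ≤ ringKrullDim (P ⧸ J) := by
      intro J b hJp hJ hb hbJ
      have := isLocalRing_quotient (hJ.trans hKm)
      have hbm : Ideal.Quotient.mk J b ∈ maximalIdeal (P ⧸ J) := by
        rw [← map_maximalIdeal_quotient]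
        exact Ideal.mem_map_of_mem _ (hKm hb)
      have hb0 : Ideal.Quotient.mk J b ≠ 0 := fun h => hbJ (Ideal.Quotient.eq_zero_iff_mem.1 h)
      rw [← ringKrullDim_quotient_span_singleton_succ_eq_ringKrullDim_of_mem_nonZeroDivisors
        (mem_nonZeroDivisors_of_ne_zero hb0) hbm]
      gcongr
      refine ringKrullDim_le_of_surjective
        (Ideal.Quotient.lift (Ideal.span {Ideal.Quotient.mk J b}) (Ideal.Quotient.factor hJ) ?_) ?_
      · intro a ha
        obtain ⟨c, rfl⟩ := Ideal.mem_span_singleton.1 ha
        rw [map_mul, Ideal.Quotient.factor_mk, Ideal.Quotient.eq_zero_iff_mem.2 hb, zero_mul]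
      · exact Ideal.Quotient.lift_surjective_of_surjective _ _ (Ideal.Quotient.factor_surjective hJ)
    by_cases hK : K = ⊥
    · refine ⟨fun _ => 0, ?_⟩
      rw [hK, eq_comm, Ideal.span_eq_bot]
      rintro _ ⟨i, rfl⟩
      rfl
    have hen : e < n := by
      obtain ⟨b, hb, hb0⟩ := Submodule.exists_mem_ne_zero_of_ne_bot hK
      have h := hlt ⊥ b Ideal.isPrime_bot bot_le hb (by simpa using hb0)
      rw [he, ringKrullDim_eq_of_ringEquiv (RingEquiv.quotientBot P), hdimP] at h
      norm_cast at h
    by_cases hn1 : n = e + 1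
    · haveI := GrothLib.RegUFD.ufd_of_isRegularLocalRing P
      obtain ⟨x, hxK, hx⟩ := Ideal.IsPrime.exists_mem_prime_of_ne_bot ‹K.IsPrime› hK
      haveI hxp : (Ideal.span {x}).IsPrime := (Ideal.span_singleton_prime hx.ne_zero).2 hx
      have hKx : K = Ideal.span {x} := by
        refine le_antisymm (fun b hb => ?_) ((Ideal.span_singleton_le_iff_mem K).2 hxK)
        by_contra hbx
        have h := hlt _ b hxp ((Ideal.span_singleton_le_iff_mem K).2 hxK) hb hbx
        have h2 := ringKrullDim_quotient_span_singleton_succ_eq_ringKrullDim_of_mem_nonZeroDivisors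
          (mem_nonZeroDivisors_of_ne_zero hx.ne_zero) (hKm hxK)
        have h3 := (add_le_add h (le_refl (1 : WithBot ℕ∞))).trans h2.le
        rw [he, hdimP, hn1] at h3
        norm_cast at h3
        omega
      obtain ⟨i₀⟩ : Nonempty (Fin (n - e)) := ⟨⟨0, by omega⟩⟩
      refine ⟨fun _ => x, ?_⟩
      haveI : Nonempty (Fin (n - e)) := ⟨i₀⟩
      rw [Set.range_const, hKx]
    obtain ⟨y, hyK, hy2⟩ : ∃ y ∈ K, y ∉ maximalIdeal P ^ 2 := by
      by_contra hc
      push Not at hc
      obtain ⟨z, hz⟩ := hz
      have hspan := eq_maximalIdeal_of_sup_sq (le_sup_left.trans hz.ge) (hz.le.trans (sup_le_sup_left hc _))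
      have := spanFinrank_le_of_span z hspan
      omega
    have hy := hKm hyK
    obtain ⟨hreg, -, hrk⟩ := quotient_isRegularLocalRing hy hy2
    have hyle : Ideal.span {y} ≤ K := (Ideal.span_singleton_le_iff_mem K).2 hyK
    let q := Ideal.Quotient.mk (Ideal.span ({y} : Set P))
    haveI : (K.map q).IsPrime :=
      Ideal.map_isPrime_of_surjective Ideal.Quotient.mk_surjective (by rw [Ideal.mk_ker]; exact hyle)
    let ε : ((P ⧸ Ideal.span {y}) ⧸ K.map q) ≃+* P ⧸ K := DoubleQuot.quotQuotEquivQuotOfLE hyle
    obtain ⟨z, hz⟩ := hz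
    obtain ⟨f, hf⟩ := ih (n - 1) (by omega) (P ⧸ Ideal.span {y})
      (by rw [← map_maximalIdeal_quotient]; omega) (K.map q) e (by rw [ringKrullDim_eq_of_ringEquiv ε, he])
      ⟨q ∘ z, by
        rw [← map_maximalIdeal_quotient, Set.range_comp, ← Ideal.map_span, ← Ideal.map_sup]
        rw [hz]⟩
    choose g hg using Ideal.Quotient.mk_surjective (I := Ideal.span ({y} : Set P))
    have := eq_span_cons (z := g ∘ f) hyK (by simp only [Function.comp_apply, hg]; exact hf)
    rw [show n - e = (n - 1 - e) + 1 by omega]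
    exact ⟨_, this⟩

end GrothLib.Canon12
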