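import Groth.Agent.Lib.Canon12.Vertical
import Groth.Agent.Lib.Canon12.HypLocal
import Groth.Agent.Lib.LciDual27.Basic
import Groth.Agent.Lib.SurfRR28.Dualizing
import Groth.Agent.Lib.ProjIso26.Basic
import Groth.Agent.Lib.HorizCart29.Point
import Groth.Agent.Lib.ArSurf29.Inter
import Groth.Agent.Lib.RegSeqLoc.Scheme

/-!
# The canonical sheaf of a vertical curve and its degree
-/

set_option autoImplicit false
set_option linter.style.haveILetI false
set_option backward.isDefEq.respectTransparency false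
set_option maxHeartbeats 4000000

universe u

open CategoryTheory CategoryTheory.Limits AlgebraicGeometry TopologicalSpace Opposite IsLocalRing
open CategoryTheory.Abelian (Ext)

noncomputable section

namespace GrothLib.Canon12

variable {R : Type u} [CommRing R] [IsDomain R] [IsDiscreteValuationRing R]
  {X : Over (Spec (CommRingCat.of R))}

/-- The local rings of a vertical prime divisor are hypersurface rings. -/
theorem exists_spanning_maximalIdeal (hX : ArSurf.IsArithSurface R X) (E : ArSurf.VertComp R X)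
    (z : E.curve.left) (e : ℕ) (he : ringKrullDim (E.curve.left.presheaf.stalk z) = e) :
    ∃ w : Fin (e + 1) → E.curve.left.presheaf.stalk z,
      maximalIdeal (E.curve.left.presheaf.stalk z) = Ideal.span (Set.range w) := by
  haveI := hX.2.1
  haveI := hX.2.2.2.1
  haveI := ArSurf29.isLocallyNoetherian_of_isArithSurface hX
  haveI := hX.1 (E.ι z)
  let B := X.left.presheaf.stalk (E.ι z)
  obtain ⟨γ, hγ, hγI⟩ := CartierDescent.exists_stalk_generator
    (ArSurf29.isEffCartier_ker (ArSurf29.isMaxComp_of_isArithSurface hX E) hX.1) (E.ι z)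
  rw [HorizCart29.stalkIdeal_ker_eq] at hγI
  let φ := (E.ι.stalkMap z).hom
  have hγm : γ ∈ maximalIdeal B :=
    le_maximalIdeal (RingHom.ker_ne_top φ) (hγI ▸ Ideal.mem_span_singleton_self γ)
  have hq : ringKrullDim (B ⧸ Ideal.span {γ}) = e :=
    (ringKrullDim_eq_of_ringEquiv ((Ideal.quotEquivOfEq hγI.symm).trans
      (RingHom.quotientKerEquivOfSurjective (E.ι.stalkMap_surjective z)))).trans he
  have hB : (maximalIdeal B).spanFinrank = e + 1 := by
    have h := IsRegularLocalRing.spanFinrank_maximalIdeal (R := B)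
    rw [← ringKrullDim_quotient_span_singleton_succ_eq_ringKrullDim_of_mem_nonZeroDivisors hγ hγm, hq] at h
    exact_mod_cast h
  obtain ⟨g, hg⟩ := RegLoc.exists_generators_fin (maximalIdeal B)
  refine ⟨φ ∘ g ∘ finCongr hB.symm, ?_⟩
  rw [Set.range_comp, (finCongr hB.symm).surjective.range_comp, ← Ideal.map_span, hg]
  rw [← IsLocalRing.maximalIdeal_comap φ, Ideal.map_comap_of_surjective _ (E.ι.stalkMap_surjective z)]

/-- A vertical prime divisor of an arithmetic surface is a complete intersection in a projective space. -/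
theorem exists_embedding (hX : ArSurf.IsArithSurface R X) (E : ArSurf.VertComp R X) :
    ∃ (m : ℕ) (ι : E.curve.left ⟶ CohB1.ProjSpace m (ResidueField R)) (_ : IsClosedImmersion ι),
      ι ≫ CohB1.ProjSpace.toSpec m (ResidueField R) = E.curve.hom ∧ 1 ≤ m ∧
      (∀ Z ∈ irreducibleComponents ↥E.curve.left, topologicalKrullDim ↥Z = ((m - (m - 1) : ℕ) : WithBot ℕ∞)) ∧
      RegImm.IsRegularImmersionOfCodim RegImm.Kind.regular (m - 1) ι := by
  obtain ⟨m, i0, hi0, hi0X⟩ := hX.2.2.2.2
  haveI := hi0
  let c := Spec.map (CommRingCat.ofHom (residue R))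
  haveI : IsClosedImmersion c := IsClosedImmersion.spec_of_surjective _ residue_surjective
  have hk := ProjQ9.isPullback_mapBase m c
  let j := hk.lift (E.ι ≫ i0) E.curve.hom (by rw [Category.assoc, hi0X]; exact E.w)
  haveI : IsClosedImmersion j := by
    haveI : IsClosedImmersion (ProjQ9.mapBase m c) := MorphismProperty.of_isPullback hk.flip inferInstance
    haveI : IsClosedImmersion (j ≫ ProjQ9.mapBase m c) := by
      rw [hk.lift_fst]
      infer_instance
    exact IsClosedImmersion.of_comp j (ProjQ9.mapBase m c)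
  haveI := ProjIso26.isIso_toProjSpace m (ResidueField R)
  let ι := j ≫ Ample.ProjMap.toProjSpace m (ResidueField R)
  haveI : IsClosedImmersion ι := inferInstanceAs (IsClosedImmersion (j ≫ Ample.ProjMap.toProjSpace m (ResidueField R)))
  have hι : ι ≫ CohB1.ProjSpace.toSpec m (ResidueField R) = E.curve.hom := by
    rw [Category.assoc, Ample.ProjMap.toProjSpace_toSpec]
    exact hk.lift_snd _ _ _
  have hcomp : ∀ Z ∈ irreducibleComponents ↥E.curve.left, topologicalKrullDim ↥Z = ((1 : ℕ) : WithBot ℕ∞) := by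
    intro Z hZ
    rw [irreducibleComponents_eq_singleton, Set.mem_singleton_iff] at hZ
    subst hZ
    exact (Homeomorph.Set.univ E.curve.left).isHomeomorph.topologicalKrullDim_eq.trans E.dim_eq
  have hm : 1 ≤ m := by
    have h := ι.isClosedEmbedding.topologicalKrullDim_le
    rw [E.dim_eq, Groth.Agent.S10829.result (ResidueField R) m] at h
    exact_mod_cast h
  have heq : ∀ Z ∈ irreducibleComponents ↥E.curve.left,
      topologicalKrullDim ↥Z = ((m - (m - 1) : ℕ) : WithBot ℕ∞) := fun Z hZ => by
    rw [hcomp Z hZ, Nat.sub_sub_self hm]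
  refine ⟨m, ι, inferInstance, hι, hm, heq, LciDual27.isRegularImmersion (Nat.sub_le m 1) ι heq fun z => ?_⟩
  haveI := Chow.isProper_toSpec m (ResidueField R)
  haveI : IsLocallyNoetherian (CohB1.ProjSpace m (ResidueField R)) :=
    LocallyOfFiniteType.isLocallyNoetherian (CohB1.ProjSpace.toSpec m (ResidueField R))
  haveI := DualTF27.isRegular_projSpace (ResidueField R) m (ι z)
  have h1 := CodimExt27.ptDim_add_dim_stalk (CohB1.ProjSpace.toSpec m (ResidueField R))
    (LciDual27.dim_components_proj m) (ι z)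
  have h2 := CodimExt27.ptDim_add_dim_stalk (ι ≫ CohB1.ProjSpace.toSpec m (ResidueField R)) hcomp z
  rw [DimCut.ptDim_immersion (CohB1.ProjSpace.toSpec m (ResidueField R)) ι z] at h2
  obtain ⟨d, hd, -⟩ := RegLoc.exists_dim_eq (R := (CohB1.ProjSpace m (ResidueField R)).presheaf.stalk (ι z))
  obtain ⟨e, he, -⟩ : ∃ e : ℕ, ringKrullDim (E.curve.left.presheaf.stalk z) = e ∧ True := by
    haveI : IsLocallyNoetherian E.curve.left := by
      haveI := Chow.isProper_toSpec m (ResidueField R)
      exact LocallyOfFiniteType.isLocallyNoetherian ι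
    obtain ⟨e, he, -⟩ := RegLoc.exists_dim_eq (R := E.curve.left.presheaf.stalk z)
    exact ⟨e, he, trivial⟩
  have hde : d - e = m - 1 := by
    rw [hd] at h1
    rw [he] at h2
    generalize AffDom.ptDim (ι z) = a at h1 h2
    induction a using WithBot.recBotCoe with
    | bot => simp at h1
    | coe a =>
      change (a : WithBot ℕ∞) + ((d : ℕ∞) : WithBot ℕ∞) = ((m : ℕ∞) : WithBot ℕ∞) at h1
      change (a : WithBot ℕ∞) + ((e : ℕ∞) : WithBot ℕ∞) = (((1 : ℕ) : ℕ∞) : WithBot ℕ∞) at h2
      rw [← WithBot.coe_add, WithBot.coe_eq_coe] at h1 h2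
      induction a using ENat.recTopCoe with
      | top => simp at h1
      | coe a =>
        norm_cast at h1 h2
        omega
  let φ := (ι.stalkMap z).hom
  have hφ : Function.Surjective φ := ι.stalkMap_surjective z
  haveI : (RingHom.ker φ).IsPrime := RingHom.ker_isPrime φ
  obtain ⟨w, hw⟩ := exists_spanning_maximalIdeal hX E z e he
  choose w' hw' using fun i => hφ (w i)
  have hdn : (maximalIdeal ((CohB1.ProjSpace m (ResidueField R)).presheaf.stalk (ι z))).spanFinrank = d := by
    have h := IsRegularLocalRing.spanFinrank_maximalIdeal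
      (R := (CohB1.ProjSpace m (ResidueField R)).presheaf.stalk (ι z))
    rw [hd] at h
    exact_mod_cast h
  obtain ⟨f, hf⟩ := exists_generators_of_embDim d _ hdn (RingHom.ker φ) e
    ((ringKrullDim_eq_of_ringEquiv (RingHom.quotientKerEquivOfSurjective hφ)).trans he)
    ⟨w', by
      rw [← IsLocalRing.maximalIdeal_comap φ, hw, ← RingHom.ker_eq_comap_bot φ |>.symm]
      rw [show Set.range w = φ '' Set.range w' by rw [← Set.range_comp]; congr 1; funext i; exact (hw' i).symm,
        ← Ideal.map_span, Ideal.comap_map_of_surjective _ hφ]⟩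
  obtain ⟨U, hU, hzU, -⟩ := Opens.isBasis_iff_nbhd.1 (CohB1.ProjSpace m (ResidueField R)).isBasis_affineOpens
    (Opens.mem_top (ι z))
  haveI := IsLocallyNoetherian.component_noetherian (X := CohB1.ProjSpace m (ResidueField R)) ⟨U, hU⟩
  letI : Algebra Γ(CohB1.ProjSpace m (ResidueField R), U) ((CohB1.ProjSpace m (ResidueField R)).presheaf.stalk (ι z)) :=
    TopCat.Presheaf.algebra_section_stalk (CohB1.ProjSpace m (ResidueField R)).presheaf (⟨ι z, hzU⟩ : U)
  let p := (hU.primeIdealOf ⟨ι z, hzU⟩).asIdeal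
  haveI hloc : IsLocalization.AtPrime ((CohB1.ProjSpace m (ResidueField R)).presheaf.stalk (ι z)) p :=
    hU.isLocalization_stalk ⟨ι z, hzU⟩
  choose as hs using fun i => IsLocalization.surj p.primeCompl (f i)
  let a : Fin (d - e) → Γ(CohB1.ProjSpace m (ResidueField R), U) := fun i => (as i).1
  have hk := RegSeqLoc.ker_stalkMap ι z ⟨U, hU⟩ hzU
  have hspan : (ι.ker.ideal ⟨U, hU⟩).map (algebraMap Γ(CohB1.ProjSpace m (ResidueField R), U)
      ((CohB1.ProjSpace m (ResidueField R)).presheaf.stalk (ι z))) =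
      (Ideal.span (Set.range a)).map (algebraMap _ _) := by
    refine (hk.symm.trans hf).trans ?_
    rw [Ideal.map_span, ← Set.range_comp]
    refine le_antisymm (Ideal.span_le.2 ?_) (Ideal.span_le.2 ?_)
    · rintro _ ⟨i, rfl⟩
      exact (Ideal.mul_unit_mem_iff_mem _ (IsLocalization.map_units _ (as i).2)).1
        (hs i ▸ Ideal.subset_span ⟨i, rfl⟩)
    · rintro _ ⟨i, rfl⟩
      show algebraMap _ _ (as i).1 ∈ Ideal.span (Set.range f)
      rw [← hs i]
      exact Ideal.mul_mem_right _ _ (Ideal.subset_span ⟨i, rfl⟩)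
  obtain ⟨g, hg, hgeq⟩ := RegSeqLoc.exists_away_eq p.primeCompl
    ((CohB1.ProjSpace m (ResidueField R)).presheaf.stalk (ι z)) _ _ hspan
  letI : Algebra Γ(CohB1.ProjSpace m (ResidueField R), U)
      Γ(CohB1.ProjSpace m (ResidueField R), (CohB1.ProjSpace m (ResidueField R)).basicOpen g) :=
    ((CohB1.ProjSpace m (ResidueField R)).presheaf.map
      (homOfLE ((CohB1.ProjSpace m (ResidueField R)).basicOpen_le g)).op).hom.toAlgebra
  haveI : IsLocalization.Away g
      Γ(CohB1.ProjSpace m (ResidueField R), (CohB1.ProjSpace m (ResidueField R)).basicOpen g) :=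
    hU.isLocalization_basicOpen _
  refine ⟨⟨_, hU.basicOpen g⟩, (Scheme.mem_basicOpen _ _ _ hzU).2 (IsLocalization.map_units
      ((CohB1.ProjSpace m (ResidueField R)).presheaf.stalk (ι z)) (⟨g, hg⟩ : p.primeCompl)), ?_⟩
  rw [← hde]
  refine ⟨fun i => algebraMap _ _ (a i), ?_⟩
  rw [← ι.ker.map_ideal (U := ⟨_, hU.basicOpen g⟩) (V := ⟨U, hU⟩)
    ((CohB1.ProjSpace m (ResidueField R)).basicOpen_le g)]
  refine (hgeq Γ(CohB1.ProjSpace m (ResidueField R), (CohB1.ProjSpace m (ResidueField R)).basicOpen g)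
    (IsLocalization.Away.algebraMap_isUnit g)).trans ?_
  rw [Ideal.map_span, ← Set.range_comp]
  rfl

/-- A vertical prime divisor has a canonical sheaf of degree `-2 χ(O)`. -/
theorem exists_canonical (hX : ArSurf.IsArithSurface R X) (E : ArSurf.VertComp R X) :
    ∃ ω : E.curve.left.Modules, Canon.IsCanonical E.curve.hom ω ∧ PicF.IsInvertible ω ∧
      ArSurf.curveDeg (ResidueField R) E.curve.left ω =
        -2 * FGA.eulerCharLE (ResidueField R) E.curve.left (Coh.structureModule E.curve.left) 1 := by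
  obtain ⟨m, ι, hιc, hι, hm, heq, hreg⟩ := exists_embedding hX E
  haveI := hιc
  let k := ResidueField R
  haveI := Chow.isProper_toSpec m k
  haveI : SmoothOfRelativeDimension m (CohB1.ProjSpace.toSpec m k) := OmegaPn27.smoothOfRelativeDimension_toSpec m k
  haveI : QuasiSeparated (CohB1.ProjSpace.toSpec m k) := inferInstance
  haveI : IsLocallyNoetherian (CohB1.ProjSpace m k) :=
    LocallyOfFiniteType.isLocallyNoetherian (CohB1.ProjSpace.toSpec m k)
  have rC := rank_conormal ι hreg
  let C := ExtPowX.wedge (Omega.conormal ι) (m - 1)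
  have hC : ExtPow.IsExtPow (m - 1) (Omega.conormal ι) C := ExtPowX.isExtPow_wedge (FinCov.isFinLocFree_of_rank rC) _
  have iC : PicF.IsInvertible C := PBDeg.isInvertible_extPow rC hC
  haveI : DCoh.HasSheafHom C := LocFreeHom.hasSheafHom C
  have hd := LciDual27.exists_dualizing_lci (Nat.sub_le m 1) ι hι heq hreg hC
  rw [Nat.sub_sub_self hm] at hd
  obtain ⟨t, hdual⟩ := hd
  let W := (Scheme.Modules.pullback ι).obj (Twist.twistProjSpace m k (-((m : ℤ) + 1)))
  let T := (DCoh.sheafHom C).obj (Coh.structureModule E.curve.left)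
  let ω := CohB1.tensorMod W T
  obtain ⟨T', hT', eT⟩ := VA.exists_inverse iC
  have iO := Euler.isInvertible_structure (X := E.curve.left)
  obtain ⟨v⟩ := SurfRR28.nonempty_sheafHom_iso iC (W := Coh.structureModule E.curve.left) (M := T')
    ((Cube.clsMod_eq_iff (Ample.isInvertible_tensorMod iC hT') iO).1 (by
      rw [Cube.clsMod_tensorMod iC hT', eT, mul_inv_cancel, SurfRR28.clsMod_structure])).some
  have iW : PicF.IsInvertible W := Ample.isInvertible_pullback ι (ProjPic26.isInvertible_twistProjSpace m k _)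
  have iT : PicF.IsInvertible T := RelProjK.isInvertible_of_iso v hT'
  have iω : PicF.IsInvertible ω := Ample.isInvertible_tensorMod iW iT
  have hvia : Canon.IsCanonicalVia ι (CohB1.ProjSpace.toSpec m k) (m - 1) m ω := by
    refine ⟨C, _, hC, OmegaPn27.isExtPow_twist m k, (Cube.clsMod_eq_iff (Ample.isInvertible_tensorMod iω iC) iW).1 ?_⟩
    rw [Cube.clsMod_tensorMod iω iC, Cube.clsMod_tensorMod iW iT, (Cube.clsMod_eq_iff iT hT').2 ⟨v⟩, eT,
      inv_mul_cancel_right]
  refine ⟨ω, ⟨_, ι, _, m - 1, m, hι, hreg, inferInstance, inferInstance, inferInstance, hvia⟩, iω, ?_⟩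
  haveI := HodgeIndex.isProper_of_proj (k := k) (X := E.curve.left) ι hι
  haveI := Euler.isNoetherian_of_proper (X := E.curve.left) k
  haveI : HasExt.{u} E.curve.left.Modules := CategoryTheory.hasExt_of_enoughInjectives E.curve.left.Modules
  have hcl : ∀ y : E.curve.left, IsClosed ({y} : Set E.curve.left) →
      LocCoh.IsCohenMacaulayLocalRing (E.curve.left.presheaf.stalk y) ∧
        ringKrullDim (E.curve.left.presheaf.stalk y) = ((1 : ℕ) : WithBot ℕ∞) := fun y hy => by
    have hdim : ringKrullDim (E.curve.left.presheaf.stalk y) = ((1 : ℕ) : WithBot ℕ∞) := by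
      have h := CodimExt27.ptDim_add_dim_stalk (E.curve.left ↘ Spec (CommRingCat.of k))
        (fun Z hZ => (heq Z hZ).trans (by rw [Nat.sub_sub_self hm])) y
      rwa [AffDom.ptDim_closedPoint hy, zero_add] at h
    refine ⟨?_, hdim⟩
    obtain ⟨a, ham, ha0⟩ := Submodule.exists_mem_ne_zero_of_ne_bot
      (p := maximalIdeal (E.curve.left.presheaf.stalk y)) fun h => by
        have h0 := ringKrullDim_eq_zero_of_isField (IsLocalRing.isField_iff_maximalIdeal_eq.2 h)
        rw [hdim] at h0
        exact absurd h0 (by norm_num)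
    refine CMFree.isCohenMacaulayLocalRing_of_weaklyRegular _ [a]
      ((RingTheory.Sequence.isWeaklyRegular_singleton_iff _ a).2 (isSMulRegular_iff_right_eq_zero_of_smul.2
        fun r hr => (mul_eq_zero.1 (by rwa [smul_eq_mul] at hr)).resolve_left ha0))
      (fun r hr => by rw [List.mem_singleton] at hr; exact hr ▸ ham) hdim.le
  have key : ∀ (L M : E.curve.left.Modules), PicF.IsInvertible L → ∀ (_ : CohB1.tensorMod L M ≅ ω) (p : ℕ), p ≤ 1 →
      Module.finrank k (Coh.HH E.curve.left L p) = Module.finrank k (Coh.HH E.curve.left M (1 - p)) := by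
    intro L M hL u p hp
    haveI : DCoh.HasSheafHom L := LocFreeHom.hasSheafHom L
    obtain ⟨v⟩ := SurfRR28.nonempty_sheafHom_iso hL u
    obtain ⟨a⟩ := (SerrePn27.dualityCM ι hι E.dim_eq hcl (Euler.isCoh_of_isInvertible iω) t hdual L
      (Euler.isCoh_of_isInvertible hL)).1 (1 - p) (by omega)
    obtain ⟨b⟩ := SerrePn27.nonempty_ext_linearEquiv_HH_of_finLocFree (k := k)
      (Euler.isFinLocFree_of_isInvertible hL) (1 - p) ω
    rw [show 1 - (1 - p) = p by omega] at a
    rw [← Subspace.dual_finrank_eq, ← a.finrank_eq, b.finrank_eq,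
      (SerrePn27.hhMapEquiv (k := k) v (1 - p)).finrank_eq]
  have k0 := key _ _ iO (WeilFin11.swapIso _ _ ≪≫ Euler.tFUnitIso ω) 0 (by omega)
  have k1 := key _ _ iO (WeilFin11.swapIso _ _ ≪≫ Euler.tFUnitIso ω) 1 le_rfl
  simp only [ArSurf.curveDeg, FGA.eulerCharLE, Finset.sum_range_succ, Finset.sum_range_zero, pow_zero, pow_one]
  rw [Nat.sub_zero] at k0
  rw [Nat.sub_self] at k1
  have k0' : (Module.finrank k (Coh.HH E.curve.left (Coh.structureModule E.curve.left) 0) : ℤ) =
      Module.finrank k (Coh.HH E.curve.left ω 1) := by exact_mod_cast k0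
  have k1' : (Module.finrank k (Coh.HH E.curve.left (Coh.structureModule E.curve.left) 1) : ℤ) =
      Module.finrank k (Coh.HH E.curve.left ω 0) := by exact_mod_cast k1
  linarith

/-- The adjunction formula. -/
theorem selfInter_add_canonical_inter (hX : ArSurf.IsArithSurface R X) (E : ArSurf.VertComp R X)
    (L : X.left.Modules) (hL : ClSub.IsInverseOf L (ClSub.idealMod E.ι.ker))
    (ω : X.left.Modules) (hω : Canon.IsCanonical X.hom ω) :
    ArSurf.inter R X L E + ArSurf.inter R X ω E =
      -2 * FGA.eulerCharLE (ResidueField R) E.curve.left (Coh.structureModule E.curve.left) 1 := by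
  obtain ⟨ωE, hωE, iωE, hdeg⟩ := exists_canonical hX E
  obtain ⟨e⟩ := nonempty_iso_vertical R X hX E L hL hω hωE
  haveI := hX.2.1
  haveI := ArSurf29.isProper_of_isArithSurface hX
  haveI := hX.2.2.2.1
  haveI := ArSurf29.isLocallyNoetherian_of_isArithSurface hX
  have iL : PicF.IsInvertible L := ArSurf29.isInvertible_of_isInverseOf
    (ArSurf29.isEffCartier_ker (ArSurf29.isMaxComp_of_isArithSurface hX E) hX.1) hL
  have iω : PicF.IsInvertible ω := by
    obtain ⟨Z, i, g, c, n, hig, hi, hg, hqc, hqs, DC, DΩ, hDC, hDΩ, ⟨a⟩⟩ := hω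
    haveI := hg
    haveI := hi.1
    exact FMAdj25.isInvertible_of_tensor (PBDeg.isInvertible_extPow (rank_conormal i hi) hDC)
      (RelProjK.isInvertible_of_iso a (Ample.isInvertible_pullback i (PBDeg.isInvertible_extPow (rank_omega g n) hDΩ)))
  have hLω := Ample.isInvertible_tensorMod iL iω
  rw [← hdeg, ArSurf29.inter_eq_icl E iL, ArSurf29.inter_eq_icl E iω, ← ArSurf29.icl_mul,
    ← Cube.clsMod_tensorMod iL iω, ← ArSurf29.inter_eq_icl E hLω, ArSurf29.inter_eq_deg E hLω]
  have h1 : Curv2.deg (ResidueField R) E.curve.left ωE 1 =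
      Curv2.deg (ResidueField R) E.curve.left ((Scheme.Modules.pullback E.ι).obj (CohB1.tensorMod L ω)) 1 := by
    haveI := ArSurf29.isProper_curve E
    exact Euler.deg_of_iso _ e 1
  rw [← h1]
  haveI := ArSurf29.isProper_curve E
  haveI := Euler.isNoetherian_of_proper (X := E.curve.left) (ResidueField R)
  have h : ∀ G : E.curve.left.Modules, PicF.IsInvertible G →
      FGA.eulerCharLE (ResidueField R) E.curve.left G 1 = Curv2.euler (ResidueField R) E.curve.left G := fun G hG => by
    haveI : G.IsQuasicoherent := (Euler.isCoh_of_isInvertible hG).1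
    exact (Euler.euler_eq_sum _ G (N := 2) fun n hn =>
      Euler.subsingleton_HH_of_two_le (ResidueField R) E.dim_eq.le G n hn).symm
  rw [ArSurf.curveDeg, h _ iωE, h _ Euler.isInvertible_structure, Curv2.deg]
  simp

end GrothLib.Canon12
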