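import Groth.Agent.Lib.ArSurf29.GenusFormula
import Groth.Agent.Lib.ArSurf29.FibreComponents
import Groth.Agent.Lib.Canon12.Curve

/-!
# Canonical degrees on the closed fibre
-/

set_option autoImplicit false
set_option linter.all false
set_option backward.isDefEq.respectTransparency false

universe u

open CategoryTheory CategoryTheory.Limits AlgebraicGeometry TopologicalSpace IsLocalRing

noncomputable section

namespace GrothLib.Canon12

open GrothLib.ArSurf29

section Fibre

variable {R : Type u} [CommRing R] [IsDomain R] [IsDiscreteValuationRing R]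
  {X : Over (Spec (CommRingCat.of R))} [IsProper X.hom] [Flat X.hom] [IsLocallyNoetherian X.left]
  {n : ℕ} {Γ : Fin n → ArSurf.VertComp R X} (hΓ : Models.IsComponentList R X Γ)
  {C : Scheme.{u}} {f : C ⟶ Spec (CommRingCat.of (FractionRing R))} {g : C ⟶ X.left}
  (hg : IsPullback g f X.hom (Spec.map (CommRingCat.ofHom (algebraMap R (FractionRing R)))))
include hΓ hg

/-- `χ` of the closed fibre is `χ` of the generic fibre. -/
theorem chiD_fibre : chiD X (Models.specialFibreIdeal R X) =
    (letI : C.Over (Spec (CommRingCat.of (FractionRing R))) := ⟨f⟩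
     FGA.eulerCharLE (FractionRing R) C (Coh.structureModule C) 1) := by
  obtain ⟨π, hπ⟩ := IsDiscreteValuationRing.exists_irreducible R
  letI : X.left.Over (Spec (CommRingCat.of R)) := ⟨X.hom⟩
  letI : C.Over (Spec (CommRingCat.of (FractionRing R))) := ⟨f⟩
  haveI : IsProper (X.left ↘ Spec (CommRingCat.of R)) := inferInstanceAs (IsProper X.hom)
  haveI : Flat (X.left ↘ Spec (CommRingCat.of R)) := inferInstanceAs (Flat X.hom)
  obtain ⟨hz, hS⟩ := CohFlat0.exists_shortExact R (X := X.left) hπ.maximalIdeal_eq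
    (mem_nonZeroDivisors_of_ne_zero hπ.ne_zero)
  let O := Coh.structureModule X.left
  let Q := ClSub.quotMod (Models.specialFibreIdeal R X)
  have hfin : ∀ i, Module.Finite R (Coh.HH X.left O i) := fun i =>
    ProjCoh.moduleFinite_HH R O (HomSh.isCoh_structureModule X.left) i
  have hμ : ∀ i, Cohom.hhMap R (Formal.smulMod R O π) i = LinearMap.lsmul R (Coh.HH X.left O i) π := fun i =>
    LinearMap.ext fun x => FormalFun.hhMap_smulMod π i x
  -- `H²` vanishes
  have hH2 : Subsingleton (Coh.HH X.left O 2) := by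
    haveI : Subsingleton (Coh.HH X.left Q 2) := subsingleton_quotMod_fibre hΓ le_rfl 2 le_rfl
    have h : Function.Surjective (Cohom.hhMap R (Formal.smulMod R O π) 2) := fun y =>
      (Cohom.exact₂ (A := R) hS 2 y).1 (Subsingleton.elim (α := Coh.HH X.left Q 2) _ _)
    rw [hμ] at h
    haveI := hfin 2
    have htop : (⊤ : Submodule R (Coh.HH X.left O 2)) ≤ maximalIdeal R • ⊤ := fun y _ => by
      obtain ⟨x, rfl⟩ := h y
      exact Submodule.smul_mem_smul (hπ.maximalIdeal_eq ▸ Ideal.mem_span_singleton_self π) trivial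
    have hbot := Submodule.eq_bot_of_le_smul_of_le_jacobson_bot (maximalIdeal R) ⊤ Module.Finite.fg_top htop
      (IsLocalRing.maximalIdeal_le_jacobson _)
    exact ⟨fun a b => by
      have ha : a ∈ (⊤ : Submodule R (Coh.HH X.left O 2)) := trivial
      have hb : b ∈ (⊤ : Submodule R (Coh.HH X.left O 2)) := trivial
      rw [hbot, Submodule.mem_bot] at ha hb
      rw [ha, hb]⟩
  -- the pieces
  have hpiece : ∀ i, Module.length R (Coh.HH X.left Q i) =
      Module.length R (Coh.HH X.left O i ⧸ LinearMap.range (LinearMap.lsmul R (Coh.HH X.left O i) π)) +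
        Module.length R (LinearMap.ker (LinearMap.lsmul R (Coh.HH X.left O (i + 1)) π)) := fun i => by
    let q := Cohom.hhMap R (ClSub.toSubscheme (Models.specialFibreIdeal R X)) i
    have h2 : Function.Exact (Cohom.hhMap R (Formal.smulMod R O π) i) q := Cohom.exact₂ (A := R) hS i
    have h3 : Function.Exact q (Cohom.hhDelta R hS i) := Cohom.exact₃ (A := R) hS i
    have h1 : Function.Exact (Cohom.hhDelta R hS i) (Cohom.hhMap R (Formal.smulMod R O π) (i + 1)) :=
      Cohom.exact₁ (A := R) hS i
    rw [hμ] at h2 h1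
    have e := Module.length_eq_add_of_exact (LinearMap.ker (Cohom.hhDelta R hS i)).subtype
      (Cohom.hhDelta R hS i).rangeRestrict (Submodule.subtype_injective _) (Cohom.hhDelta R hS i).surjective_rangeRestrict
      (LinearMap.exact_iff.2 (by rw [LinearMap.ker_rangeRestrict, Submodule.range_subtype]))
    refine e.trans ?_
    congr 1
    · have e1 := q.quotKerEquivRange
      rw [LinearMap.exact_iff.1 h2] at e1
      rw [LinearMap.exact_iff.1 h3]
      exact e1.length_eq.symm
    · rw [← LinearMap.exact_iff.1 h1]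
  haveI := hfin 0
  haveI := hfin 1
  have hker0 : Module.length R (LinearMap.ker (LinearMap.lsmul R (Coh.HH X.left O 0) π)) = 0 := by
    rw [Module.length_eq_zero_iff, Submodule.subsingleton_iff_eq_bot, LinearMap.ker_eq_bot]
    intro a b hab
    apply (ProjCoh.H0top O).injective
    have h := congrArg (ProjCoh.H0top O) hab
    simp only [LinearMap.lsmul_apply, ProjCoh.H0top_smul] at h
    refine sub_eq_zero.1 (eq_zero_of_res_unif hπ (show Γ(X.left, ⊤) from ProjCoh.H0top O a - ProjCoh.H0top O b) ?_)
    let c : Γ(X.left, ⊤) := Coh.toGlobal X.hom π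
    have hc : c * (show Γ(X.left, ⊤) from ProjCoh.H0top O a - ProjCoh.H0top O b) = 0 := by
      rw [mul_sub]; exact sub_eq_zero.2 h
    have hu : IsUnit (X.left.presheaf.map (homOfLE (le_top : X.left.basicOpen c ≤ ⊤)).op c) :=
      RingedSpace.isUnit_res_basicOpen X.left.toRingedSpace c
    have h4 := congrArg (X.left.presheaf.map (homOfLE (le_top : X.left.basicOpen c ≤ ⊤)).op) hc
    rw [map_mul, map_zero] at h4
    exact hu.mul_right_eq_zero.1 h4
  haveI := hH2
  have hker2 : Module.length R (LinearMap.ker (LinearMap.lsmul R (Coh.HH X.left O (1 + 1)) π)) = 0 := by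
    haveI : Subsingleton (Coh.HH X.left O (1 + 1)) := hH2
    exact Module.length_eq_zero
  obtain ⟨hc0, -⟩ := length_coker_eq (M := Coh.HH X.left O 0) hπ
  obtain ⟨hc1, hk1⟩ := length_coker_eq (M := Coh.HH X.left O 1) hπ
  have h0 := finrank_HH_eq hg 0
  have h1 := finrank_HH_eq hg 1
  rw [hker0, zero_add] at hc0
  have hp0 := hpiece 0
  have hp1 := hpiece 1
  rw [hc0, zero_add, ← h0] at hp0
  rw [hc1, hker2, add_zero, ← h1] at hp1
  obtain ⟨k, hk⟩ := ENat.ne_top_iff_exists.1 hk1
  rw [← hk] at hp0 hp1
  simp only [chiD, Models.lengthH]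
  rw [show (Module.length R (Coh.HH X.left (ClSub.quotMod (Models.specialFibreIdeal R X)) 0)).toNat =
      Module.finrank (FractionRing R) (Coh.HH C (Coh.structureModule C) 0) + k by
      rw [show ClSub.quotMod (Models.specialFibreIdeal R X) = Q from rfl, hp0]; rfl,
    show (Module.length R (Coh.HH X.left (ClSub.quotMod (Models.specialFibreIdeal R X)) 1)).toNat =
      k + Module.finrank (FractionRing R) (Coh.HH C (Coh.structureModule C) 1) by
      rw [show ClSub.quotMod (Models.specialFibreIdeal R X) = Q from rfl, hp1]; rfl]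
  simp only [FGA.eulerCharLE, Finset.sum_range_succ, Finset.sum_range_zero, pow_zero, pow_one]
  push_cast
  ring

end Fibre

variable {R : Type u} [CommRing R] [IsDomain R] [IsDiscreteValuationRing R] {X : Over (Spec (CommRingCat.of R))}

/-- `2 χ(D) = -(D + K)·D` for a divisor in the closed fibre. -/
theorem two_mul_chiD_canonical (hX : ArSurf.IsArithSurface R X)
    {n : ℕ} {Γ : Fin n → ArSurf.VertComp R X} (hΓ : Models.IsComponentList R X Γ)
    {L : Fin n → X.left.Modules} (hL : ∀ j, ClSub.IsInverseOf (L j) (ClSub.idealMod (Γ j).ι.ker))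
    (ω : X.left.Modules) (hω : Canon.IsCanonical X.hom ω)
    (a : Fin n → ℕ) (ha : ∀ j, a j ≤ Models.mult R X (Γ j)) :
    2 * chiD X (∏ j, (Γ j).ι.ker ^ a j) =
      -(∑ i, (a i : ℤ) * (∑ j, (a j : ℤ) * ArSurf.inter R X (L j) (Γ i) + ArSurf.inter R X ω (Γ i))) := by
  haveI := hX.2.1
  haveI := hX.2.2.2.1
  haveI := isProper_of_isArithSurface hX
  haveI := isLocallyNoetherian_of_isArithSurface hX
  rw [two_mul_chiD hX.1 hΓ hL a ha]
  have h : ∀ i, ArSurf.inter R X (L i) (Γ i) + 2 * ((Models.wdeg R X (Γ i) : ℤ) - Models.h1 R X (Γ i)) =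
      -ArSurf.inter R X ω (Γ i) := fun i => by
    have h1 := selfInter_add_canonical_inter hX (Γ i) (L i) (hL i) ω hω
    simp only [FGA.eulerCharLE, Finset.sum_range_succ, Finset.sum_range_zero, pow_zero, pow_one] at h1
    rw [Models.wdeg, Models.h1]
    linarith
  simp only [h, mul_add, Finset.sum_add_distrib, Finset.mul_sum, mul_neg, Finset.sum_neg_distrib, neg_add, mul_assoc]

/-- The degree of the canonical sheaf on the closed fibre. -/
theorem sum_mult_canonical (hX : ArSurf.IsArithSurface R X)
    {n : ℕ} {Γ : Fin n → ArSurf.VertComp R X} (hΓ : Models.IsComponentList R X Γ)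
    (ω : X.left.Modules) (hω : Canon.IsCanonical X.hom ω) :
    ∑ i, (Models.mult R X (Γ i) : ℤ) * ArSurf.inter R X ω (Γ i) =
      -2 * FGA.eulerCharLE (FractionRing R) ((Neron.genericFibre R).obj X).left
        (Coh.structureModule ((Neron.genericFibre R).obj X).left) 1 := by
  haveI := hX.2.1
  haveI := hX.2.2.2.1
  haveI := isProper_of_isArithSurface hX
  haveI := isLocallyNoetherian_of_isArithSurface hX
  choose L hL using fun j => VA.exists_inverse
    (IdealModSec.isInvertible_of_isEffCartier (isEffCartier_ker (isMaxComp hΓ j) hX.1))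
  have hL' : ∀ j, ClSub.IsInverseOf (L j) (ClSub.idealMod (Γ j).ι.ker) := fun j => by
    obtain ⟨hT, e⟩ := hL j
    have hI := IdealModSec.isInvertible_of_isEffCartier (isEffCartier_ker (isMaxComp hΓ j) hX.1)
    exact (Cube.clsMod_eq_iff (Ample.isInvertible_tensorMod hT hI) Euler.isInvertible_structure).1 (by
      rw [Cube.clsMod_tensorMod hT hI, e, inv_mul_cancel, SurfRR28.clsMod_structure])
  have h := two_mul_chiD_canonical hX hΓ hL' ω hω (fun j => Models.mult R X (Γ j)) fun j => le_rfl
  rw [← fibre_eq_prod hΓ hX.1, chiD_fibre hΓ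
    (IsPullback.of_hasPullback X.hom (Neron.genPt R))] at h
  simp only [sum_mult_inter hX.1 hΓ hL', zero_add] at h
  have h' : 2 * FGA.eulerCharLE (FractionRing R) ((Neron.genericFibre R).obj X).left
        (Coh.structureModule ((Neron.genericFibre R).obj X).left) 1 =
      -∑ i, (Models.mult R X (Γ i) : ℤ) * ArSurf.inter R X ω (Γ i) := h
  linarith

end GrothLib.Canon12
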