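import Groth.Agent.Lib.LengthQuotX
import Groth.Agent.Lib.ArSurf29.RankLength
import Mathlib.RingTheory.Algebraic.Integral
import Mathlib.LinearAlgebra.Dimension.RankNullity
import Mathlib.LinearAlgebra.Dimension.FreeAndStrongRankCondition
import Mathlib.LinearAlgebra.Dimension.Torsion.Basic

/-!
# The Euler characteristic of a scalar acting on modules over a finite domain over a DVR
-/

set_option autoImplicit false
set_option linter.all false
set_option backward.isDefEq.respectTransparency false

universe u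

open CycAlg LinearMap

namespace GrothLib.Canon12

variable {R : Type u} [CommRing R]

section Six

variable {A B C : Type u} [AddCommGroup A] [Module R A] [AddCommGroup B] [Module R B] [AddCommGroup C] [Module R C]

theorem perH_ker (φ : A →ₗ[R] A) :
    Module.length R (perH φ (0 : A →ₗ[R] A)) = Module.length R (ker φ) :=
  (Submodule.quotEquivOfEqBot _ (by
    rw [eq_bot_iff]
    intro a ha
    obtain ⟨b, hb⟩ := Submodule.mem_comap.mp ha
    rw [Submodule.mem_bot]
    exact Subtype.ext (by simpa using hb.symm))).length_eq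

theorem perH_coker (φ : A →ₗ[R] A) :
    Module.length R (perH (0 : A →ₗ[R] A) φ) = Module.length R (A ⧸ range φ) := by
  refine (Submodule.Quotient.equiv _ _ ((LinearEquiv.ofEq _ _ ker_zero).trans Submodule.topEquiv) ?_).length_eq
  ext a
  rw [Submodule.mem_map]
  constructor
  · rintro ⟨b, hb, rfl⟩
    exact Submodule.mem_comap.mp hb
  · rintro ⟨c, rfl⟩
    exact ⟨⟨φ c, by simp⟩, Submodule.mem_comap.mpr ⟨c, rfl⟩, rfl⟩

theorem six_term_map (φA : A →ₗ[R] A) (φB : B →ₗ[R] B) (φC : C →ₗ[R] C) (f : A →ₗ[R] B) (g : B →ₗ[R] C)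
    (hf : Function.Injective f) (hg : Function.Surjective g) (hfg : Function.Exact f g)
    (cA : φB ∘ₗ f = f ∘ₗ φA) (cC : φC ∘ₗ g = g ∘ₗ φB) :
    Module.length R (ker φA) + Module.length R (ker φC) + Module.length R (B ⧸ range φB) =
      Module.length R (ker φB) + Module.length R (A ⧸ range φA) + Module.length R (C ⧸ range φC) := by
  have hM : range f = ker g := (LinearMap.exact_iff.mp hfg).symm
  have z₁ : (0 : B →ₗ[R] B) ∘ₗ f = f ∘ₗ (0 : A →ₗ[R] A) := by simp
  have z₂ : (0 : C →ₗ[R] C) ∘ₗ g = g ∘ₗ (0 : B →ₗ[R] B) := by simp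
  obtain ⟨δ, e1, e2, e3⟩ := GrothLib.Herbrand.half φA 0 φB 0 φC 0
    ⟨by simp, by simp⟩ ⟨by simp, by simp⟩ f f g g cA z₁ cC z₂ hf hf hg hg hM hM
  obtain ⟨δ', e4, e5, e6⟩ := GrothLib.Herbrand.half 0 φA 0 φB 0 φC
    ⟨by simp, by simp⟩ ⟨by simp, by simp⟩ f f g g z₁ cA z₂ cC hf hf hg hg hM hM
  have hδ' : range δ' = ⊥ := by
    rw [← LinearMap.exact_iff.mp e6, LinearMap.ker_eq_bot]
    intro a b hab
    rw [← sub_eq_zero, ← map_sub] at hab
    obtain ⟨w, hw, hwe⟩ := GrothLib.Herbrand.perH_cases (a - b)
    rw [← hwe, GrothLib.Herbrand.chainMap_cls, GrothLib.Herbrand.cls_eq_zero_iff] at hab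
    rw [← sub_eq_zero, ← hwe, GrothLib.Herbrand.cls_eq_zero_iff]
    obtain ⟨c, hc⟩ := hab
    exact ⟨0, hf (by simpa using hc)⟩
  have := GrothLib.Herbrand.length_eq_range_add_range (R := R) _ _ e1
  rw [← perH_ker φA, ← perH_ker φB, ← perH_ker φC, ← perH_coker φA, ← perH_coker φB, ← perH_coker φC, this,
    GrothLib.Herbrand.length_eq_range_add_range (R := R) _ _ e2,
    GrothLib.Herbrand.length_eq_range_add_range (R := R) _ _ e3,
    GrothLib.Herbrand.length_eq_range_add_range (R := R) _ _ e4,
    GrothLib.Herbrand.length_eq_range_add_range (R := R) _ _ e5,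
    GrothLib.Herbrand.length_eq_range_add_range (R := R) _ _ e6, hδ', Module.length_bot]
  abel

end Six

variable [IsDomain R] [IsDiscreteValuationRing R]
variable {S : Type u} [CommRing S] [IsDomain S] [Algebra R S] [Module.Finite R S] [FaithfulSMul R S]

/-- Multiplication by `t`, as an `R`-linear map. -/
def actBy (t : S) (N : Type u) [AddCommGroup N] [Module R N] [Module S N] [IsScalarTower R S N] : N →ₗ[R] N :=
  (LinearMap.lsmul S N t).restrictScalars R

/-- The Euler characteristic of multiplication by `t`. -/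
noncomputable def euChar (t : S) (N : Type u) [AddCommGroup N] [Module R N] [Module S N] [IsScalarTower R S N] : ℤ :=
  ((Module.length R (N ⧸ range (actBy (R := R) t N))).toNat : ℤ) - (Module.length R (ker (actBy (R := R) t N))).toNat

variable {N N' N'' : Type u} [AddCommGroup N] [Module R N] [Module S N] [IsScalarTower R S N] [Module.Finite R N]
  [AddCommGroup N'] [Module R N'] [Module S N'] [IsScalarTower R S N'] [Module.Finite R N']
  [AddCommGroup N''] [Module R N''] [Module S N''] [IsScalarTower R S N''] [Module.Finite R N'']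

theorem isTorsion_R_of_smul_eq_zero {P : Type u} [AddCommGroup P] [Module R P] [Module S P] [IsScalarTower R S P]
    (h : ∀ x : P, ∃ t : S, t ≠ 0 ∧ t • x = 0) : Module.IsTorsion R P := fun {x} => by
  obtain ⟨t, ht, hx⟩ := h x
  haveI : Algebra.IsAlgebraic R S := inferInstance
  obtain ⟨r, hr0, w, hw⟩ := (Algebra.IsAlgebraic.isAlgebraic (R := R) t).exists_nonzero_dvd
    (mem_nonZeroDivisors_of_ne_zero ht)
  refine ⟨⟨r, mem_nonZeroDivisors_of_ne_zero hr0⟩, ?_⟩
  show r • x = 0
  rw [← algebraMap_smul S r x, hw, mul_comm, mul_smul, hx, smul_zero]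

theorem length_ker_ne_top {t : S} (ht : t ≠ 0) : Module.length R (ker (actBy (R := R) t N)) ≠ ⊤ := by
  haveI : IsNoetherian R N := inferInstance
  haveI : Module.Finite R (ker (actBy (R := R) t N)) := Module.IsNoetherian.finite R _
  refine ArSurf29.length_torsion_ne_top fun {x} => ?_
  obtain ⟨r, hr⟩ := (isTorsion_R_of_smul_eq_zero (R := R) (S := S) (P := LinearMap.ker (LinearMap.lsmul S N t))
    (fun y => ⟨t, ht, Subtype.ext y.2⟩)) (x := ⟨x.1, x.2⟩)
  exact ⟨r, Subtype.ext (congrArg (fun z : LinearMap.ker (LinearMap.lsmul S N t) => (z : N)) hr)⟩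

theorem length_coker_ne_top {t : S} (ht : t ≠ 0) : Module.length R (N ⧸ range (actBy (R := R) t N)) ≠ ⊤ := by
  refine ArSurf29.length_torsion_ne_top fun {x} => ?_
  obtain ⟨a, rfl⟩ := Submodule.mkQ_surjective _ x
  haveI : Algebra.IsAlgebraic R S := inferInstance
  obtain ⟨r, hr0, w, hw⟩ := (Algebra.IsAlgebraic.isAlgebraic (R := R) t).exists_nonzero_dvd
    (mem_nonZeroDivisors_of_ne_zero ht)
  refine ⟨⟨r, mem_nonZeroDivisors_of_ne_zero hr0⟩, ?_⟩
  show r • (Submodule.Quotient.mk a : N ⧸ range (actBy (R := R) t N)) = 0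
  rw [← Submodule.Quotient.mk_smul, Submodule.Quotient.mk_eq_zero]
  refine ⟨w • a, ?_⟩
  show t • w • a = r • a
  rw [← algebraMap_smul S r a, hw, mul_smul]

theorem euChar_add {t : S} (ht : t ≠ 0) (f : N →ₗ[S] N') (g : N' →ₗ[S] N'') (hf : Function.Injective f)
    (hg : Function.Surjective g) (hfg : Function.Exact f g) :
    euChar (R := R) t N' = euChar (R := R) t N + euChar (R := R) t N'' := by
  have h := six_term_map (actBy (R := R) t N) (actBy (R := R) t N') (actBy (R := R) t N'')
    (f.restrictScalars R) (g.restrictScalars R) hf hg hfg (by ext a; exact (f.map_smul t a).symm)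
    (by ext a; exact (g.map_smul t a).symm)
  obtain ⟨a₁, h₁⟩ := ENat.ne_top_iff_exists.1 (length_ker_ne_top (R := R) (N := N) ht)
  obtain ⟨a₂, h₂⟩ := ENat.ne_top_iff_exists.1 (length_ker_ne_top (R := R) (N := N'') ht)
  obtain ⟨a₃, h₃⟩ := ENat.ne_top_iff_exists.1 (length_coker_ne_top (R := R) (N := N') ht)
  obtain ⟨a₄, h₄⟩ := ENat.ne_top_iff_exists.1 (length_ker_ne_top (R := R) (N := N') ht)
  obtain ⟨a₅, h₅⟩ := ENat.ne_top_iff_exists.1 (length_coker_ne_top (R := R) (N := N) ht)
  obtain ⟨a₆, h₆⟩ := ENat.ne_top_iff_exists.1 (length_coker_ne_top (R := R) (N := N'') ht)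
  simp only [euChar]
  rw [← h₁, ← h₂, ← h₃, ← h₄, ← h₅, ← h₆] at h ⊢
  have h' : a₁ + a₂ + a₃ = a₄ + a₅ + a₆ := by exact_mod_cast h
  simp only [ENat.toNat_coe]
  omega

theorem euChar_of_finiteLength (t : S) (hN : Module.length R N ≠ ⊤) : euChar (R := R) t N = 0 := by
  let μ := actBy (R := R) t N
  have h1 := Module.length_eq_add_of_exact (ker μ).subtype μ.rangeRestrict
    (Submodule.subtype_injective _) μ.surjective_rangeRestrict
    (LinearMap.exact_iff.2 (by rw [LinearMap.ker_rangeRestrict, Submodule.range_subtype]))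
  have h2 := Module.length_eq_add_of_exact (range μ).subtype (range μ).mkQ
    (Submodule.subtype_injective _) (Submodule.mkQ_surjective _) (LinearMap.exact_subtype_mkQ _)
  have hr : Module.length R (range μ) ≠ ⊤ :=
    ne_top_of_le_ne_top hN (Module.length_le_of_injective _ (Submodule.subtype_injective _))
  rw [h1, add_comm] at h2
  simp only [euChar, μ] at h2 hr ⊢
  rw [(WithTop.add_left_cancel hr h2).symm, sub_self]

theorem euChar_congr (t : S) (e : N ≃ₗ[S] N') : euChar (R := R) t N = euChar (R := R) t N' := by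
  have h1 : (range (actBy (R := R) t N)).map (e.restrictScalars R : N →ₗ[R] N') = range (actBy (R := R) t N') := by
    ext y
    constructor
    · rintro ⟨_, ⟨a, rfl⟩, rfl⟩
      exact ⟨e a, (e.map_smul t a).symm⟩
    · rintro ⟨b, rfl⟩
      exact ⟨_, ⟨e.symm b, rfl⟩, (e.map_smul t _).trans (congrArg (t • ·) (e.apply_symm_apply b))⟩
  have h2 : (ker (actBy (R := R) t N)).map (e.restrictScalars R : N →ₗ[R] N') = ker (actBy (R := R) t N') := by
    ext y
    constructor
    · rintro ⟨a, ha, rfl⟩
      show t • e a = 0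
      rw [← e.map_smul, show t • a = 0 from ha, map_zero]
    · intro hy
      refine ⟨e.symm y, ?_, e.apply_symm_apply y⟩
      show t • e.symm y = 0
      rw [← e.symm.map_smul, show t • y = 0 from hy, map_zero]
  simp only [euChar]
  rw [(Submodule.Quotient.equiv _ _ (e.restrictScalars R) h1).length_eq,
    ← ((e.restrictScalars R).submoduleMap (ker (actBy (R := R) t N))).trans (LinearEquiv.ofEq _ _ h2) |>.length_eq]

theorem euChar_pi {t : S} (ht : t ≠ 0) : ∀ r : ℕ,
    euChar (R := R) t (Fin r → S) = (r : ℤ) * euChar (R := R) t S := by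
  intro r
  induction r with
  | zero =>
    rw [Nat.cast_zero, zero_mul]
    exact euChar_of_finiteLength t (by rw [Module.length_eq_zero]; exact ENat.zero_ne_top)
  | succ r ih =>
    let f : S →ₗ[S] (Fin (r + 1) → S) := LinearMap.single S (fun _ => S) 0
    let g : (Fin (r + 1) → S) →ₗ[S] (Fin r → S) := LinearMap.funLeft S S Fin.succ
    rw [euChar_add (R := R) ht f g (Pi.single_injective (M := fun _ : Fin (r + 1) => S) 0) (LinearMap.funLeft_surjective_of_injective _ _ _ (Fin.succ_injective _))
      (fun x => ⟨fun hx => ⟨x 0, funext fun i => ?_⟩, ?_⟩), ih]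
    · push_cast; ring
    · induction i using Fin.cases with
      | zero => simp [f]
      | succ i => simp only [f, LinearMap.coe_single, Pi.single_eq_of_ne (Fin.succ_ne_zero i)]; exact (congrFun hx i).symm
    · rintro ⟨a, rfl⟩
      funext i
      simp [f, g, LinearMap.funLeft]

set_option maxHeartbeats 1000000 in
/-- The Euler characteristic of a scalar is proportional to the rank. -/
theorem exists_rank_euChar (N : Type u) [AddCommGroup N] [Module R N] [Module S N] [IsScalarTower R S N]
    [Module.Finite R N] : ∃ ρ : ℕ, Module.finrank R N = ρ * Module.finrank R S ∧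
      ∀ t : S, t ≠ 0 → euChar (R := R) t N = (ρ : ℤ) * euChar (R := R) t S := by
  haveI : Module.Finite S N := Module.Finite.of_restrictScalars_finite R S N
  obtain ⟨v, hv⟩ : ∃ v : Fin (Module.finrank S N) → N, LinearIndependent S v :=
    exists_linearIndependent_of_le_finrank le_rfl
  let f : (Fin (Module.finrank S N) → S) →ₗ[S] N := Fintype.linearCombination S v
  have hf : Function.Injective f := LinearIndependent.fintypeLinearCombination_injective hv
  let Q := N ⧸ LinearMap.range f
  have hQ0 : Module.finrank S Q = 0 := by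
    have h := Submodule.finrank_quotient_add_finrank (LinearMap.range f)
    rw [LinearMap.finrank_range_of_inj hf, Module.finrank_fin_fun] at h
    show Module.finrank S (N ⧸ LinearMap.range f) = 0
    omega
  haveI : Module.Finite R Q :=
    Module.Finite.of_surjective ((LinearMap.range f).mkQ.restrictScalars R) (Submodule.mkQ_surjective _)
  have hQS : Module.IsTorsion S Q := Module.finrank_eq_zero_iff_isTorsion.1 hQ0
  have hQR : Module.IsTorsion R Q := isTorsion_R_of_smul_eq_zero (S := S) fun x => by
    obtain ⟨a, ha⟩ := @hQS x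
    exact ⟨a, nonZeroDivisors.ne_zero a.2, ha⟩
  haveI : Module.Free R S := Module.free_of_finite_type_torsion_free'
  refine ⟨Module.finrank S N, ?_, fun t ht => ?_⟩
  · have h := Submodule.finrank_quotient_add_finrank (LinearMap.range (f.restrictScalars R))
    rw [LinearMap.finrank_range_of_inj (f := f.restrictScalars R) hf, Module.finrank_pi_fintype,
      Finset.sum_const, Finset.card_univ, Fintype.card_fin, smul_eq_mul] at h
    have h0 : Module.finrank R (N ⧸ LinearMap.range (f.restrictScalars R)) = 0 := Module.finrank_eq_zero_iff_isTorsion.2 hQR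
    omega
  · rw [euChar_add (R := R) ht f (LinearMap.range f).mkQ hf (Submodule.mkQ_surjective _)
      (LinearMap.exact_map_mkQ_range f), euChar_pi ht,
      euChar_of_finiteLength (N := Q) t (ArSurf29.length_torsion_ne_top hQR), add_zero]

end GrothLib.Canon12
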