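import Groth.Agent.Lib.Canon12.IsolatedComp
import Groth.Agent.Lib.Canon12.FibreEuler
import Groth.Agent.Lib.Canon12.ScalarEuler
import Groth.Agent.Lib.CohFlat0.Main

/-!
# The Euler characteristic of an isolated component of the closed fibre
-/

set_option autoImplicit false
set_option linter.all false
set_option backward.isDefEq.respectTransparency false
set_option maxHeartbeats 2000000

universe u

open CategoryTheory CategoryTheory.Limits AlgebraicGeometry TopologicalSpace Opposite IsLocalRing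

noncomputable section

namespace GrothLib.Canon12

open GrothLib.ArSurf29
open GrothLib.InvExt (IsGen mres)
open GrothLib.CartierDescent (stalkIdeal stalkIdeal_eq_top_iff)

section General

variable {Y : Scheme.{u}}

/-- The zero scheme of a global function. -/
def zeroIdeal (t : Γ(Y, ⊤)) : Y.IdealSheafData :=
  (Curv2.idealSheaf Γ(Y, ⊤) (Ideal.span {t})).comap Y.toSpecΓ

theorem zeroIdeal_ideal (t : Γ(Y, ⊤)) (U : Y.affineOpens) :
    (zeroIdeal t).ideal U = Ideal.span {Y.presheaf.map (homOfLE (le_top : U.1 ≤ ⊤)).op t} := by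
  refine (BlowUp.ideal_comap_eq_map (X := Y) (Curv2.idealSheaf Γ(Y, ⊤) (Ideal.span {t}))
    Y.toSpecΓ ⟨⊤, isAffineOpen_top _⟩ U le_top).trans ?_
  rw [Curv2.idealSheaf, Scheme.IdealSheafData.ofIdealTop_ideal]
  simp only [Ideal.map_span, Set.image_singleton]
  refine congrArg (fun a => Ideal.span {a}) ?_
  show Y.presheaf.map _ (Y.toSpecΓ.appTop ((Scheme.ΓSpecIso Γ(Y, ⊤)).inv _)) = _
  rw [Scheme.toSpecΓ_appTop]
  exact congrArg _ ((Scheme.ΓSpecIso Γ(Y, ⊤)).commRingCatIsoToRingEquiv.apply_symm_apply t)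

theorem mem_support_zeroIdeal (t : Γ(Y, ⊤)) (x : Y) : x ∈ (zeroIdeal t).support ↔ x ∉ Y.basicOpen t := by
  obtain ⟨V, hx, -⟩ := GrothLib.BlowUp.exists_affine_mem_le (W := (⊤ : Y.Opens)) (x := x) trivial
  rw [Scheme.IdealSheafData.mem_support_iff_of_mem hx, zeroIdeal_ideal, Scheme.zeroLocus_span, Scheme.mem_zeroLocus_iff]
  simp only [Set.mem_singleton_iff, forall_eq, Scheme.basicOpen_res]
  exact ⟨fun h h' => h ⟨hx, h'⟩, fun h h' => h h'.2⟩

theorem res_mem_nonZeroDivisors [IsIntegral Y] {t : Γ(Y, ⊤)} (ht : t ≠ 0) (U : Y.Opens) :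
    Y.presheaf.map (homOfLE (le_top : U ≤ ⊤)).op t ∈ nonZeroDivisors Γ(Y, U) := by
  by_cases hU : Nonempty U
  · refine mem_nonZeroDivisors_of_ne_zero fun h => ht ?_
    obtain ⟨⟨x, hx⟩⟩ := hU
    refine germ_injective_of_isIntegral Y x (U := (⊤ : Y.Opens)) trivial ?_
    rw [map_zero, ← TopCat.Presheaf.germ_res_apply Y.presheaf (homOfLE (le_top : U ≤ ⊤)) x hx, h, map_zero]
  · haveI : Subsingleton Γ(Y, U) := by
      have : U = ⊥ := le_bot_iff.1 fun x hx => (hU ⟨⟨x, hx⟩⟩).elim
      subst this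
      infer_instance
    exact mem_nonZeroDivisors_iff_right.2 fun b _ => Subsingleton.elim _ _

theorem isEffCartier_zeroIdeal [IsIntegral Y] {t : Γ(Y, ⊤)} (ht : t ≠ 0) :
    _root_.BlowUp.IsEffCartierIdeal (zeroIdeal t) := fun x => by
  obtain ⟨V, hx, -⟩ := GrothLib.BlowUp.exists_affine_mem_le (W := (⊤ : Y.Opens)) (x := x) trivial
  exact ⟨V, hx, _, res_mem_nonZeroDivisors ht V.1, zeroIdeal_ideal t V⟩

/-- The sequence `0 → O →t O → O/t → 0`. -/
theorem exists_shortExact_zeroIdeal [IsIntegral Y] {t : Γ(Y, ⊤)} (ht : t ≠ 0) :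
    ∃ h : Formal.smulModΓ (Coh.structureModule Y) t ≫ ClSub.toSubscheme (zeroIdeal t) = 0,
      (ShortComplex.mk _ _ h).ShortExact := by
  let F := zeroIdeal t
  have hval : ∀ (U : Y.Opens) (m : Γ(Y, U)), (Formal.smulModΓ (Coh.structureModule Y) t).app U m =
      Y.presheaf.map (homOfLE (le_top : U ≤ ⊤)).op t * m := fun U m => rfl
  haveI := Euler.epi_toSubscheme (X := Y) F
  let ι := ClSub.idealModι (X := Y) F
  have hfres : ∀ {U V : Y.Opens} (h : U ≤ V),
      Y.presheaf.map (homOfLE h).op (Y.presheaf.map (homOfLE (le_top : V ≤ ⊤)).op t) =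
        Y.presheaf.map (homOfLE (le_top : U ≤ ⊤)).op t := fun {U V} h => by
    change (Y.presheaf.map _ ≫ Y.presheaf.map _) _ = _
    rw [← Functor.map_comp]
    rfl
  have hzero : Formal.smulModΓ (Coh.structureModule Y) t ≫ ClSub.toSubscheme F = 0 := by
    apply Scheme.Modules.hom_ext
    intro U
    refine AddCommGrpCat.hom_ext (AddMonoidHom.ext fun m => ?_)
    show (F).subschemeι.app U (Y.presheaf.map (homOfLE (le_top : U ≤ ⊤)).op t * (show Γ(Y, U) from m)) = 0
    refine TopCat.Sheaf.eq_of_locally_eq' ⟨_, (F).subscheme.sheaf.2⟩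
      (fun W : {W : Y.affineOpens // W.1 ≤ U} => (F).subschemeι ⁻¹ᵁ W.1.1) _
      (fun W => homOfLE ((F).subschemeι.preimage_mono W.2)) ?_ _ _ fun W => ?_
    · intro z hz
      obtain ⟨W, hW, hWU⟩ := BlowUp.exists_affine_mem_le (X := Y) (W := U) hz
      exact TopologicalSpace.Opens.mem_iSup.2 ⟨⟨W, hWU⟩, hW⟩
    · rw [map_zero]
      have hk : Y.presheaf.map (homOfLE W.2).op (Y.presheaf.map (homOfLE (le_top : U ≤ ⊤)).op t * (show Γ(Y, U) from m)) ∈
          RingHom.ker ((F).subschemeι.app W.1.1).hom := by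
        rw [Scheme.IdealSheafData.ker_subschemeι_app (F) W.1, zeroIdeal_ideal t W.1, map_mul, hfres]
        exact Ideal.mul_mem_right _ _ (Ideal.mem_span_singleton_self _)
      refine Eq.trans ?_ hk
      exact (ConcreteCategory.congr_hom ((F).subschemeι.naturality (homOfLE W.2).op)
        (Y.presheaf.map (homOfLE (le_top : U ≤ ⊤)).op t * (show Γ(Y, U) from m))).symm
  refine ⟨hzero, ?_⟩
  let l := kernel.lift (ClSub.toSubscheme F) _ hzero
  have hl : ∀ (U : Y.Opens) (m : Γ(Y, U)), IdealModSec.val F U (l.app U m) =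
      Y.presheaf.map (homOfLE (le_top : U ≤ ⊤)).op t * m := fun U m => by
    rw [← hval]
    show (l ≫ ι).app U m = _
    rw [show l ≫ ι = _ from kernel.lift_ι _ _ _]
  have he : IsGen (ClSub.idealMod F) ⊤ (l.app ⊤ (1 : Γ(Y, ⊤))) := by
    refine IdealModSec.isGen_of_affine fun T hT => ?_
    have hv : IdealModSec.val F T.1 (mres _ hT (l.app ⊤ (1 : Γ(Y, ⊤)))) =
        Y.presheaf.map (homOfLE (le_top : T.1 ≤ ⊤)).op t := by
      rw [IdealModSec.val_mres, hl, mul_one]
      exact hfres hT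
    refine ⟨fun c d hcd => ?_, fun m => ?_⟩
    · have := congrArg (IdealModSec.val F T.1) hcd
      simp only [IdealModSec.val_smul, hv] at this
      exact (mul_cancel_right_mem_nonZeroDivisors (res_mem_nonZeroDivisors ht T.1)).1 this
    · have := IdealModSec.val_mem F T m
      rw [zeroIdeal_ideal t T] at this
      obtain ⟨c, hc⟩ := Ideal.mem_span_singleton'.1 this
      exact ⟨c, IdealModSec.val_injective F T.1 (by simp only [IdealModSec.val_smul, hv, hc])⟩
  haveI : IsIso l := InvTriv26.isIso_of_app_bijective l fun T => by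
    have e : (fun m : Γ(Y, T) => l.app T m) =
        fun m : Γ(Y, T) => m • mres _ (le_top : T ≤ ⊤) (l.app ⊤ (1 : Γ(Y, ⊤))) :=
      funext fun m => InvTriv26.smul_one_app l T m
    show Function.Bijective fun m : Γ(Y, T) => l.app T m
    rw [e]
    exact he T le_top
  exact ShortComplex.shortExact_of_iso
    (ShortComplex.isoMk (asIso l) (Iso.refl _) (Iso.refl _)
      (by simp [ι, l, ClSub.idealModι]) (by simp) : ShortComplex.mk _ _ hzero ≅
        ShortComplex.mk ι (ClSub.toSubscheme F) (kernel.condition _)).symm (ConnH0.shortExact_ideal F)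

end General

variable {R : Type u} [CommRing R] [IsDomain R] [IsDiscreteValuationRing R] {X : Over (Spec (CommRingCat.of R))}
  [IsProper X.hom] [IsLocallyNoetherian X.left]

/-- Finite lengths, no second cohomology, and Euler characteristic `χ`. -/
def HasChi (M : X.left.Modules) (χ : ℤ) : Prop :=
  letI : X.left.Over (Spec (CommRingCat.of R)) := ⟨X.hom⟩
  Module.length R (Coh.HH X.left M 0) ≠ ⊤ ∧ Module.length R (Coh.HH X.left M 1) ≠ ⊤ ∧
    Subsingleton (Coh.HH X.left M 2) ∧
    ((Module.length R (Coh.HH X.left M 0)).toNat : ℤ) - (Module.length R (Coh.HH X.left M 1)).toNat = χ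

omit [IsProper X.hom] [IsLocallyNoetherian X.left] in
theorem HasChi.of_iso {M N : X.left.Modules} (e : M ≅ N) {χ : ℤ} (h : HasChi M χ) : HasChi N χ := by
  letI : X.left.Over (Spec (CommRingCat.of R)) := ⟨X.hom⟩
  obtain ⟨a, b, c, d⟩ := h
  haveI := c
  refine ⟨?_, ?_, (Euler.hhEquiv (A := R) e 2).symm.toEquiv.subsingleton, ?_⟩
  · rwa [← (Euler.hhEquiv (A := R) e 0).length_eq]
  · rwa [← (Euler.hhEquiv (A := R) e 1).length_eq]
  · rwa [← (Euler.hhEquiv (A := R) e 0).length_eq, ← (Euler.hhEquiv (A := R) e 1).length_eq]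

omit [IsProper X.hom] [IsLocallyNoetherian X.left] in
theorem HasChi.of_shortExact {S : ShortComplex X.left.Modules} (hS : S.ShortExact) {a c : ℤ}
    (hA : HasChi S.X₁ a) (hC : HasChi S.X₃ c) : HasChi S.X₂ (a + c) := by
  letI : X.left.Over (Spec (CommRingCat.of R)) := ⟨X.hom⟩
  obtain ⟨a0, a1, a2, ha⟩ := hA
  obtain ⟨c0, c1, c2, hc⟩ := hC
  haveI := a2
  haveI := c2
  let fA := Cohom.hhMap R S.f 0
  let fB := Cohom.hhMap R S.g 0
  let fC := Cohom.hhDelta R hS 0
  let fD := Cohom.hhMap R S.f 1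
  let fE := Cohom.hhMap R S.g 1
  have eB : Function.Exact fA fB := Cohom.exact₂ (A := R) hS 0
  have eC : Function.Exact fB fC := Cohom.exact₃ (A := R) hS 0
  have eD : Function.Exact fC fD := Cohom.exact₁ (A := R) hS 0
  have eE : Function.Exact fD fE := Cohom.exact₂ (A := R) hS 1
  have eF : Function.Exact fE (0 : Coh.HH X.left S.X₃ 1 →ₗ[R] Coh.HH X.left S.X₁ 0) := by
    intro y
    refine ⟨fun _ => (Cohom.exact₃ (A := R) hS 1 y).1 (Subsingleton.elim (α := Coh.HH X.left S.X₁ 2) _ _), fun _ => rfl⟩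
  have eA : Function.Exact (0 : Coh.HH X.left S.X₃ 1 →ₗ[R] Coh.HH X.left S.X₁ 0) fA := by
    intro y
    refine ⟨fun hy => ⟨0, ?_⟩, ?_⟩
    · rw [map_zero]
      refine Eq.symm ?_
      have := (QCoh.toAbFun_map_shortExact S hS).mono_f
      obtain ⟨ψ, hψ⟩ := (Abelian.Ext.mk₀_bijective _ _).surjective
        (show Abelian.Ext.{u} _ (S.map (QCoh.toAbFun X.left)).X₁ 0 from y)
      have h0 : Abelian.Ext.mk₀ (ψ ≫ (S.map (QCoh.toAbFun X.left)).f) = 0 := by
        rw [← Abelian.Ext.mk₀_comp_mk₀, hψ]; exact hy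
      rw [Abelian.Ext.mk₀_eq_zero_iff] at h0
      exact hψ.symm.trans ((congrArg Abelian.Ext.mk₀ ((cancel_mono (S.map (QCoh.toAbFun X.left)).f).1
        (h0.trans zero_comp.symm))).trans (Abelian.Ext.mk₀_zero _ _))
    · rintro ⟨z, rfl⟩
      simp
  have hB0 : Module.length R (Coh.HH X.left S.X₂ 0) < ⊤ :=
    GrothLib.Herbrand.lt_top_middle fA fB eB a0.lt_top c0.lt_top
  have hB1 : Module.length R (Coh.HH X.left S.X₂ 1) < ⊤ :=
    GrothLib.Herbrand.lt_top_middle fD fE eE a1.lt_top c1.lt_top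
  have h := GrothLib.Herbrand.hexagon fA fB fC fD fE 0 eA eB eC eD eE eF a0.lt_top hB0 c0.lt_top a1.lt_top hB1 c1.lt_top
  change ((Module.length R (Coh.HH X.left S.X₁ 0)).toNat : ℤ) - (Module.length R (Coh.HH X.left S.X₁ 1)).toNat +
    ((Module.length R (Coh.HH X.left S.X₃ 0)).toNat - (Module.length R (Coh.HH X.left S.X₃ 1)).toNat) = _ at h
  refine ⟨hB0.ne, hB1.ne, subsingleton_of_forall_eq 0 fun y => ?_, by omega⟩
  obtain ⟨z, hz⟩ := (Cohom.exact₂ (A := R) hS 2 y).1 (Subsingleton.elim _ _)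
  rw [← hz, Subsingleton.elim z 0, map_zero]

theorem hasChi_push (E : ArSurf.VertComp R X) {N : E.curve.left.Modules} (hN : Coh.IsCoh N) :
    HasChi ((Scheme.Modules.pushforward E.ι).obj N) (Curv2.euler (ResidueField R) E.curve.left N) := by
  letI : X.left.Over (Spec (CommRingCat.of R)) := ⟨X.hom⟩
  letI : E.curve.left.Over (Spec (CommRingCat.of R)) := ⟨E.ι ≫ X.hom⟩
  haveI := isProper_curve E
  haveI := Euler.isNoetherian_of_proper (X := E.curve.left) (ResidueField R)
  haveI := hN.1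
  have hfin : ∀ i, Module.Finite (ResidueField R) (Coh.HH E.curve.left N i) := fun i =>
    Euler.finiteDimensional_HH _ hN i
  have hl : ∀ i, Module.length R (Coh.HH X.left ((Scheme.Modules.pushforward E.ι).obj N) i) =
      (Module.finrank (ResidueField R) (Coh.HH E.curve.left N i) : ℕ∞) := fun i => by
    obtain ⟨e⟩ := Snapper.nonempty_HH_linearEquiv_pushforward (A := R) (S := X.left) E.ι rfl N i
    haveI := hfin i
    rw [← e.length_eq]
    exact length_HH_eq_finrank (Z := E.curve.left) R (ResidueField R) residue_surjective E.w.symm N i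
  refine ⟨?_, ?_, ?_, ?_⟩
  · rw [hl]; exact ENat.coe_ne_top _
  · rw [hl]; exact ENat.coe_ne_top _
  · obtain ⟨e⟩ := Snapper.nonempty_HH_linearEquiv_pushforward (A := R) (S := X.left) E.ι rfl N 2
    haveI := Euler.subsingleton_HH_of_two_le (ResidueField R) E.dim_eq.le N 2 le_rfl
    exact e.symm.toEquiv.subsingleton
  · rw [hl, hl, ENat.toNat_coe, ENat.toNat_coe, Euler.euler_eq_sum (ResidueField R) _ (N := 2) fun m hm =>
      Euler.subsingleton_HH_of_two_le (ResidueField R) E.dim_eq.le _ m hm]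
    simp only [Finset.sum_range_succ, Finset.sum_range_zero]
    ring

/-- The multiples of a curve with self-intersection zero. -/
theorem hasChi_quotMod_pow (E : ArSurf.VertComp R X) (hE : _root_.BlowUp.IsEffCartierIdeal E.ι.ker)
    {L : X.left.Modules} (hL : ClSub.IsInverseOf L (ClSub.idealMod E.ι.ker))
    (h0 : ArSurf.inter R X L E = 0) (a : ℕ) :
    HasChi (ClSub.quotMod (E.ι.ker ^ (a + 1))) ((a + 1 : ℤ) * ((Models.wdeg R X E : ℤ) - Models.h1 R X E)) := by
  haveI := isProper_curve E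
  haveI := Euler.isNoetherian_of_proper (X := E.curve.left) (ResidueField R)
  have hI := IdealModSec.isInvertible_of_isEffCartier hE
  have hχ : ∀ N : E.curve.left.Modules, PicF.IsInvertible N → Curv2.deg (ResidueField R) E.curve.left N 1 = 0 →
      Curv2.euler (ResidueField R) E.curve.left N = (Models.wdeg R X E : ℤ) - Models.h1 R X E := by
    intro N hN hd
    rw [Curv2.deg] at hd
    rw [show Curv2.euler (ResidueField R) E.curve.left N =
      Curv2.euler (ResidueField R) E.curve.left (Coh.structureModule E.curve.left) by push_cast at hd; linarith,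
      Euler.euler_eq_sum (ResidueField R) _ (N := 2) fun m hm =>
        Euler.subsingleton_HH_of_two_le (ResidueField R) E.dim_eq.le _ m hm]
    simp only [Finset.sum_range_succ, Finset.sum_range_zero, Models.wdeg, Models.h1]
    ring
  have hdegI : Curv2.deg (ResidueField R) E.curve.left ((Scheme.Modules.pullback E.ι).obj (ClSub.idealMod E.ι.ker)) 1 = 0 := by
    rw [deg_pullback_ideal E hE hL, h0, neg_zero]
  have hpow : ∀ b : ℕ, PicF.IsInvertible (ClSub.idealMod (E.ι.ker ^ (b + 1))) ∧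
      Curv2.deg (ResidueField R) E.curve.left ((Scheme.Modules.pullback E.ι).obj (ClSub.idealMod (E.ι.ker ^ (b + 1)))) 1 = 0 := by
    intro b
    induction b with
    | zero => rw [zero_add, pow_one]; exact ⟨hI, hdegI⟩
    | succ b ih =>
      obtain ⟨e, -⟩ := exists_iso_mul (E.ι.ker ^ (b + 1)) E.ι.ker ih.1 hI
      rw [pow_succ]
      refine ⟨RelProjK.isInvertible_of_iso e.symm (Ample.isInvertible_tensorMod ih.1 hI), ?_⟩
      refine (Euler.deg_of_iso (ResidueField R) ((OX.pullTensorIso E.ι _ _).symm ≪≫ (Scheme.Modules.pullback E.ι).mapIso e) 1).symm.trans ?_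
      show Curv2.deg _ _ (CohB1.tensorMod _ _) 1 = 0
      rw [CurveMult.deg_tensorMod _ E.dim_eq.le (Kleiman.isInv_pullback E.ι ih.1) (Kleiman.isInv_pullback E.ι hI),
        ih.2, hdegI, add_zero]
  induction a with
  | zero =>
    rw [zero_add, pow_one, Nat.cast_zero, zero_add, one_mul]
    have h := hasChi_push E (HomSh.isCoh_structureModule E.curve.left)
    rw [hχ _ Euler.isInvertible_structure (by rw [Curv2.deg]; simp)] at h
    exact h.of_iso (pushUnitIsoQuot E.ι)
  | succ a ih =>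
    obtain ⟨hD, hdeg⟩ := hpow a
    obtain ⟨S, hS, ⟨a₁⟩, ⟨a₂⟩, ⟨a₃⟩⟩ := exists_shortExact_mul (E.ι.ker ^ (a + 1)) E.ι.ker hD hI
    have hlf := Euler.isFinLocFree_of_isInvertible hD
    haveI := ProjFormula.isIso_projHom E.ι hlf (Coh.structureModule E.curve.left)
    let c₁ : S.X₁ ≅ (Scheme.Modules.pushforward E.ι).obj
        ((Scheme.Modules.pullback E.ι).obj (ClSub.idealMod (E.ι.ker ^ (a + 1)))) :=
      a₁ ≪≫ ((DCoh.tensorBi (X := X.left)).obj (ClSub.idealMod (E.ι.ker ^ (a + 1)))).mapIso (pushUnitIsoQuot E.ι).symm ≪≫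
        asIso (ProjFormula.projHom E.ι (ClSub.idealMod (E.ι.ker ^ (a + 1))) (Coh.structureModule E.curve.left)) ≪≫
        (Scheme.Modules.pushforward E.ι).mapIso (Euler.tFUnitIso _)
    have hN := Kleiman.isInv_pullback E.ι hD
    have h1 := hasChi_push E (Euler.isCoh_of_isInvertible hN)
    rw [hχ _ hN hdeg] at h1
    have h2 := ((h1.of_iso c₁.symm).of_shortExact hS (ih.of_iso a₃.symm)).of_iso a₂
    rw [pow_succ]
    convert h2 using 1
    push_cast
    ring

end GrothLib.Canon12
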