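import Groth.Agent.Lib.Canon12.FibreEuler

/-!
# Adjunction for vertical divisors in the closed fibre
-/

set_option autoImplicit false
set_option linter.all false
set_option backward.isDefEq.respectTransparency false
set_option maxHeartbeats 1000000

universe u

open CategoryTheory CategoryTheory.Limits AlgebraicGeometry TopologicalSpace IsLocalRing

noncomputable section

namespace GrothLib.Canon12

open GrothLib.ArSurf29

variable {R : Type u} [CommRing R] [IsDomain R] [IsDiscreteValuationRing R] {X : Over (Spec (CommRingCat.of R))}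

theorem idealSheaf_le_ker :
    Curv2.idealSheaf R (maximalIdeal R) ≤ (Spec.map (CommRingCat.ofHom (residue R))).ker := by
  refine Scheme.IdealSheafData.le_of_isAffine ?_
  rw [Curv2.idealSheaf, Scheme.IdealSheafData.ofIdealTop_ideal, Scheme.Hom.ker_apply]
  simp only [homOfLE_refl, op_id, CategoryTheory.Functor.map_id, CommRingCat.hom_id, Ideal.map_id]
  rw [Ideal.map_le_iff_le_comap]
  intro a ha
  show (Spec.map (CommRingCat.ofHom (residue R))).appTop ((Scheme.ΓSpecIso (CommRingCat.of R)).inv a) = 0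
  rw [← CommRingCat.comp_apply, ← Scheme.ΓSpecIso_inv_naturality, CommRingCat.comp_apply]
  rw [show (CommRingCat.ofHom (residue R)).hom a = 0 from (residue_eq_zero_iff a).2 ha, map_zero]

theorem fibre_le_of_factor {D : X.left.IdealSheafData} (g : D.subscheme ⟶ Spec (CommRingCat.of (ResidueField R)))
    (hg : g ≫ Spec.map (CommRingCat.ofHom (residue R)) = D.subschemeι ≫ X.hom) :
    Models.specialFibreIdeal R X ≤ D := by
  refine Scheme.IdealSheafData.le_map_iff_comap_le.1 (idealSheaf_le_ker.trans ?_)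
  show _ ≤ (D.subschemeι ≫ X.hom).ker
  rw [← hg]
  exact Scheme.Hom.le_ker_comp _ _

/-- A family of distinct vertical prime divisors is part of a list of the components. -/
theorem exists_componentList_extending (hX : ArSurf.IsArithSurface R X) {r : ℕ} (Γ : Fin r → ArSurf.VertComp R X)
    (hΓ : Function.Injective fun i => Set.range ((Γ i).ι.base : (Γ i).curve.left → X.left))
    (L : Fin r → X.left.Modules) (hL : ∀ j, ClSub.IsInverseOf (L j) (ClSub.idealMod (Γ j).ι.ker)) :
    ∃ (n : ℕ) (Γ' : Fin n → ArSurf.VertComp R X) (L' : Fin n → X.left.Modules) (c : Fin r → Fin n),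
      Models.IsComponentList R X Γ' ∧ (∀ j, ClSub.IsInverseOf (L' j) (ClSub.idealMod (Γ' j).ι.ker)) ∧
        Function.Injective c ∧ (∀ j, Γ' (c j) = Γ j) ∧ ∀ j, L' (c j) = L j := by
  classical
  haveI := hX.2.1
  haveI := hX.2.2.2.1
  haveI := isProper_of_isArithSurface hX
  haveI := isLocallyNoetherian_of_isArithSurface hX
  obtain ⟨n, Γ₀, hΓ₀⟩ := exists_componentList (X := X) hX.2.2.1
  have hmem : ∀ j, ∃ k, Set.range ((Γ₀ k).ι.base : (Γ₀ k).curve.left → X.left) = Set.range (Γ j).ι.base :=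
    fun j => hΓ₀.2.ge (isMaxComp_of_isArithSurface hX (Γ j))
  choose c hc using hmem
  have hcinj : Function.Injective c := fun i j h => hΓ (by
    show Set.range (Γ i).ι.base = Set.range (Γ j).ι.base
    rw [← hc, ← hc, h])
  let Γ' : Fin n → ArSurf.VertComp R X := Function.extend c Γ Γ₀
  have hrange : ∀ k, Set.range ((Γ' k).ι.base : (Γ' k).curve.left → X.left) = Set.range (Γ₀ k).ι.base := fun k => by
    by_cases h : ∃ j, c j = k
    · obtain ⟨j, rfl⟩ := h
      rw [show Γ' (c j) = Γ j from hcinj.extend_apply _ _ j, hc]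
    · rw [show Γ' k = Γ₀ k from Function.extend_apply' _ _ _ h]
  have hlist : Models.IsComponentList R X Γ' := by
    have e : (fun i => Set.range ((Γ' i).ι.base : (Γ' i).curve.left → X.left)) =
        fun i => Set.range ((Γ₀ i).ι.base : (Γ₀ i).curve.left → X.left) := funext hrange
    exact ⟨e ▸ hΓ₀.1, e ▸ hΓ₀.2⟩
  have hI : ∀ k, PicF.IsInvertible (ClSub.idealMod (Γ' k).ι.ker) := fun k =>
    IdealModSec.isInvertible_of_isEffCartier (isEffCartier_ker (isMaxComp hlist k) hX.1)
  choose L₀ hL₀ using fun k => VA.exists_inverse (hI k)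
  have hL₀' : ∀ k, ClSub.IsInverseOf (L₀ k) (ClSub.idealMod (Γ' k).ι.ker) := fun k => by
    obtain ⟨hT, e⟩ := hL₀ k
    exact (Cube.clsMod_eq_iff (Ample.isInvertible_tensorMod hT (hI k)) Euler.isInvertible_structure).1 (by
      rw [Cube.clsMod_tensorMod hT (hI k), e, inv_mul_cancel, SurfRR28.clsMod_structure])
  refine ⟨n, Γ', Function.extend c L L₀, c, hlist, fun k => ?_, hcinj, fun j => hcinj.extend_apply _ _ j,
    fun j => hcinj.extend_apply _ _ j⟩
  by_cases h : ∃ j, c j = k
  · obtain ⟨j, rfl⟩ := h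
    rw [hcinj.extend_apply, show Γ' (c j) = Γ j from hcinj.extend_apply _ _ j]
    exact hL j
  · rw [Function.extend_apply' _ _ _ h]
    exact hL₀' k

/-- Adjunction for a divisor in the closed fibre. -/
theorem adjunction_divisor (hX : ArSurf.IsArithSurface R X) {r : ℕ} (Γ : Fin r → ArSurf.VertComp R X)
    (hΓ : Function.Injective fun i => Set.range ((Γ i).ι.base : (Γ i).curve.left → X.left))
    (L : Fin r → X.left.Modules) (hL : ∀ j, ClSub.IsInverseOf (L j) (ClSub.idealMod (Γ j).ι.ker))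
    (ω : X.left.Modules) (hω : Canon.IsCanonical X.hom ω) (a : Fin r → ℕ)
    (g : (∏ j, (Γ j).ι.ker ^ a j).subscheme ⟶ Spec (CommRingCat.of (ResidueField R)))
    (hg : g ≫ Spec.map (CommRingCat.ofHom (residue R)) = (∏ j, (Γ j).ι.ker ^ a j).subschemeι ≫ X.hom) :
    ∑ i, (a i : ℤ) * (∑ j, (a j : ℤ) * ArSurf.inter R X (L j) (Γ i) + ArSurf.inter R X ω (Γ i)) =
      -2 * ((Models.hRank (ResidueField R) (∏ j, (Γ j).ι.ker ^ a j).subscheme g
          (Coh.structureModule (∏ j, (Γ j).ι.ker ^ a j).subscheme) 0 : ℤ) -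
        (Models.hRank (ResidueField R) (∏ j, (Γ j).ι.ker ^ a j).subscheme g
          (Coh.structureModule (∏ j, (Γ j).ι.ker ^ a j).subscheme) 1 : ℤ)) := by
  classical
  haveI := hX.2.1
  haveI := hX.2.2.2.1
  haveI := isProper_of_isArithSurface hX
  haveI := isLocallyNoetherian_of_isArithSurface hX
  obtain ⟨n, Γ', L', c, hlist, hL', hc, hΓc, hLc⟩ := exists_componentList_extending hX Γ hΓ L hL
  let a' : Fin n → ℕ := Function.extend c a 0
  have ha'0 : ∀ k, (¬ ∃ j, c j = k) → a' k = 0 := fun k h => Function.extend_apply' _ _ _ h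
  have ha'c : ∀ j, a' (c j) = a j := fun j => hc.extend_apply _ _ j
  have hsum : ∀ (F : Fin n → ℤ), ∑ k, (a' k : ℤ) * F k = ∑ j, (a j : ℤ) * F (c j) := fun F => by
    refine (Finset.sum_of_injOn c hc.injOn (fun j _ => by simp) (fun k _ hk => ?_) fun j _ => ?_).symm
    · rw [ha'0 k (fun ⟨j, hj⟩ => hk ⟨j, by simp, hj⟩), Nat.cast_zero, zero_mul]
    · rw [ha'c]
  have hprod : ∏ k, (Γ' k).ι.ker ^ a' k = ∏ j, (Γ j).ι.ker ^ a j := by
    refine (Finset.prod_of_injOn c hc.injOn (fun j _ => by simp) (fun k _ hk => ?_) fun j _ => ?_).symm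
    · rw [ha'0 k (fun ⟨j, hj⟩ => hk ⟨j, by simp, hj⟩), pow_zero]
    · rw [ha'c, hΓc]
  have hfib := fibre_le_of_factor g hg
  have hle : ∀ k, a' k ≤ Models.mult R X (Γ' k) := fun k => by
    rw [mult_eq (isMaxComp hlist k) hX.1, ← oAt_prod hlist hX.1 a' k, hprod]
    refine ENat.toNat_le_toNat ?_ ?_
    · exact Module.length_le_of_surjective
        (Submodule.factor (DivPart.stalkIdeal_mono hfib _)) (Submodule.factor_surjective _)
    · obtain ⟨_, _⟩ := isDVR_genPt (isMaxComp hlist k) hX.1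
      rw [st_eq_pow_oAt (isMaxComp hlist k) hX.1 isEffCartier_fibre]
      obtain ⟨ϖ, hϖ⟩ := IsDiscreteValuationRing.exists_irreducible (X.left.presheaf.stalk (Models.genPtOf R X (Γ' k)))
      rw [hϖ.maximalIdeal_eq, Ideal.span_singleton_pow]
      show Ring.ord _ (ϖ ^ _) ≠ ⊤
      rw [Ring.ord_pow (mem_nonZeroDivisors_of_ne_zero hϖ.ne_zero), Ring.ord_of_irreducible hϖ]
      simp
  have key := two_mul_chiD_canonical hX hlist hL' ω hω a' hle
  simp only [hsum, hΓc, hLc] at key
  rw [hprod] at key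
  letI : (∏ j, (Γ j).ι.ker ^ a j).subscheme.Over (Spec (CommRingCat.of (ResidueField R))) := ⟨g⟩
  rw [chiD, lengthH_quotMod (X := X) hg, lengthH_quotMod (X := X) hg] at key
  simp only [Models.hRank]
  linarith

end GrothLib.Canon12
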