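import Groth.Agent.Lib.Canon12.NumGenusStep
import Groth.Agent.Lib.Canon12.VertDivisor

/-!
# Divisors of non-positive numerical genus
-/

set_option autoImplicit false
set_option linter.all false
set_option backward.isDefEq.respectTransparency false
set_option maxHeartbeats 1000000

universe u

open CategoryTheory CategoryTheory.Limits AlgebraicGeometry TopologicalSpace IsLocalRing

noncomputable section

namespace GrothLib.Canon12

open GrothLib.ArSurf29

variable {R : Type u} [CommRing R] [IsDomain R] [IsDiscreteValuationRing R] {X : Over (Spec (CommRingCat.of R))}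

theorem prod_pow_le {r : ℕ} (I : Fin r → X.left.IdealSheafData) (b : Fin r → ℕ) (j : Fin r) (hb : 0 < b j) :
    ∏ k, I k ^ b k ≤ I j := by
  classical
  rw [← Finset.mul_prod_erase Finset.univ (fun k => I k ^ b k) (Finset.mem_univ j), show b j = b j - 1 + 1 by omega,
    pow_succ', mul_assoc]
  exact mul_le_left' _ _

theorem curveDeg_eq_deg [IsProper X.hom] (Γ : ArSurf.VertComp R X) {M : Γ.curve.left.Modules}
    (hM : PicF.IsInvertible M) :
    ArSurf.curveDeg (ResidueField R) Γ.curve.left M = Curv2.deg (ResidueField R) Γ.curve.left M 1 := by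
  haveI := isProper_curve Γ
  have h : ∀ G : Γ.curve.left.Modules, PicF.IsInvertible G →
      FGA.eulerCharLE (ResidueField R) Γ.curve.left G 1 = Curv2.euler (ResidueField R) Γ.curve.left G := by
    intro G hG
    haveI := Euler.isNoetherian_of_proper (X := Γ.curve.left) (ResidueField R)
    haveI : G.IsQuasicoherent := (Euler.isCoh_of_isInvertible hG).1
    exact (Euler.euler_eq_sum _ G (N := 2) fun n hn =>
      Euler.subsingleton_HH_of_two_le (ResidueField R) Γ.dim_eq.le G n hn).symm
  rw [ArSurf.curveDeg, h _ hM, h _ Euler.isInvertible_structure, Curv2.deg]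
  simp

theorem numGenus (hX : ArSurf.IsArithSurface R X) {r : ℕ} (Γ : Fin r → ArSurf.VertComp R X)
    (hΓ : Function.Injective fun i => Set.range ((Γ i).ι.base : (Γ i).curve.left → X.left))
    (L : Fin r → X.left.Modules) (hL : ∀ j, ClSub.IsInverseOf (L j) (ClSub.idealMod (Γ j).ι.ker))
    (ω : X.left.Modules) (hω : Canon.IsCanonical X.hom ω) (a : Fin r → ℕ)
    (hpa : ∀ a' : Fin r → ℕ, a' ≤ a → a' ≠ 0 →
      ∑ i, (a' i : ℤ) * (∑ j, (a' j : ℤ) * ArSurf.inter R X (L j) (Γ i) + ArSurf.inter R X ω (Γ i)) < 0)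
    (m : ℕ) : ∀ (b : Fin r → ℕ), b ≤ a → ∑ i, b i = m →
      Subsingleton (Coh.HH (∏ j, (Γ j).ι.ker ^ b j).subscheme (Coh.structureModule (∏ j, (Γ j).ι.ker ^ b j).subscheme) 1) ∧
      ∀ N : ((∏ j, (Γ j).ι.ker ^ b j).subscheme).Modules, PicF.IsInvertible N →
        (∀ (i : Fin r) (g : (Γ i).curve.left ⟶ (∏ j, (Γ j).ι.ker ^ b j).subscheme), 0 < b i →
          g ≫ (∏ j, (Γ j).ι.ker ^ b j).subschemeι = (Γ i).ι →
          Curv2.deg (ResidueField R) (Γ i).curve.left ((Scheme.Modules.pullback g).obj N) 1 = 0) →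
        Nonempty (N ≅ Coh.structureModule (∏ j, (Γ j).ι.ker ^ b j).subscheme) := by
  classical
  haveI := hX.2.1
  haveI := hX.2.2.2.1
  haveI := isProper_of_isArithSurface hX
  haveI := isLocallyNoetherian_of_isArithSurface hX
  have hE := fun j => isEffCartier_ker (isMaxComp_of_isArithSurface hX (Γ j)) hX.1
  induction m with
  | zero =>
    intro b hb hm
    have hb0 : ∀ j, b j = 0 := fun j => (Finset.sum_eq_zero_iff.1 hm) j (Finset.mem_univ j)
    set D := ∏ j, (Γ j).ι.ker ^ b j with hD
    haveI : IsEmpty D.subscheme := by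
      have hr : Set.range D.subschemeι = ∅ := by
        rw [Scheme.IdealSheafData.range_subschemeι, hD, Finset.prod_eq_one fun j _ => by rw [hb0 j, pow_zero],
          Scheme.IdealSheafData.one_eq_top]
        simp
      exact Set.range_eq_empty_iff.1 hr
    refine ⟨Euler.subsingleton_HH_of_finite_support _ (Set.toFinite _) (fun x _ => isEmptyElim x) 1 le_rfl,
      fun N hN _ => ?_⟩
    haveI : IsIso (0 : N ⟶ Coh.structureModule D.subscheme) := (OX.isIso_iff _).2 fun x => isEmptyElim x
    exact ⟨asIso (0 : N ⟶ Coh.structureModule D.subscheme)⟩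
  | succ m ih =>
    intro b hb hm
    have hb0 : b ≠ 0 := by
      rintro rfl
      simp at hm
    obtain ⟨i, hbi, hsi⟩ : ∃ i, 0 < b i ∧
        ∑ j, (b j : ℤ) * ArSurf.inter R X (L j) (Γ i) + ArSurf.inter R X ω (Γ i) < 0 := by
      by_contra h
      push Not at h
      refine (hpa b hb hb0).not_ge (Finset.sum_nonneg fun i _ => ?_)
      rcases Nat.eq_zero_or_pos (b i) with h0 | h0
      · rw [h0]; simp
      · exact mul_nonneg (Int.natCast_nonneg _) (h i h0)
    obtain ⟨b', hb'i, hb'j⟩ : ∃ b' : Fin r → ℕ, b' i + 1 = b i ∧ ∀ j, j ≠ i → b' j = b j :=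
      ⟨Function.update b i (b i - 1), by rw [Function.update_self]; omega,
        fun j hj => Function.update_of_ne hj _ _⟩
    have hle : b' ≤ b := fun j => by
      rcases eq_or_ne j i with h | hj
      · subst h; exact (Nat.le_succ _).trans hb'i.le
      · rw [hb'j j hj]
    have hsum : ∑ j, b' j = m := by
      have h1 : b i + ∑ j ∈ Finset.univ.erase i, b j = ∑ j, b j :=
        Finset.add_sum_erase Finset.univ b (Finset.mem_univ i)
      have h2 : b' i + ∑ j ∈ Finset.univ.erase i, b' j = ∑ j, b' j :=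
        Finset.add_sum_erase Finset.univ b' (Finset.mem_univ i)
      have h3 : ∑ j ∈ Finset.univ.erase i, b' j = ∑ j ∈ Finset.univ.erase i, b j :=
        Finset.sum_congr rfl fun j hj => hb'j j (Finset.ne_of_mem_erase hj)
      omega
    obtain ⟨hV, hPV⟩ := ih b' (hle.trans hb) hsum
    set D' := ∏ j, (Γ j).ι.ker ^ b' j with hD'
    set DD := ∏ j, (Γ j).ι.ker ^ b j with hDD
    have hprod : DD = D' * (Γ i).ι.ker := by
      rw [hD', hDD, ← Finset.mul_prod_erase Finset.univ (fun j => (Γ j).ι.ker ^ b j) (Finset.mem_univ i),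
        ← Finset.mul_prod_erase Finset.univ (fun j => (Γ j).ι.ker ^ b' j) (Finset.mem_univ i),
        Finset.prod_congr rfl fun j hj => (congrArg ((Γ j).ι.ker ^ ·) (hb'j j (Finset.ne_of_mem_erase hj))).symm, ← hb'i, pow_succ]
      ac_rfl
    haveI := (Γ i).isClosedImmersion
    let c := IsClosedImmersion.lift DD.subschemeι (Γ i).ι (by
      rw [Scheme.IdealSheafData.ker_subschemeι, hDD]; exact prod_pow_le _ b i hbi)
    have hc : c ≫ DD.subschemeι = (Γ i).ι := IsClosedImmersion.lift_fac _ _ _
    let v := IsClosedImmersion.lift DD.subschemeι D'.subschemeι (by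
      rw [Scheme.IdealSheafData.ker_subschemeι, Scheme.IdealSheafData.ker_subschemeι, hprod]
      exact mul_le_left' _ _)
    have hv : v ≫ DD.subschemeι = D'.subschemeι := IsClosedImmersion.lift_fac _ _ _
    haveI : IsClosedImmersion (v ≫ DD.subschemeι) := hv ▸ inferInstance
    haveI : IsClosedImmersion v := IsClosedImmersion.of_comp v DD.subschemeι
    -- the class of `D'`
    choose hP hPe using fun j => cls_idealMod_pow (hE j) (b' j)
    obtain ⟨hD'i, hD'e⟩ := cls_idealMod_prod Finset.univ (fun j => (Γ j).ι.ker ^ b' j) hP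
    have hLi := fun j => isInvertible_of_isInverseOf (hE j) (hL j)
    haveI := isProper_curve (Γ i)
    have hdeg : Curv2.deg (ResidueField R) (Γ i).curve.left ((Scheme.Modules.pullback (Γ i).ι).obj (ClSub.idealMod D')) 1 =
        -∑ j, (b' j : ℤ) * ArSurf.inter R X (L j) (Γ i) := by
      rw [← inter_eq_deg (Γ i) hD'i, inter_eq_icl (Γ i) hD'i, hD'e, icl_prod, ← Finset.sum_neg_distrib]
      refine Finset.sum_congr rfl fun j _ => ?_
      rw [hPe, icl_pow, inter_eq_icl (Γ i) (hLi j),
        cls_of_isInverseOf (hLi j) (IdealModSec.isInvertible_of_isEffCartier (hE j)) (hL j), icl_inv, mul_neg, neg_neg]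
    -- the numerical invariants of the curve
    have hsingle : ArSurf.inter R X (L i) (Γ i) + ArSurf.inter R X ω (Γ i) < 0 := by
      have hs : (Pi.single i 1 : Fin r → ℕ) ≤ a := fun j => by
        rcases eq_or_ne j i with rfl | hj
        · rw [Pi.single_eq_same]; exact le_trans hbi (hb j)
        · rw [Pi.single_eq_of_ne hj]; exact Nat.zero_le _
      have h := hpa _ hs (by simp)
      simpa [Pi.single_apply] using h
    have adj := selfInter_add_canonical_inter hX (Γ i) (L i) (hL i) ω hω
    simp only [FGA.eulerCharLE, Finset.sum_range_succ, Finset.sum_range_zero, pow_zero, pow_one] at adj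
    have hw : (0 : ℤ) < Models.wdeg R X (Γ i) := by exact_mod_cast wdeg_pos (Γ i)
    obtain ⟨g, hgen⟩ := wdeg_dvd_h1 (Γ i)
    have hg : Models.h1 R X (Γ i) = 0 := by
      rcases Nat.eq_zero_or_pos g with rfl | hg
      · rw [hgen, mul_zero]
      · exfalso
        have h1 : (Models.wdeg R X (Γ i) : ℤ) ≤ Models.h1 R X (Γ i) := by
          rw [hgen]; push_cast; exact le_mul_of_one_le_right hw.le (by exact_mod_cast hg)
        simp only [Models.h1, Models.wdeg] at h1
        omega
    have hd : -(Models.wdeg R X (Γ i) : ℤ) ≤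
        Curv2.deg (ResidueField R) (Γ i).curve.left ((Scheme.Modules.pullback (Γ i).ι).obj (ClSub.idealMod D')) 1 := by
      rw [hdeg]
      obtain ⟨k, hk⟩ : (Models.wdeg R X (Γ i) : ℤ) ∣ ∑ j, (b' j : ℤ) * ArSurf.inter R X (L j) (Γ i) :=
        Finset.dvd_sum fun j _ => dvd_mul_of_dvd_right (wdeg_dvd_inter (Γ i) (hLi j)) _
      have hsplit : ∑ j, (b j : ℤ) * ArSurf.inter R X (L j) (Γ i) =
          ∑ j, (b' j : ℤ) * ArSurf.inter R X (L j) (Γ i) + ArSurf.inter R X (L i) (Γ i) := by
        rw [← Finset.add_sum_erase Finset.univ _ (Finset.mem_univ i),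
          ← Finset.add_sum_erase Finset.univ (fun j => (b' j : ℤ) * ArSurf.inter R X (L j) (Γ i)) (Finset.mem_univ i),
          Finset.sum_congr rfl fun j hj => (congrArg (fun t : ℕ => (t : ℤ) * ArSurf.inter R X (L j) (Γ i)) (hb'j j (Finset.ne_of_mem_erase hj))).symm, ← hb'i]
        push_cast
        ring
      simp only [Models.h1] at hg
      rw [hg] at adj
      simp only [Models.wdeg] at hk hw ⊢
      rw [hk]
      push_cast at adj
      have hlt : (Module.finrank (ResidueField R) (Coh.HH (Γ i).curve.left (Coh.structureModule (Γ i).curve.left) 0) : ℤ) * k <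
          (Module.finrank (ResidueField R) (Coh.HH (Γ i).curve.left (Coh.structureModule (Γ i).curve.left) 0) : ℤ) * 2 := by
        rw [← hk]; linarith
      have hk2 := lt_of_mul_lt_mul_left hlt hw.le
      nlinarith
    have hd0 : Disjoint (Set.range c) (Set.range v) →
        Curv2.deg (ResidueField R) (Γ i).curve.left ((Scheme.Modules.pullback (Γ i).ι).obj (ClSub.idealMod D')) 1 = 0 := by
      intro hdis
      rw [hdeg, neg_eq_zero]
      obtain ⟨n, Γ', L', e, hlist, hL', he, heΓ, heL⟩ := exists_componentList_extending hX Γ hΓ L hL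
      refine Finset.sum_eq_zero fun j _ => ?_
      rcases Nat.eq_zero_or_pos (b' j) with h0 | h0
      · rw [h0]; simp
      haveI := (Γ j).isClosedImmersion
      let cj := IsClosedImmersion.lift D'.subschemeι (Γ j).ι (by
        rw [Scheme.IdealSheafData.ker_subschemeι, hD']; exact prod_pow_le _ b' j h0)
      have hcj : cj ≫ D'.subschemeι = (Γ j).ι := IsClosedImmersion.lift_fac _ _ _
      have hd2 : Disjoint (Set.range (Γ i).ι.base) (Set.range (Γ j).ι.base) := by
        rw [Set.disjoint_left]
        rintro _ ⟨x, rfl⟩ ⟨y, hy⟩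
        refine Set.disjoint_left.1 hdis ⟨x, rfl⟩ ⟨cj y, DD.subschemeι.isClosedEmbedding.injective ?_⟩
        have h1 : DD.subschemeι (v (cj y)) = (Γ j).ι y := by
          rw [← Scheme.Hom.comp_apply, hv, ← Scheme.Hom.comp_apply, hcj]
        have h2 : DD.subschemeι (c x) = (Γ i).ι x := by rw [← Scheme.Hom.comp_apply, hc]
        exact h1.trans (hy.trans h2.symm)
      have hne : e i ≠ e j := fun h => by
        obtain rfl := he h
        obtain ⟨x⟩ : Nonempty (Γ i).curve.left := by haveI := (Γ i).isIntegral; infer_instance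
        exact Set.disjoint_left.1 hd2 ⟨x, rfl⟩ ⟨x, rfl⟩
      have h := (inter_nonneg_of_ne hX.1 hlist hL' hne).2.2 (by rwa [heΓ, heΓ])
      rw [heΓ, heL] at h
      rw [h, mul_zero]
    obtain ⟨h1, h2⟩ := step DD.subschemeι (Γ i) c hc v D' hD'i (hE i)
      (by rw [Scheme.IdealSheafData.ker_subschemeι, hprod])
      (by rw [hv, Scheme.IdealSheafData.ker_subschemeι]) hg hd hd0 hV
    refine ⟨h1, fun N hN hdN => h2 N hN (hdN i c hbi hc) ?_⟩
    refine hPV _ (Kleiman.isInv_pullback v hN) fun j g hj hgj => ?_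
    rw [← hdN j (g ≫ v) (lt_of_lt_of_le hj (hle j)) (by rw [Category.assoc, hv, hgj])]
    haveI := isProper_curve (Γ j)
    exact Euler.deg_of_iso _ ((Scheme.Modules.pullbackComp g v).app N) 1

end GrothLib.Canon12
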