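import Groth.Agent.Lib.Canon12.IsolatedComp
import Groth.Agent.Lib.Canon12.FibreEuler
import Groth.Agent.Lib.Canon12.ScalarEuler
import Groth.Agent.Lib.CohFlat0.Main
import Groth.Agent.Lib.Canon12.IsolatedSeq
import Groth.Agent.Lib.Canon12.NumGenus

/-!
# The Euler characteristic of an isolated component of the closed fibre
-/

set_option autoImplicit false
set_option linter.all false
set_option backward.isDefEq.respectTransparency false
set_option maxHeartbeats 2000000

universe u

open CategoryTheory CategoryTheory.Limits AlgebraicGeometry TopologicalSpace Opposite IsLocalRing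

noncomputable section

namespace GrothLib.Canon12

open GrothLib.ArSurf29
open GrothLib.InvExt (IsGen mres)
open GrothLib.CartierDescent (stalkIdeal stalkIdeal_eq_top_iff)
open GrothLib.Cube (Pic clsMod)

variable {R : Type u} [CommRing R] [IsDomain R] [IsDiscreteValuationRing R] {X : Over (Spec (CommRingCat.of R))}
  [IsProper X.hom] [IsLocallyNoetherian X.left]

variable [Flat X.hom]

theorem icl_one (E : ArSurf.VertComp R X) : icl E 1 = 0 := by
  have := icl_prod E (∅ : Finset ℕ) (fun _ => (1 : Pic X.left))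
  simpa using this

/-- For an open and closed union of components, a principal divisor supported exactly there. -/
theorem exists_cluster [IsIntegral X.left] (hX : Models.IsRegularScheme X.left)
    {n : ℕ} {Γ : Fin n → ArSurf.VertComp R X} (hΓ : Models.IsComponentList R X Γ) (J : Set (Fin n)) (e : Fin n) (he : e ∈ J)
    {L : Fin n → X.left.Modules} (hL : ∀ j, ClSub.IsInverseOf (L j) (ClSub.idealMod (Γ j).ι.ker))
    (hdisj : ∀ i ∈ J, ∀ j, j ∉ J → Disjoint (Set.range (Γ i).ι.base) (Set.range (Γ j).ι.base)) :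
    ∃ a : Fin n → ℕ, (∀ j, j ∉ J → a j = 0) ∧ a e ≠ 0 ∧ (∀ i, ∑ j, (a j : ℤ) * ArSurf.inter R X (L j) (Γ i) = 0) ∧
      ∀ χ : ℤ, HasChi (ClSub.quotMod (∏ j, (Γ j).ι.ker ^ a j)) χ → ∃ c d : ℤ, 0 < c ∧ 0 < d ∧ c * χ =
        d * FGA.eulerCharLE (FractionRing R) ((Neron.genericFibre R).obj X).left
          (Coh.structureModule ((Neron.genericFibre R).obj X).left) 1 := by
  classical
  letI : X.left.Over (Spec (CommRingCat.of R)) := ⟨X.hom⟩
  haveI : IsProper (X.left ↘ Spec (CommRingCat.of R)) := inferInstanceAs (IsProper X.hom)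
  obtain ⟨π, hπ⟩ := IsDiscreteValuationRing.exists_irreducible R
  -- the separating function
  let y : Spec (CommRingCat.of R) := closedPoint R
  let T : Set X.left := ⋃ j ∈ J, Set.range (Γ j).ι.base
  let T' : Set X.left := ⋃ j ∈ Jᶜ, Set.range (Γ j).ι.base
  have hT : IsClosed T := Set.toFinite _ |>.isClosed_biUnion fun j _ => (Γ j).ι.isClosedEmbedding.isClosed_range
  have hT' : IsClosed T' := Set.toFinite _ |>.isClosed_biUnion fun j _ => (Γ j).ι.isClosedEmbedding.isClosed_range
  have hrange : Set.range (X.hom.fiberι y) = Models.specialFibreSet R X := X.hom.range_fiberι y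
  have hcompl : (X.hom.fiberι y ⁻¹' T')ᶜ = X.hom.fiberι y ⁻¹' T := by
    ext z
    obtain ⟨i, hi⟩ := exists_mem_range hΓ (hrange.le ⟨z, rfl⟩)
    simp only [Set.mem_compl_iff, Set.mem_preimage, T', T, Set.mem_iUnion₂]
    constructor
    · intro h
      by_cases hie : i ∈ J
      · exact ⟨i, hie, hi⟩
      · exact absurd ⟨i, hie, hi⟩ h
    · rintro ⟨l, hl, hl'⟩ ⟨j, hj, hj'⟩
      exact Set.disjoint_left.1 (hdisj l hl j hj) hl' hj'
  have hS : IsClopen (X.hom.fiberι y ⁻¹' T) :=
    ⟨hT.preimage (X.hom.fiberι y).continuous,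
      isClosed_compl_iff.1 (by rw [← hcompl, compl_compl]; exact hT'.preimage (X.hom.fiberι y).continuous)⟩
  obtain ⟨V, hV, hyV, b₀, hb₀⟩ := GrothLib.Stein.exists_separating_points X.hom y _ hS
  have hVtop : V = ⊤ := by
    refine le_antisymm le_top fun p _ => ?_
    exact (show p ⤳ y from PrimeSpectrum.le_iff_specializes _ _ |>.1 (IsLocalRing.le_maximalIdeal p.2.ne_top)).mem_open V.2 hyV
  subst hVtop
  let b : Γ(X.left, ⊤) := b₀
  have hb : ∀ x : X.left, x ∈ Models.specialFibreSet R X → (x ∈ X.left.basicOpen b ↔ x ∉ T) := by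
    intro x hx
    obtain ⟨z, rfl⟩ := hrange.ge hx
    refine ⟨fun h hxT => (X.left.evaluation_eq_zero_iff_notMem_basicOpen _ _ _).1 ((hb₀ z trivial).1 hxT) h, fun h => ?_⟩
    refine (X.left.evaluation_ne_zero_iff_mem_basicOpen (X.hom.fiberι y z) (show _ ∈ (⊤ : X.left.Opens) from trivial) b).1 ?_
    rw [show X.left.evaluation ⊤ (X.hom.fiberι y z) trivial b = 1 from (hb₀ z trivial).2 h]
    exact one_ne_zero
  let p₀ : Γ(X.left, ⊤) := Coh.toGlobal X.hom π
  have hbπ := basicOpen_unif (X := X) hπ
  have hgenF : genericPoint X.left ∉ Models.specialFibreSet R X := genericPoint_notMem_fibre'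
  let t : Γ(X.left, ⊤) := if b = 0 then p₀ else b
  have ht : t ≠ 0 := by
    simp only [t]
    split_ifs with h
    · intro hp
      have : genericPoint X.left ∈ (X.left.basicOpen p₀ : Set X.left) := hbπ.ge hgenF
      rw [hp, Scheme.basicOpen_zero] at this
      exact this
    · exact h
  have htF : ∀ x ∈ Models.specialFibreSet R X, x ∈ X.left.basicOpen t ↔ x ∉ T := by
    intro x hx
    simp only [t]
    split_ifs with h
    · have h1 := hb x hx
      rw [h, Scheme.basicOpen_zero] at h1
      constructor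
      · intro hxb
        exact absurd hx (hbπ.le hxb)
      · intro hxT
        exact (h1.2 hxT).elim
    · exact hb x hx
  -- the divisor of `t`
  have hTF : T ⊆ Models.specialFibreSet R X := Set.iUnion₂_subset fun j _ => range_subset_fibre (Γ j)
  have hsupp : ((zeroIdeal t).support : Set X.left) = T := by
    ext x
    rw [SetLike.mem_coe, mem_support_zeroIdeal]
    constructor
    · intro hx
      by_cases hxF : x ∈ Models.specialFibreSet R X
      · by_contra hxT
        exact hx ((htF x hxF).2 hxT)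
      · exfalso
        letI : Algebra R Γ(X.left, ⊤) := (Coh.toGlobal X.hom).toAlgebra
        haveI : Module.Finite R Γ(X.left, ⊤) := GrothLib.Stein.moduleFinite_global X.hom
        let P : Ideal Γ(X.left, ⊤) := (maximalIdeal (X.left.presheaf.stalk x)).comap (X.left.presheaf.germ ⊤ x trivial).hom
        have htP : t ∈ P := (mem_maximalIdeal _).2 fun hu => hx ((X.left.mem_basicOpen t x trivial).2 hu)
        have hP0 : P.comap (algebraMap R Γ(X.left, ⊤)) = ⊥ := by
          refine (Submodule.eq_bot_iff _).2 fun r hr => ?_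
          by_contra hr0
          obtain ⟨m, v, hv⟩ := IsDiscreteValuationRing.eq_unit_mul_pow_irreducible hr0 hπ
          have hu : IsUnit (X.left.presheaf.germ ⊤ x trivial p₀) :=
            (X.left.mem_basicOpen p₀ x trivial).1 (hbπ.ge hxF)
          refine (mem_maximalIdeal _).1 (Ideal.mem_comap.1 (Ideal.mem_comap.1 hr)) ?_
          rw [hv, map_mul, map_mul, map_pow, map_pow]
          exact ((v.isUnit.map (algebraMap R Γ(X.left, ⊤))).map (X.left.presheaf.germ ⊤ x trivial).hom).mul (hu.pow m)
        exact ht ((Submodule.mem_bot _).1 (Ideal.eq_bot_of_comap_eq_bot hP0 ▸ htP))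
    · intro hxT hxb
      exact ((htF x (hTF hxT)).1 hxb) hxT
  have hD := eq_prod hΓ hX (isEffCartier_zeroIdeal ht) (hsupp.le.trans hTF)
  have hoff : ∀ j, j ∉ J → oAt (zeroIdeal t) (Models.genPtOf R X (Γ j)) = 0 := fun j hj => by
    rw [oAt, (stalkIdeal_eq_top_iff _ _).2 fun h => by
      obtain ⟨l, hl, hl'⟩ := Set.mem_iUnion₂.1 (hsupp.le h)
      exact Set.disjoint_left.1 (hdisj l hl j hj) hl' ((mem_range_iff _).2 (specializes_refl _))]
    haveI : Subsingleton (X.left.presheaf.stalk (Models.genPtOf R X (Γ j)) ⧸ (⊤ : Ideal (X.left.presheaf.stalk (Models.genPtOf R X (Γ j))))) :=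
      Ideal.Quotient.subsingleton_iff.2 rfl
    rw [Module.length_eq_zero]
    rfl
  have hoAt : oAt (zeroIdeal t) (Models.genPtOf R X (Γ e)) ≠ 0 := by
    intro h
    have h2 := st_eq_pow_oAt (isMaxComp hΓ e) hX (isEffCartier_zeroIdeal ht)
    rw [h, pow_zero, Ideal.one_eq_top, stalkIdeal_eq_top_iff] at h2
    exact h2 (hsupp.ge (Set.mem_biUnion he ((mem_range_iff _).2 (specializes_refl _))))
  obtain ⟨hz, hSE⟩ := exists_shortExact_zeroIdeal ht
  have hint : ∀ i, ∑ j, (oAt (zeroIdeal t) (Models.genPtOf R X (Γ j)) : ℤ) * ArSurf.inter R X (L j) (Γ i) = 0 := fun i => by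
    have hE := fun j => isEffCartier_ker (isMaxComp hΓ j) hX
    choose hP hPe using fun j => cls_idealMod_pow (hE j) (oAt (zeroIdeal t) (Models.genPtOf R X (Γ j)))
    obtain ⟨hDi, hDe⟩ := cls_idealMod_prod Finset.univ
      (fun j => (Γ j).ι.ker ^ oAt (zeroIdeal t) (Models.genPtOf R X (Γ j))) hP
    have htriv : Nonempty (ClSub.idealMod (zeroIdeal t) ≅ Coh.structureModule X.left) :=
      ⟨(hSE.fIsKernel.conePointUniqueUpToIso (kernelIsKernel (ClSub.toSubscheme (zeroIdeal t)))).symm⟩
    have hZi := IdealModSec.isInvertible_of_isEffCartier (isEffCartier_zeroIdeal ht)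
    have e1 : clsMod hZi = 1 := (Cube.clsMod_eq_one_iff hZi).2 htriv
    have e2 : clsMod hDi = 1 := by
      rw [← e1]
      congr 1
      exact congrArg ClSub.idealMod hD.symm
    have h := congrArg (icl (Γ i)) (hDe.symm.trans e2)
    rw [icl_prod, icl_one] at h
    rw [← neg_eq_zero, ← h, ← Finset.sum_neg_distrib]
    refine Finset.sum_congr rfl fun j _ => ?_
    have hLj := isInvertible_of_isInverseOf (hE j) (hL j)
    rw [hPe, icl_pow, inter_eq_icl (Γ i) hLj,
      cls_of_isInverseOf hLj (IdealModSec.isInvertible_of_isEffCartier (hE j)) (hL j), icl_inv, mul_neg, neg_neg]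
  refine ⟨_, hoff, hoAt, hint, fun χ hχ => ?_⟩
  rw [← hD] at hχ
  obtain ⟨hQ0, hQ1, hQ2, hQχ⟩ := hχ
  -- the global functions
  let S : Type u := Γ(X.left, ⊤)
  letI : CommRing S := inferInstanceAs (CommRing Γ(X.left, ⊤))
  haveI : IsDomain S := inferInstanceAs (IsDomain Γ(X.left, ⊤))
  letI : Algebra R S := (Coh.toGlobal X.hom).toAlgebra
  haveI : Module.Finite R S := GrothLib.Stein.moduleFinite_global X.hom
  haveI : FaithfulSMul R S := (faithfulSMul_iff_algebraMap_injective R S).2 ((injective_iff_map_eq_zero _).2 fun r hr => by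
    by_contra hr0
    obtain ⟨m, v, hv⟩ := IsDiscreteValuationRing.eq_unit_mul_pow_irreducible hr0 hπ
    rw [hv, map_mul, map_pow, (v.isUnit.map _).mul_right_eq_zero] at hr
    have hp : p₀ = 0 := pow_eq_zero_iff'.1 hr |>.1
    have : genericPoint X.left ∈ (X.left.basicOpen p₀ : Set X.left) := hbπ.ge hgenF
    rw [hp, Scheme.basicOpen_zero] at this
    exact this)
  let O := Coh.structureModule X.left
  letI : ∀ i, Module S (Coh.HH X.left O i) := fun i => inferInstanceAs (Module (Coh.Γtop X.left) (Coh.HH X.left O i))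
  haveI : ∀ i, IsScalarTower R S (Coh.HH X.left O i) := fun i =>
    IsScalarTower.of_algebraMap_smul fun r v => FormalFun.hhMap_smulMod r i v
  have hfin : ∀ i, Module.Finite R (Coh.HH X.left O i) := fun i =>
    ProjCoh.moduleFinite_HH R O (HomSh.isCoh_structureModule X.left) i
  haveI := hfin 0
  haveI := hfin 1
  haveI := hfin 2
  let tS : S := t
  have hμ : ∀ i, Cohom.hhMap R (Formal.smulModΓ O t) i = actBy (R := R) tS (Coh.HH X.left O i) := fun i =>
    LinearMap.ext fun v => rfl
  have hH2 : Subsingleton (Coh.HH X.left O 2) := by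
    haveI : Flat (X.left ↘ Spec (CommRingCat.of R)) := inferInstanceAs (Flat X.hom)
    obtain ⟨hzπ, hSπ⟩ := CohFlat0.exists_shortExact R (X := X.left) hπ.maximalIdeal_eq
      (mem_nonZeroDivisors_of_ne_zero hπ.ne_zero)
    haveI : Subsingleton (Coh.HH X.left (ClSub.quotMod (Models.specialFibreIdeal R X)) 2) :=
      subsingleton_quotMod_fibre hΓ le_rfl 2 le_rfl
    have h : Function.Surjective (Cohom.hhMap R (Formal.smulMod R O π) 2) := fun w =>
      (Cohom.exact₂ (A := R) hSπ 2 w).1
        (Subsingleton.elim (α := Coh.HH X.left (ClSub.quotMod (Models.specialFibreIdeal R X)) 2) _ _)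
    have htop : (⊤ : Submodule R (Coh.HH X.left O 2)) ≤ maximalIdeal R • ⊤ := fun w _ => by
      obtain ⟨z, rfl⟩ := h w
      rw [FormalFun.hhMap_smulMod]
      exact Submodule.smul_mem_smul (hπ.maximalIdeal_eq ▸ Ideal.mem_span_singleton_self π) trivial
    have hbot := Submodule.eq_bot_of_le_smul_of_le_jacobson_bot (maximalIdeal R) ⊤ Module.Finite.fg_top htop
      (IsLocalRing.maximalIdeal_le_jacobson _)
    refine subsingleton_of_forall_eq 0 fun w => ?_
    have hw : w ∈ (⊤ : Submodule R (Coh.HH X.left O 2)) := trivial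
    rwa [hbot, Submodule.mem_bot] at hw
  have hpiece : ∀ i, Module.length R (Coh.HH X.left (ClSub.quotMod (zeroIdeal t)) i) =
      Module.length R (Coh.HH X.left O i ⧸ LinearMap.range (actBy (R := R) tS (Coh.HH X.left O i))) +
        Module.length R (LinearMap.ker (actBy (R := R) tS (Coh.HH X.left O (i + 1)))) := fun i => by
    let q := Cohom.hhMap R (ClSub.toSubscheme (zeroIdeal t)) i
    have h2 : Function.Exact (Cohom.hhMap R (Formal.smulModΓ O t) i) q := Cohom.exact₂ (A := R) hSE i
    have h3 : Function.Exact q (Cohom.hhDelta R hSE i) := Cohom.exact₃ (A := R) hSE i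
    have h1 : Function.Exact (Cohom.hhDelta R hSE i) (Cohom.hhMap R (Formal.smulModΓ O t) (i + 1)) :=
      Cohom.exact₁ (A := R) hSE i
    rw [hμ] at h2 h1
    have e := Module.length_eq_add_of_exact (LinearMap.ker (Cohom.hhDelta R hSE i)).subtype
      (Cohom.hhDelta R hSE i).rangeRestrict (Submodule.subtype_injective _) (Cohom.hhDelta R hSE i).surjective_rangeRestrict
      (LinearMap.exact_iff.2 (by rw [LinearMap.ker_rangeRestrict, Submodule.range_subtype]))
    refine e.trans ?_
    congr 1
    · have e1 := q.quotKerEquivRange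
      rw [LinearMap.exact_iff.1 h2] at e1
      rw [LinearMap.exact_iff.1 h3]
      exact e1.length_eq.symm
    · rw [← LinearMap.exact_iff.1 h1]
  -- `H⁰` is the ring of global functions
  let e0 : Coh.HH X.left O 0 ≃ₗ[S] S :=
    { (ProjCoh.H0top O : Coh.HH X.left O 0 ≃+ _) with
      map_smul' := fun s v => by
        refine (ProjCoh.H0top_map _ v).trans ?_
        show X.left.presheaf.map (homOfLE (le_top : (⊤ : X.left.Opens) ≤ ⊤)).op s * _ = s * _
        rw [show homOfLE (le_top : (⊤ : X.left.Opens) ≤ ⊤) = 𝟙 _ from rfl, op_id, CategoryTheory.Functor.map_id]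
        rfl }
  have hE0 : euChar (R := R) tS (Coh.HH X.left O 0) = euChar (R := R) tS S := euChar_congr tS e0
  obtain ⟨ρ, hρ, hρt⟩ := exists_rank_euChar (R := R) (S := S) (Coh.HH X.left O 1)
  have hker0 : Module.length R (LinearMap.ker (actBy (R := R) tS (Coh.HH X.left O 0))) = 0 := by
    rw [Module.length_eq_zero_iff, Submodule.subsingleton_iff_eq_bot, LinearMap.ker_eq_bot]
    intro v w hvw
    refine e0.injective (mul_left_cancel₀ (show tS ≠ 0 from ht) ?_)
    exact (e0.map_smul tS v).symm.trans ((congrArg e0 hvw).trans (e0.map_smul tS w))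
  have hker2 : Module.length R (LinearMap.ker (actBy (R := R) tS (Coh.HH X.left O (1 + 1)))) = 0 := by
    haveI : Subsingleton (Coh.HH X.left O (1 + 1)) := hH2
    exact Module.length_eq_zero
  have hchi : χ =
      euChar (R := R) tS S - (ρ : ℤ) * euChar (R := R) tS S := by
    rw [← hQχ, ← hρt tS ht, ← hE0]
    have hp0 := hpiece 0
    have hp1 := hpiece 1
    rw [hker2, add_zero] at hp1
    simp only [euChar, hker0]
    rw [hp0, hp1, ENat.toNat_add (length_coker_ne_top (R := R) (show tS ≠ 0 from ht))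
      (length_ker_ne_top (R := R) (show tS ≠ 0 from ht))]
    simp only [ENat.toNat_zero, Nat.cast_zero, sub_zero, Nat.cast_add]
    ring
  have hd : 0 < Module.finrank R S := Module.finrank_pos
  have hh : 0 < euChar (R := R) tS S := by
    have hk : Module.length R (LinearMap.ker (actBy (R := R) tS S)) = 0 := by
      rw [Module.length_eq_zero_iff, Submodule.subsingleton_iff_eq_bot, LinearMap.ker_eq_bot]
      exact fun v w hvw => mul_left_cancel₀ (show tS ≠ 0 from ht) hvw
    simp only [euChar, hk]
    rw [ENat.toNat_zero, Nat.cast_zero, sub_zero, Int.natCast_pos, Nat.pos_iff_ne_zero, Ne, ENat.toNat_eq_zero, not_or]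
    refine ⟨fun h => ?_, length_coker_ne_top (R := R) (show tS ≠ 0 from ht)⟩
    rw [Module.length_eq_zero_iff, Submodule.Quotient.subsingleton_iff] at h
    obtain ⟨v, hv⟩ : (1 : S) ∈ LinearMap.range (actBy (R := R) tS S) := by rw [h]; trivial
    have hu : IsUnit (show Γ(X.left, ⊤) from tS) := IsUnit.of_mul_eq_one _ hv
    have hg : Models.genPtOf R X (Γ e) ∈ T := Set.mem_biUnion he ((mem_range_iff (Γ e)).2 (specializes_refl _))
    refine ((htF _ (genPt_mem_fibre (Γ e))).1 ?_) hg
    rw [X.left.basicOpen_of_isUnit hu]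
    trivial
  refine ⟨(Module.finrank R S : ℤ), euChar (R := R) tS S, (by exact_mod_cast hd), hh, ?_⟩
  -- the generic fibre
  let C := (Neron.genericFibre R).obj X
  letI : C.left.Over (Spec (CommRingCat.of (FractionRing R))) := ⟨C.hom⟩
  have hsq : IsPullback (pullback.fst X.hom (Neron.genPt R)) C.hom X.hom (Neron.genPt R) :=
    IsPullback.of_hasPullback X.hom (Neron.genPt R)
  have e1 := finrank_HH_eq (X := X) (g := pullback.fst X.hom (Neron.genPt R)) hsq 1
  have e2 := finrank_HH_eq (X := X) (g := pullback.fst X.hom (Neron.genPt R)) hsq 0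
  have hr0 : Module.finrank R (Coh.HH X.left O 0) = Module.finrank R S := (e0.restrictScalars R).finrank_eq
  rw [hchi]
  simp only [FGA.eulerCharLE, Finset.sum_range_succ, Finset.sum_range_zero, pow_zero, pow_one]
  show _ = euChar (R := R) tS S * (0 + 1 * (Module.finrank (FractionRing R) (Coh.HH C.left (Coh.structureModule C.left) 0) : ℤ) +
    -1 * (Module.finrank (FractionRing R) (Coh.HH C.left (Coh.structureModule C.left) 1) : ℤ))
  have e1' : Module.finrank (FractionRing R) (Coh.HH C.left (Coh.structureModule C.left) 1) =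
      Module.finrank R (Coh.HH X.left O 1) := e1
  have e2' : Module.finrank (FractionRing R) (Coh.HH C.left (Coh.structureModule C.left) 0) =
      Module.finrank R (Coh.HH X.left O 0) := e2
  rw [e1', e2', hr0, hρ]
  push_cast
  ring

end GrothLib.Canon12
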