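import Groth.Agent.Lib.Canon12.BaseChange
import Groth.Agent.Lib.RegImm12.ConormalSeq
import Groth.Agent.Lib.ProjQ9.Basic
import Groth.Agent.Lib.OmegaPn27.Proj
import Groth.Agent.Lib.WeilFin11.Basic
import Groth.Agent.Lib.FMAdj25.Residual
import Groth.Agent.S8652
import Groth.Agent.S8657
import Groth.Agent.S8905
import Groth.Agent.S9711

/-!
# The canonical sheaf of a composite
-/

set_option autoImplicit false
set_option linter.style.haveILetI false
set_option backward.isDefEq.respectTransparency false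
set_option maxHeartbeats 4000000

universe u

open CategoryTheory CategoryTheory.Limits AlgebraicGeometry TopologicalSpace Opposite

noncomputable section

namespace GrothLib.Canon12

/-- The kernel of a surjection of bundles. -/
theorem rank_ker {X : Scheme.{u}} (S : ShortComplex X.Modules) (hS : S.ShortExact) {a b : ℕ}
    (h₂ : FlatMod.IsFinLocFreeOfRank a S.X₂) (h₃ : FlatMod.IsFinLocFreeOfRank b S.X₃) :
    FlatMod.IsFinLocFreeOfRank (a - b) S.X₁ := by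
  haveI := hS.epi_g
  haveI := hS.mono_f
  intro x
  obtain ⟨U, r, hx, ⟨φ⟩⟩ :=
    K0Sub.isFinLocFree_ker S hS (FinCov.isFinLocFree_of_rank h₂) (FinCov.isFinLocFree_of_rank h₃) x
  let R := Scheme.Modules.restrictFunctor U.ι
  haveI : Epi (S.map R).g := inferInstanceAs (Epi (R.map S.g))
  haveI : Mono (S.map R).f := inferInstanceAs (Mono (R.map S.f))
  have e := rank_ext (S.map R) { exact := hS.exact.map R }
    (OX.isFinLocFreeOfRank_of_iso φ.symm (K0Sub.isFinLocFreeOfRank_freeMod r))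
    (OX.isFinLocFreeOfRank_of_iso ((Scheme.Modules.restrictFunctorIsoPullback U.ι).app S.X₃).symm
      (OX.isFinLocFreeOfRank_pullback U.ι h₃))
  have e' : FlatMod.IsFinLocFreeOfRank a (S.map R).X₂ :=
    OX.isFinLocFreeOfRank_of_iso ((Scheme.Modules.restrictFunctorIsoPullback U.ι).app S.X₂).symm
      (OX.isFinLocFreeOfRank_pullback U.ι h₂)
  obtain ⟨V, hV, ⟨ψ⟩⟩ := e ⟨x, hx⟩
  obtain ⟨V', hV', ⟨ψ'⟩⟩ := e' ⟨x, hx⟩
  have hr : r + b = a := BCCrit.rank_unique hV hV' ψ ψ'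
  obtain rfl : r = a - b := by omega
  exact ⟨U, hx, ⟨φ⟩⟩

/-- A canonical sheaf exists through a factorisation with the expected ranks. -/
theorem exists_via {X Z Y : Scheme.{u}} (i : X ⟶ Z) (g : Z ⟶ Y) [QuasiSeparated g] {c n : ℕ}
    [SmoothOfRelativeDimension n g] (rC : FlatMod.IsFinLocFreeOfRank c (Omega.conormal i)) :
    ∃ ω : X.Modules, Canon.IsCanonicalVia i g c n ω := by
  have rg := rank_omega g n
  have hC := ExtPowX.isExtPow_wedge (FinCov.isFinLocFree_of_rank rC) c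
  have hΩ := ExtPowX.isExtPow_wedge (FinCov.isFinLocFree_of_rank rg) n
  have iC := PBDeg.isInvertible_extPow rC hC
  have iΩ := Ample.isInvertible_pullback i (PBDeg.isInvertible_extPow rg hΩ)
  obtain ⟨T, hT, eT⟩ := VA.exists_inverse iC
  refine ⟨CohB1.tensorMod ((Scheme.Modules.pullback i).obj _) T, _, _, hC, hΩ,
    (Cube.clsMod_eq_iff (Ample.isInvertible_tensorMod (Ample.isInvertible_tensorMod iΩ hT) iC) iΩ).1 ?_⟩
  rw [Cube.clsMod_tensorMod (Ample.isInvertible_tensorMod iΩ hT) iC, Cube.clsMod_tensorMod iΩ hT, eT,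
    inv_mul_cancel_right]

theorem isRegularImmersion_of_codim {Z X : Scheme.{u}} {k : RegImm.Kind} {c : ℕ} {i : Z ⟶ X}
    (hi : RegImm.IsRegularImmersionOfCodim k c i) : RegImm.IsRegularImmersion k i :=
  ⟨hi.1, fun z => by
    obtain ⟨U, hzU, hci, rs, -, h⟩ := hi.2 z
    exact ⟨U, hzU, hci, rs, h⟩⟩

/-- The canonical sheaf of a composite with ranks given, the first morphism factoring through a projective space. -/
theorem nonempty_iso_comp_rank {X Y Z P W R : Scheme.{u}} [IsLocallyNoetherian Y] (f : X ⟶ Y) (g : Y ⟶ Z)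
    {m : ℕ} (j : X ⟶ CohB1.ProjSpaceOver m Y) [IsImmersion j] (hj : j ≫ CohB1.ProjSpaceOver.toBase m Y = f)
    (i₁ : X ⟶ P) (g₁ : P ⟶ Y) (h₁ : i₁ ≫ g₁ = f) [QuasiCompact i₁] [QuasiSeparated g₁] {c₁ n₁ : ℕ}
    (hi₁ : RegImm.IsRegularImmersionOfCodim .regular c₁ i₁) (hg₁ : SmoothOfRelativeDimension n₁ g₁)
    {ω₁ : X.Modules} (hω₁ : Canon.IsCanonicalVia i₁ g₁ c₁ n₁ ω₁)
    (i₂ : Y ⟶ W) (g₂ : W ⟶ Z) (h₂ : i₂ ≫ g₂ = g) [QuasiCompact i₂] [QuasiSeparated g₂] {c₂ n₂ : ℕ}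
    [IsImmersion i₂] (r₂ : FlatMod.IsFinLocFreeOfRank c₂ (Omega.conormal i₂)) (hg₂ : SmoothOfRelativeDimension n₂ g₂)
    {ω₂ : Y.Modules} (hω₂ : Canon.IsCanonicalVia i₂ g₂ c₂ n₂ ω₂)
    (i₃ : X ⟶ R) (g₃ : R ⟶ Z) (h₃ : i₃ ≫ g₃ = f ≫ g) [QuasiCompact i₃] [QuasiSeparated g₃] {c₃ n₃ : ℕ}
    [IsImmersion i₃] (r₃ : FlatMod.IsFinLocFreeOfRank c₃ (Omega.conormal i₃)) (hg₃ : SmoothOfRelativeDimension n₃ g₃)
    {ω₃ : X.Modules} (hω₃ : Canon.IsCanonicalVia i₃ g₃ c₃ n₃ ω₃) :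
    Nonempty (ω₃ ≅ CohB1.tensorMod ω₁ ((Scheme.Modules.pullback f).obj ω₂)) := by
  haveI := hg₁; haveI := hg₂; haveI := hg₃
  haveI : IsImmersion i₁ := hi₁.1
  have hsm : ∀ S : Scheme.{u}, SmoothOfRelativeDimension m (CohB1.ProjSpaceOver.toBase m S) := fun S =>
    (smoothOfRelativeDimension_isStableUnderBaseChange m).of_isPullback (ProjPic26.isPullback_toBase m S)
      (OmegaPn27.smoothOfRelativeDimension_toSpec m _)
  let π := CohB1.ProjSpaceOver.toBase m Y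
  let π' := CohB1.ProjSpaceOver.toBase m W
  let πZ := CohB1.ProjSpaceOver.toBase m Z
  haveI : SmoothOfRelativeDimension m π := hsm Y
  haveI : SmoothOfRelativeDimension m π' := hsm W
  haveI : SmoothOfRelativeDimension m πZ := hsm Z
  haveI : Smooth π := SmoothOfRelativeDimension.smooth m π
  haveI : Smooth π' := SmoothOfRelativeDimension.smooth m π'
  haveI : QuasiSeparated π := inferInstanceAs (QuasiSeparated (CohB1.ProjSpaceOver.toBase m Y))
  haveI : QuasiSeparated π' := inferInstanceAs (QuasiSeparated (CohB1.ProjSpaceOver.toBase m W))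
  haveI : QuasiSeparated πZ := inferInstanceAs (QuasiSeparated (CohB1.ProjSpaceOver.toBase m Z))
  haveI : IsLocallyNoetherian (CohB1.ProjSpaceOver m Y) := LocallyOfFiniteType.isLocallyNoetherian π
  haveI : QuasiCompact j := by
    rw [← j.liftCoborder_ι]
    infer_instance
  -- the conormal sheaf of `j`
  let p₁ := pullback.fst g₁ π
  let p₂ := pullback.snd g₁ π
  haveI : SmoothOfRelativeDimension m p₁ :=
    (smoothOfRelativeDimension_isStableUnderBaseChange m).of_isPullback (IsPullback.of_hasPullback g₁ π).flip inferInstance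
  haveI : SmoothOfRelativeDimension n₁ p₂ :=
    (smoothOfRelativeDimension_isStableUnderBaseChange n₁).of_isPullback (IsPullback.of_hasPullback g₁ π) hg₁
  haveI : Smooth p₁ := SmoothOfRelativeDimension.smooth m p₁
  haveI : Smooth p₂ := SmoothOfRelativeDimension.smooth n₁ p₂
  haveI : SmoothOfRelativeDimension (n₁ + m) (p₁ ≫ g₁) := by
    have : SmoothOfRelativeDimension (m + n₁) (p₁ ≫ g₁) := inferInstance
    rwa [Nat.add_comm] at this
  haveI : QuasiSeparated p₁ := inferInstanceAs (QuasiSeparated (pullback.fst g₁ π))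
  haveI : QuasiSeparated p₂ := inferInstanceAs (QuasiSeparated (pullback.snd g₁ π))
  let i := pullback.lift i₁ j (h₁.trans hj.symm)
  have hip : i ≫ p₁ = i₁ := pullback.lift_fst _ _ _
  have hip' : i ≫ p₂ = j := pullback.lift_snd _ _ _
  haveI : IsImmersion i := by
    haveI : IsImmersion (i ≫ p₁) := by rwa [hip]
    exact IsImmersion.of_comp i p₁
  haveI : QuasiCompact i := by
    haveI : QuasiCompact (i ≫ p₁) := by rwa [hip]
    exact QuasiCompact.of_comp i p₁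
  obtain ⟨ri, -⟩ := via_dominate (n₁ := n₁) (n₂ := m) (IsPullback.of_hasPullback g₁ π).flip (p₁ ≫ g₁) rfl i i₁ hip
    (rank_conormal i₁ hi₁) hω₁
  obtain ⟨ψ, hψ, -⟩ := ConStalk4.existsUnique (i := i) (i' := j) (g := p₂) (gZ := 𝟙 X)
    ((Category.id_comp _).trans hip'.symm)
  obtain ⟨wS, hS⟩ := Groth.Agent.S9711.result p₂ i j hip' _ _ (Groth.Agent.S5005.result p₂) ψ hψ _
    (ConStalk4.isConormalDiff_conormalDiff i (OmegaSh.dOmega p₂))
  have rj : FlatMod.IsFinLocFreeOfRank (c₁ + m - n₁) (Omega.conormal j) :=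
    OX.isFinLocFreeOfRank_of_iso ((Scheme.Modules.pullbackId X).app _)
      (rank_ker _ hS ri (OX.isFinLocFreeOfRank_pullback i (rank_omega p₂ n₁)))
  have hk₁ : RegImm.IsRegularImmersion .koszul i₁ :=
    (Groth.Agent.S8905.result i₁).1 (isRegularImmersion_of_codim hi₁)
  have hkj : RegImm.IsRegularImmersion .koszul j :=
    (Groth.Agent.S8657.result j i p₂ hip').2 ((Groth.Agent.S8657.result i₁ i p₁ hip).1 hk₁)
  have hh1 : RegImm.IsRegularImmersion .h1 j := (Groth.Agent.S8905.result j).2.1 hkj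
  -- `ω₁` through `j`
  obtain ⟨ω₁', hω₁'⟩ := exists_via j π (n := m) rj
  obtain ⟨e₁⟩ := nonempty_iso_pair_rank j π i₁ g₁ (hj.trans h₁.symm) rj inferInstance (rank_conormal i₁ hi₁) hg₁
    hω₁' hω₁
  obtain ⟨DC₁, DΩ₁, hDC₁, hDΩ₁, ⟨a₁⟩⟩ := hω₁'
  obtain ⟨DC₂, DΩ₂, hDC₂, hDΩ₂, ⟨a₂⟩⟩ := hω₂
  -- the base change of `i₂`
  let k := ProjQ9.mapBase m i₂
  have hk : IsPullback k π π' i₂ := ProjQ9.isPullback_mapBase m i₂
  haveI : IsImmersion k := MorphismProperty.of_isPullback hk.flip ‹IsImmersion i₂›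
  haveI : QuasiCompact k := MorphismProperty.of_isPullback hk.flip ‹QuasiCompact i₂›
  obtain ⟨φ, hφ, -⟩ := ConStalk4.existsUnique (i := k) (i' := i₂) (g := π') (gZ := π) hk.w.symm
  obtain ⟨-, hiso⟩ := Groth.Agent.S9372.result k i₂ π' π hk φ hφ
  haveI : IsIso φ := hiso inferInstance
  have rk : FlatMod.IsFinLocFreeOfRank c₂ (Omega.conormal k) :=
    OX.isFinLocFreeOfRank_of_iso (asIso φ) (OX.isFinLocFreeOfRank_pullback π r₂)
  have rjk : FlatMod.IsFinLocFreeOfRank c₂ ((Scheme.Modules.pullback j).obj (Omega.conormal k)) :=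
    OX.isFinLocFreeOfRank_pullback j rk
  -- the conormal sequence
  obtain ⟨a, ha, -⟩ := ConStalk4.existsUnique (i := j ≫ k) (i' := k) (g := 𝟙 _) (gZ := j) (Category.comp_id _).symm
  obtain ⟨b, hb, -⟩ := ConStalk4.existsUnique (i := j) (i' := j ≫ k) (g := k) (gZ := 𝟙 X) (Category.id_comp _)
  obtain ⟨w, hse⟩ := RegImm12.main j k a ha b hb hh1
  have fjk : FlatMod.IsFinLocFree (Omega.conormal (j ≫ k)) :=
    K0Sub.isFinLocFree_ext _ (hse w) (FinCov.isFinLocFree_of_rank rjk) (FinCov.isFinLocFree_of_rank rj)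
  have rc := rank_ext _ (hse w) rjk rj
  obtain ⟨d⟩ := nonempty_det_ses _ (hse w) (n := c₂ + (c₁ + m - n₁)) rfl rjk fjk rj
  -- the differentials
  let p' := ProjQ9.mapBase m g₂
  have hP : IsPullback p' π' πZ g₂ := ProjQ9.isPullback_mapBase m g₂
  haveI : SmoothOfRelativeDimension n₂ p' :=
    (smoothOfRelativeDimension_isStableUnderBaseChange n₂).of_isPullback hP.flip hg₂
  haveI : QuasiSeparated p' := MorphismProperty.of_isPullback hP.flip ‹QuasiSeparated g₂›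
  let q := π' ≫ g₂
  haveI : SmoothOfRelativeDimension (n₂ + m) q := by
    have : SmoothOfRelativeDimension (m + n₂) q := inferInstanceAs (SmoothOfRelativeDimension (m + n₂) (π' ≫ g₂))
    rwa [Nat.add_comm] at this
  haveI : QuasiSeparated q := inferInstanceAs (QuasiSeparated (π' ≫ g₂))
  have hp' : p' ≫ πZ = q := hP.w
  have hd := Groth.Agent.S5005.result g₂
  have hdZ := Groth.Agent.S5005.result πZ
  have hW := Groth.Agent.S5005.result q
  have hV := Groth.Agent.S5005.result π'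
  have hV' := Groth.Agent.S5005.result p'
  obtain ⟨cP, hcP, -⟩ := OmegaLocal4.existsUnique_compat p' g₂ hP.w.symm (OmegaSh.dOmega πZ) hdZ (OmegaSh.dOmega π')
  haveI := Groth.Agent.S9386.result πZ g₂ p' π' hP _ _ hdZ _ _ hV cP hcP
  obtain ⟨cP', hcP', -⟩ := OmegaLocal4.existsUnique_compat π' πZ hP.flip.w.symm (OmegaSh.dOmega g₂) hd (OmegaSh.dOmega p')
  haveI := Groth.Agent.S9386.result g₂ πZ π' p' hP.flip _ _ hd _ _ hV' cP' hcP'
  obtain ⟨s, t, ws, -, -, ⟨spl⟩⟩ := CotIso4.exists_splitting rfl hp' hd hdZ hW hV hcP hcP'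
  have rW := rank_omega g₂ n₂
  have rP := rank_omega π' m
  have rπW : FlatMod.IsFinLocFreeOfRank n₂ ((Scheme.Modules.pullback π').obj (Omega.sheaf g₂)) :=
    OX.isFinLocFreeOfRank_pullback π' rW
  obtain ⟨d1⟩ := nonempty_det_ses (ShortComplex.mk s t ws) spl.shortExact (a := n₂) (c := m) rfl rπW
    (Adj27.isFinLocFree_omega q (n₂ + m)) rP
  obtain ⟨c, hc, -⟩ := OmegaLocal4.existsUnique_compat k i₂ hk.w.symm (OmegaSh.dOmega π') hV (OmegaSh.dOmega π)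
  haveI := Groth.Agent.S9386.result π' i₂ k π hk _ _ hV _ _ (Groth.Agent.S5005.result π) c hc
  -- the isomorphisms
  obtain ⟨eC⟩ := ExtPowX.nonempty_iso (ExtPowX.isExtPow_wedge (FinCov.isFinLocFree_of_rank rj) (c₁ + m - n₁))
    hDC₁ (Iso.refl _)
  obtain ⟨eA⟩ := ExtPowX.nonempty_iso (ExtPowX.isExtPow_wedge (FinCov.isFinLocFree_of_rank rjk) c₂)
    (ExtPowX.isExtPow_pullback (f := f) (FinCov.isFinLocFree_of_rank r₂) hDC₂)
    ((Scheme.Modules.pullback j).mapIso (asIso φ).symm ≪≫ (Scheme.Modules.pullbackComp j π).app _ ≪≫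
      (Scheme.Modules.pullbackCongr hj).app _)
  obtain ⟨eπ⟩ := ExtPowX.nonempty_iso
    (ExtPowX.isExtPow_pullback (f := k) (FinCov.isFinLocFree_of_rank rP)
      (ExtPowX.isExtPow_wedge (FinCov.isFinLocFree_of_rank rP) m)) hDΩ₁ (asIso c)
  obtain ⟨eW⟩ := ExtPowX.nonempty_pullback_iso π' (FinCov.isFinLocFree_of_rank rW) hDΩ₂
    (ExtPowX.isExtPow_wedge (FinCov.isFinLocFree_of_rank rπW) n₂)
  have hfk : f ≫ i₂ = (j ≫ k) ≫ π' := by rw [Category.assoc, hk.w, ← Category.assoc, hj]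
  let F := Scheme.Modules.pullback f
  let JK := Scheme.Modules.pullback (j ≫ k)
  let A := ExtPowX.wedge ((Scheme.Modules.pullback π').obj (Omega.sheaf g₂)) n₂
  let B := ExtPowX.wedge (Omega.sheaf π') m
  let u₁ : CohB1.tensorMod ω₁ (ExtPowX.wedge (Omega.conormal j) (c₁ + m - n₁)) ≅ JK.obj B :=
    Ample.LineData.tensorModMapIso e₁.symm eC ≪≫ a₁ ≪≫ (Scheme.Modules.pullback j).mapIso eπ.symm ≪≫
      (Scheme.Modules.pullbackComp j k).app B
  let u₂ : CohB1.tensorMod (F.obj ω₂) (F.obj DC₂) ≅ JK.obj A :=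
    (OX.pullTensorIso f ω₂ DC₂).symm ≪≫ F.mapIso a₂ ≪≫ (Scheme.Modules.pullbackComp f i₂).app DΩ₂ ≪≫
      (Scheme.Modules.pullbackCongr hfk).app DΩ₂ ≪≫ ((Scheme.Modules.pullbackComp (j ≫ k) π').app DΩ₂).symm ≪≫
      JK.mapIso eW
  have hvia : Canon.IsCanonicalVia (j ≫ k) q (c₂ + (c₁ + m - n₁)) (n₂ + m)
      (CohB1.tensorMod ω₁ (F.obj ω₂)) := by
    refine ⟨_, _, ExtPowX.isExtPow_wedge fjk _, ExtPowX.isExtPow_wedge (Adj27.isFinLocFree_omega q (n₂ + m)) _, ⟨?_⟩⟩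
    exact WeilFin11.congrIso (Iso.refl _) (d ≪≫ WeilFin11.congrIso eA (Iso.refl _) ≪≫ WeilFin11.swapIso _ _) ≪≫
      WeilFin11.interchangeIso _ _ _ _ ≪≫ WeilFin11.congrIso u₁ u₂ ≪≫ WeilFin11.swapIso _ _ ≪≫
      (OX.pullTensorIso (j ≫ k) A B).symm ≪≫ JK.mapIso d1.symm
  exact nonempty_iso_pair_rank i₃ g₃ (j ≫ k) q
    (h₃.trans (by
      show f ≫ g = (j ≫ k) ≫ π' ≫ g₂
      rw [← Category.assoc, ← hfk, Category.assoc, h₂]))
    r₃ hg₃ rc inferInstance hω₃ hvia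

/-- The canonical sheaf of a composite, the first morphism factoring through a projective space. -/
theorem nonempty_iso_comp {X Y Z P W R : Scheme.{u}} [IsLocallyNoetherian Y] (f : X ⟶ Y) (g : Y ⟶ Z)
    {m : ℕ} (j : X ⟶ CohB1.ProjSpaceOver m Y) [IsImmersion j] (hj : j ≫ CohB1.ProjSpaceOver.toBase m Y = f)
    (i₁ : X ⟶ P) (g₁ : P ⟶ Y) (h₁ : i₁ ≫ g₁ = f) [QuasiCompact i₁] [QuasiSeparated g₁] {c₁ n₁ : ℕ}
    (hi₁ : RegImm.IsRegularImmersionOfCodim .regular c₁ i₁) (hg₁ : SmoothOfRelativeDimension n₁ g₁)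
    {ω₁ : X.Modules} (hω₁ : Canon.IsCanonicalVia i₁ g₁ c₁ n₁ ω₁)
    (i₂ : Y ⟶ W) (g₂ : W ⟶ Z) (h₂ : i₂ ≫ g₂ = g) [QuasiCompact i₂] [QuasiSeparated g₂] {c₂ n₂ : ℕ}
    (hi₂ : RegImm.IsRegularImmersionOfCodim .regular c₂ i₂) (hg₂ : SmoothOfRelativeDimension n₂ g₂)
    {ω₂ : Y.Modules} (hω₂ : Canon.IsCanonicalVia i₂ g₂ c₂ n₂ ω₂)
    (i₃ : X ⟶ R) (g₃ : R ⟶ Z) (h₃ : i₃ ≫ g₃ = f ≫ g) [QuasiCompact i₃] [QuasiSeparated g₃] {c₃ n₃ : ℕ}
    (hi₃ : RegImm.IsRegularImmersionOfCodim .regular c₃ i₃) (hg₃ : SmoothOfRelativeDimension n₃ g₃)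
    {ω₃ : X.Modules} (hω₃ : Canon.IsCanonicalVia i₃ g₃ c₃ n₃ ω₃) :
    Nonempty (ω₃ ≅ CohB1.tensorMod ω₁ ((Scheme.Modules.pullback f).obj ω₂)) :=
  haveI : IsImmersion i₂ := hi₂.1
  haveI : IsImmersion i₃ := hi₃.1
  nonempty_iso_comp_rank f g j hj i₁ g₁ h₁ hi₁ hg₁ hω₁ i₂ g₂ h₂ (rank_conormal i₂ hi₂) hg₂ hω₂ i₃ g₃ h₃
    (rank_conormal i₃ hi₃) hg₃ hω₃

end GrothLib.Canon12
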