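import Groth.Agent.Lib.Canon12.Minimal
import Groth.Agent.Lib.CplStalk.Basic
import Groth.Agent.Lib.AlgSp.PointProps
import Groth.Agent.Lib.AlgSp.FieldFibreDim
import Groth.Agent.Lib.ProjQ9.Basic
import Groth.Agent.S1597
import Groth.Agent.S3254
import Groth.Agent.S9372

/-!
# Relative minimality and base change to the completion
-/

set_option autoImplicit false
set_option linter.all false
set_option backward.isDefEq.respectTransparency false
set_option maxHeartbeats 1000000

universe u

open CategoryTheory CategoryTheory.Limits AlgebraicGeometry TopologicalSpace IsLocalRing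

noncomputable section

namespace GrothLib.Canon12

open GrothLib.ArSurf29

variable {R : Type u} [CommRing R] [IsDomain R] [IsDiscreteValuationRing R] {X : Over (Spec (CommRingCat.of R))}

/-- A surface is relatively minimal when it has no exceptional curve of the first kind. -/
theorem isRelMinimal_of_no_excCurve (hX : ArSurf.IsArithSurface R X)
    (hno : ∀ F : ArSurf.VertComp R X, ¬ Models.IsExcCurve F.ι) : Neron.IsRelMinimalRegularModel R X := by
  haveI := hX.2.1
  haveI := hX.2.2.2.1
  haveI := isProper_of_isArithSurface hX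
  haveI := isLocallyNoetherian_of_isArithSurface hX
  refine ⟨hX.1, hX.2.2.2.2, inferInstance, fun Z hZ hZp hZf g hg => ?_⟩
  haveI := hg
  haveI := hZf
  haveI : IsProper Z.hom := by
    obtain ⟨n, i, hi, hw⟩ := hZp
    haveI := hi
    haveI := GrothLib.Chow.isProper_toBase n (Spec (CommRingCat.of R))
    exact hw ▸ inferInstance
  obtain ⟨hZint, -, -⟩ := target_integral g hZ
  haveI : IsProper (g.left ≫ Z.hom) := by rw [Over.w g]; infer_instance
  haveI : IsProper g.left := IsProper.of_comp g.left Z.hom
  haveI : CompactSpace X.left := QuasiCompact.compactSpace_of_compactSpace X.hom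
  haveI : IsNoetherian X.left := {}
  haveI : IsLocallyNoetherian Z.left := LocallyOfFiniteType.isLocallyNoetherian Z.hom
  haveI : CompactSpace Z.left := QuasiCompact.compactSpace_of_compactSpace Z.hom
  haveI : IsNoetherian Z.left := {}
  let j := pullback.fst Z.hom (Neron.genPt R)
  obtain ⟨ϖ, hϖ⟩ := IsDiscreteValuationRing.exists_irreducible R
  haveI := isLocalizationAway_fractionRing hϖ
  haveI : IsOpenImmersion (Neron.genPt R) := IsOpenImmersion.of_isLocalization ϖ
  haveI : IsOpenImmersion j := inferInstance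
  haveI hiso : IsIso (g.left ∣_ j.opensRange) := by
    let m := ((Neron.genericFibre R).map g).left
    haveI : IsIso m := (Over.forget _).map_isIso ((Neron.genericFibre R).map g)
    have hsq : IsPullback (pullback.fst X.hom (Neron.genPt R)) m g.left j := by
      refine IsPullback.of_bot ?_ (pullback.lift_fst _ _ _).symm (IsPullback.of_hasPullback Z.hom (Neron.genPt R))
      rw [Over.w g, show m ≫ pullback.snd Z.hom (Neron.genPt R) = pullback.snd X.hom (Neron.genPt R) from
        pullback.lift_snd _ _ _]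
      exact IsPullback.of_hasPullback X.hom (Neron.genPt R)
    haveI : IsIso (pullback.snd g.left j) := by
      rw [← hsq.isoPullback_inv_snd]
      infer_instance
    exact (MorphismProperty.arrow_mk_iso_iff (MorphismProperty.isomorphisms Scheme)
      (morphismRestrictOpensRange g.left j)).2 ‹_›
  have hne : (j.opensRange : Set Z.left).Nonempty := by
    refine ⟨genericPoint Z.left, ?_⟩
    exact (range_fst_genPt Z.hom).ge (hom_genericPoint Z.hom)
  have hseq := GrothLib.ExcP1.isContractionSeq_of_birational hX.1 hX.2.2.1.le _ hZ g.left j.opensRange hne hiso le_rfl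
  have key : ∀ {A B : Scheme.{u}} {r : A ⟶ B}, Models.IsContractionSeq r → IsIso r ∨
      ∃ (E : Scheme.{u}) (ι : E ⟶ A) (_ : IsClosedImmersion ι), Models.IsExcCurve ι ∧
        ∃ b : B, Set.range (ι ≫ r) = {b} := by
    intro A B r hr
    cases hr with
    | iso e => exact Or.inl inferInstance
    | @step _ M _ E ι b t hι hE hb ht =>
      obtain ⟨-, -, y, hy, hrange, -⟩ := hb
      refine Or.inr ⟨E, ι, hι, hE, t y, ?_⟩
      rw [← Category.assoc, Scheme.Hom.comp_base, TopCat.coe_comp, Set.range_comp, hrange, Set.image_singleton]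
  obtain h | ⟨E, ι, hι, hE, b, hb⟩ := key hseq
  · haveI : IsIso ((Over.forget _).map g) := h
    exact isIso_of_reflects_iso g (Over.forget _)
  exfalso
  haveI := hι
  have hbc : IsClosed ({b} : Set Z.left) := by
    rw [← hb]
    exact (ι ≫ g.left).isClosedMap.isClosed_range
  obtain ⟨F, hF, -⟩ := exists_vertComp_of_excCurve ι hE fun e => by
    rw [← over_apply g, show g.left (ι e) = b from hb.le ⟨e, rfl⟩]
    exact apply_eq_closedPoint_of_isClosed Z.hom hbc
  exact hno F hF

/-- A relatively minimal surface has no exceptional curve of the first kind. -/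
theorem no_excCurve_of_isRelMinimal (hX : ArSurf.IsArithSurface R X) (hmin : Neron.IsRelMinimalRegularModel R X)
    (C : ArSurf.VertComp R X) : ¬ Models.IsExcCurve C.ι := by
  intro hC
  haveI := hX.2.1
  haveI := hX.2.2.2.1
  haveI := isProper_of_isArithSurface hX
  haveI := isLocallyNoetherian_of_isArithSurface hX
  obtain ⟨L, hL⟩ := exists_inverse_ideal hX C
  obtain ⟨k', i1, i2, hfin, e, he, hw⟩ := exists_projLine_of_isExcCurve C hC
  haveI := hfin
  obtain ⟨-, hself⟩ := h1_inter_of_isExcCurve C hC.1 hL hC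
  rw [hw] at hself
  obtain ⟨Y, f, y, hy, hY, hfy, -, hiso⟩ := Groth.Agent.S3254.result R X hX C k' e he L hL hself
  haveI := isProper_of_isArithSurface hY
  haveI := hiso
  have hgen : IsIso ((Neron.genericFibre R).map f) := by
    refine Contract29.isIso_genericFibre_map f ⟨{y}ᶜ, hy.isOpen_compl⟩ fun z hz h => ?_
    rw [Set.mem_singleton_iff] at h
    subst h
    rw [apply_eq_closedPoint_of_isClosed Y.hom hy] at hz
    exact IsDiscreteValuationRing.not_a_field R hz
  haveI := hmin.2.2.2 Y hY.1 hY.2.2.2.2 hY.2.2.2.1 f hgen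
  haveI : IsIso f.left := (Over.forget _).map_isIso f
  haveI := C.isClosedImmersion
  haveI : Subsingleton C.curve.left := ⟨fun a b => by
    have h : ∀ c, f.left (C.ι c) = y := fun c => hfy.le ⟨c, rfl⟩
    exact C.ι.isEmbedding.injective (f.left.homeomorph.injective ((h a).trans (h b).symm))⟩
  haveI : Subsingleton (IrreducibleCloseds C.curve.left) := ⟨fun s t => IrreducibleCloseds.ext
    ((Set.subsingleton_of_subsingleton.eq_singleton_of_mem s.isIrreducible.nonempty.some_mem).trans
      ((Set.subsingleton_of_subsingleton.eq_singleton_of_mem t.isIrreducible.nonempty.some_mem).trans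
        (congrArg _ (Subsingleton.elim _ _))).symm)⟩
  have h0 : topologicalKrullDim C.curve.left ≤ 0 := Order.krullDim_nonpos_of_subsingleton
  rw [C.dim_eq] at h0
  exact absurd h0 (by norm_num)

/-- Being exceptional does not change under a flat base change fixing the curve. -/
theorem isExcCurve_congr {E X' X₀ : Scheme.{u}} {ι' : E ⟶ X'} {ι : E ⟶ X₀} [IsClosedImmersion ι'] [IsClosedImmersion ι]
    {q : X' ⟶ X₀} [Flat q] (hsq : IsPullback (𝟙 E) ι' ι q)
    (h : _root_.BlowUp.IsEffCartierIdeal ι.ker) (h' : _root_.BlowUp.IsEffCartierIdeal ι'.ker) :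
    Models.IsExcCurve ι' ↔ Models.IsExcCurve ι := by
  obtain ⟨φ, hφ, -⟩ := ConStalk4.existsUnique (i := ι') (i' := ι) (g := q) (gZ := 𝟙 E) hsq.w
  obtain ⟨-, hiso⟩ := Groth.Agent.S9372.result ι' ι q (𝟙 E) hsq.flip φ hφ
  haveI : IsIso φ := hiso inferInstance
  let a : Omega.conormal ι ≅ Omega.conormal ι' :=
    ((Scheme.Modules.pullbackId E).app (Omega.conormal ι)).symm ≪≫ asIso φ
  have key : ∀ {k : Type u} [Field k] (e : CohB1.ProjSpace 1 k ≅ E),
      Nonempty ((Scheme.Modules.pullback (e.hom ≫ ι')).obj (ClSub.idealMod ι'.ker) ≅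
        (Scheme.Modules.pullback (e.hom ≫ ι)).obj (ClSub.idealMod ι.ker)) := fun e =>
    ⟨((Scheme.Modules.pullbackComp e.hom ι').app _).symm ≪≫ (Scheme.Modules.pullback e.hom).mapIso a.symm ≪≫
      (Scheme.Modules.pullbackComp e.hom ι).app _⟩
  constructor
  · rintro ⟨-, k, ik, e, ⟨t⟩⟩
    obtain ⟨b⟩ := key e
    exact ⟨h, k, ik, e, ⟨b.symm ≪≫ t⟩⟩
  · rintro ⟨-, k, ik, e, ⟨t⟩⟩
    obtain ⟨b⟩ := key e
    exact ⟨h', k, ik, e, ⟨b ≪≫ t⟩⟩

variable {R' : Type u} [CommRing R'] [IsDomain R'] [IsDiscreteValuationRing R'] [Algebra R R']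

/-- The completion changes neither the maximal ideal nor the residue field. -/
theorem completion_residue (e : R' ≃ₐ[R] AdicCompletion (maximalIdeal R) R) :
    (maximalIdeal R).map (algebraMap R R') = maximalIdeal R' ∧
      ∀ z : R', ∃ r : R, z - algebraMap R R' r ∈ maximalIdeal R' := by
  let Ah := AdicCompletion (maximalIdeal R) R
  haveI : IsLocalRing Ah := AdicCompletion.isLocalRing_of_fg (Ideal.fg_of_isNoetherianRing _)
  have hmh : maximalIdeal Ah = (maximalIdeal R).map (algebraMap R Ah) := AdicCompletion.maximalIdeal_eq_map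
  let s : Ah →+* R' := e.symm.toRingEquiv.toRingHom
  have hs : Function.Bijective s := e.symm.bijective
  have hcomp : algebraMap R R' = s.comp (algebraMap R Ah) := RingHom.ext fun r => (e.symm.commutes r).symm
  have hm : (maximalIdeal Ah).map s = maximalIdeal R' :=
    IsLocalRing.eq_maximalIdeal (Ideal.IsMaximal.map_bijective s hs (IsLocalRing.maximalIdeal.isMaximal Ah))
  refine ⟨by rw [hcomp, ← Ideal.map_map, ← hmh, hm], fun z => ?_⟩
  obtain ⟨a, ha⟩ := Ideal.Quotient.mk_surjective (AdicCompletion.evalOneₐ (maximalIdeal R) (e z))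
  refine ⟨a, ?_⟩
  have h0 : e z - algebraMap R Ah a ∈ maximalIdeal Ah := by
    rw [hmh, ← AdicCompletion.ker_evalOneₐ_eq_map (maximalIdeal R) (Ideal.fg_of_isNoetherianRing _)]
    show AdicCompletion.evalOneₐ (maximalIdeal R) (e z - algebraMap R Ah a) = 0
    rw [map_sub, AlgHom.commutes, ← ha]
    exact sub_self _
  have h1 := Ideal.mem_map_of_mem s h0
  rw [hm, map_sub] at h1
  have e1 : s (e z) = z := e.symm_apply_apply z
  have e2 : s (algebraMap R Ah a) = algebraMap R R' a := e.symm.commutes a
  rwa [e1, e2] at h1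

/-- The residue fields form a base change square. -/
theorem exists_residue_square (e : R' ≃ₐ[R] AdicCompletion (maximalIdeal R) R) :
    ∃ ψ : Spec (CommRingCat.of (ResidueField R')) ⟶ Spec (CommRingCat.of (ResidueField R)), IsIso ψ ∧
      IsPullback ψ (Spec.map (CommRingCat.ofHom (residue R'))) (Spec.map (CommRingCat.ofHom (residue R)))
        (Spec.map (CommRingCat.ofHom (algebraMap R R'))) := by
  obtain ⟨hmap, hex⟩ := completion_residue e
  have hle : maximalIdeal R ≤ (maximalIdeal R').comap (algebraMap R R') :=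
    Ideal.map_le_iff_le_comap.1 hmap.le
  let φ₀ : ResidueField R →+* ResidueField R' :=
    Ideal.quotientMap (maximalIdeal R') (algebraMap R R') hle
  have hφ₀ : ∀ r, φ₀ (residue R r) = residue R' (algebraMap R R' r) := fun r => rfl
  have hsurj : Function.Surjective φ₀ := fun z => by
    obtain ⟨z, rfl⟩ := residue_surjective z
    obtain ⟨r, hr⟩ := hex z
    refine ⟨residue R r, ?_⟩
    rw [hφ₀]
    exact ((Ideal.Quotient.eq).2 hr).symm
  have hbij : Function.Bijective φ₀ := ⟨φ₀.injective, hsurj⟩
  haveI : IsIso (CommRingCat.ofHom φ₀) := (RingEquiv.ofBijective φ₀ hbij).toCommRingCatIso.isIso_hom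
  have w : CommRingCat.ofHom (algebraMap R R') ≫ CommRingCat.ofHom (residue R') =
      CommRingCat.ofHom (residue R) ≫ CommRingCat.ofHom φ₀ := CommRingCat.hom_ext (RingHom.ext fun r => (hφ₀ r).symm)
  have hkill : ∀ s : PushoutCocone (CommRingCat.ofHom (algebraMap R R')) (CommRingCat.ofHom (residue R)),
      ∀ x ∈ maximalIdeal R', s.inl.hom x = 0 := fun s x hx => by
    suffices h : maximalIdeal R' ≤ RingHom.ker s.inl.hom from h hx
    rw [← hmap, Ideal.map_le_iff_le_comap]
    intro r hr
    rw [Ideal.mem_comap, RingHom.mem_ker]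
    have hc := congrArg (fun g => g.hom r) s.condition
    simp only [CommRingCat.hom_comp, RingHom.comp_apply, CommRingCat.hom_ofHom] at hc
    rw [hc, show residue R r = 0 from (residue_eq_zero_iff _).2 hr, map_zero]
  have hpo : IsPushout (CommRingCat.ofHom (algebraMap R R')) (CommRingCat.ofHom (residue R))
      (CommRingCat.ofHom (residue R')) (CommRingCat.ofHom φ₀) := by
    refine IsPushout.of_isColimit' ⟨w⟩ (PushoutCocone.IsColimit.mk w
      (fun s => CommRingCat.ofHom (Ideal.Quotient.lift (maximalIdeal R') s.inl.hom (hkill s)))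
      (fun s => CommRingCat.hom_ext (RingHom.ext fun x => rfl))
      (fun s => CommRingCat.hom_ext (RingHom.ext fun x => ?_))
      (fun s m h1 _ => CommRingCat.hom_ext (RingHom.ext fun x => ?_)))
    · obtain ⟨r, rfl⟩ := residue_surjective x
      exact congrArg (fun g => g.hom r) s.condition
    · obtain ⟨r, rfl⟩ := residue_surjective x
      exact congrArg (fun g => g.hom r) h1
  exact ⟨Spec.map (CommRingCat.ofHom φ₀), inferInstance, (isPullback_SpecMap_of_isPushout _ _ _ _ hpo).flip⟩

theorem relMinimal_iff_completion (e : R' ≃ₐ[R] AdicCompletion (maximalIdeal R) R) (hX : ArSurf.IsArithSurface R X)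
    [IsIntegral ((Over.pullback (Spec.map (CommRingCat.ofHom (algebraMap R R')))).obj X).left] :
    ArSurf.IsArithSurface R' ((Over.pullback (Spec.map (CommRingCat.ofHom (algebraMap R R')))).obj X) ∧
      (Neron.IsRelMinimalRegularModel R X ↔
        Neron.IsRelMinimalRegularModel R' ((Over.pullback (Spec.map (CommRingCat.ofHom (algebraMap R R')))).obj X)) := by
  haveI := hX.2.1
  haveI := hX.2.2.2.1
  haveI := isProper_of_isArithSurface hX
  haveI := isLocallyNoetherian_of_isArithSurface hX
  let c := Spec.map (CommRingCat.ofHom (algebraMap R R'))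
  let X' := (Over.pullback c).obj X
  let π₁ : X'.left ⟶ X.left := pullback.fst X.hom c
  have hπ₂ : X'.hom = pullback.snd X.hom c := rfl
  have hP : IsPullback π₁ X'.hom X.hom c := IsPullback.of_hasPullback X.hom c
  -- comparison with the completion
  let Ah := AdicCompletion (maximalIdeal R) R
  haveI : IsLocalRing Ah := AdicCompletion.isLocalRing_of_fg (Ideal.fg_of_isNoetherianRing _)
  haveI : IsLocalHom (algebraMap R Ah) :=
    AdicCompletion.algebraMap_isLocalHom_of_fg (Ideal.fg_of_isNoetherianRing _)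
  haveI : IsIso (CommRingCat.ofHom (e.symm.toRingEquiv : Ah →+* R')) :=
    e.symm.toRingEquiv.toCommRingCatIso.isIso_hom
  let ê := Spec.map (CommRingCat.ofHom (e.symm.toRingEquiv : Ah →+* R'))
  haveI : IsIso ê := inferInstanceAs (IsIso (Spec.map _))
  have hc : c = ê ≫ CplStalk.cplMap R := by
    rw [← Spec.map_comp]
    exact congrArg Spec.map (CommRingCat.hom_ext (RingHom.ext fun r => (e.symm.commutes r).symm))
  haveI := CplStalk.flat_cplMap R
  haveI : Flat c := by rw [hc]; infer_instance
  haveI : Flat π₁ := inferInstanceAs (Flat (pullback.fst X.hom c))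
  let B := Curv2.bcCpl R X.hom
  let h : X'.left ⟶ B := pullback.map X.hom c X.hom (CplStalk.cplMap R) (𝟙 _) ê (𝟙 _)
    (by simp) (by rw [Category.comp_id]; exact hc)
  haveI : IsIso h := inferInstanceAs (IsIso (pullback.map _ _ _ _ _ _ _ _ _))
  have hBreg : ∀ y : B, IsRegularLocalRing (B.presheaf.stalk y) := (Groth.Agent.S1597.result R X.left X.hom).1 hX.1
  have hreg : ∀ y : X'.left, IsRegularLocalRing (X'.left.presheaf.stalk y) := fun y =>
    haveI := hBreg (h y)
    IsRegularLocalRing.of_ringEquiv (asIso (h.stalkMap y)).commRingCatIsoToRingEquiv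
  -- dimension
  have hdimB : topologicalKrullDim B = 2 := by
    rw [AlgSp.topologicalKrullDim_eq_iSup_stalk]
    have hsp : ∀ {T : Scheme.{u}} {S : Type u} [CommRing S] [IsLocalRing S] (g : T ⟶ Spec (CommRingCat.of S))
        [IsProper g] (t : T), ∃ t' : T, t ⤳ t' ∧ g.base t' = closedPoint S := by
      intro T S _ _ g _ t
      haveI : CompactSpace T := QuasiCompact.compactSpace_of_compactSpace g
      obtain ⟨t', ht', hcl⟩ :=
        (isClosed_closure (s := ({t} : Set T))).exists_closed_singleton ⟨t, subset_closure rfl⟩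
      refine ⟨t', specializes_iff_mem_closure.2 ht', ?_⟩
      have h1 : IsClosed ({g.base t'} : Set (Spec (CommRingCat.of S))) := by
        have := g.isClosedMap _ hcl
        rwa [Set.image_singleton] at this
      exact (IsLocalRing.specializes_closedPoint _).mem_closed h1 rfl |>.symm
    have hmono : ∀ {T : Scheme.{u}} {a b : T}, a ⤳ b →
        ringKrullDim (T.presheaf.stalk a) ≤ ringKrullDim (T.presheaf.stalk b) := fun {T a b} hab => by
      rw [ringKrullDim_stalk_eq_coheight, ringKrullDim_stalk_eq_coheight]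
      exact WithBot.coe_le_coe.2 (Order.coheight_anti hab)
    have h2 : (⨆ x : X.left, ringKrullDim (X.left.presheaf.stalk x)) = 2 :=
      (AlgSp.topologicalKrullDim_eq_iSup_stalk X.left).symm.trans hX.2.2.1
    refine le_antisymm (iSup_le fun y => ?_) ?_
    · obtain ⟨y', hyy, hy'⟩ := hsp (Curv2.bcCplSnd R X.hom) y
      refine (hmono hyy).trans ?_
      haveI := hBreg y'
      haveI := hX.1 ((Curv2.bcCplFst R X.hom).base y')
      rw [← IsRegularLocalRing.spanFinrank_maximalIdeal, ← CplStalk.map_maximalIdeal R X.hom y' hy']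
      refine le_trans (Nat.cast_le.2 (Ideal.spanFinrank_map_le_of_fg _ (Ideal.fg_of_isNoetherianRing _))) ?_
      rw [IsRegularLocalRing.spanFinrank_maximalIdeal, ← h2]
      exact le_iSup (fun x : X.left => ringKrullDim (X.left.presheaf.stalk x)) _
    · obtain ⟨x, hx⟩ : ∃ x : X.left, (1 : WithBot ℕ∞) < ringKrullDim (X.left.presheaf.stalk x) :=
        lt_iSup_iff.1 (h2.symm ▸ by norm_num)
      obtain ⟨x', hxx, hx'⟩ := hsp X.hom x
      obtain ⟨y, hy1, -⟩ := Scheme.Pullback.exists_preimage_pullback (f := X.hom)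
        (g := CplStalk.cplMap R) x' (closedPoint Ah)
        (hx'.trans (IsLocalRing.comap_closedPoint (algebraMap R Ah)).symm)
      haveI : Flat (Curv2.bcCplFst R X.hom) := inferInstanceAs (Flat (pullback.fst X.hom (CplStalk.cplMap R)))
      have h3 := AlgSp.ringKrullDim_stalk_map_le_of_flat (Curv2.bcCplFst R X.hom) y
      rw [show (Curv2.bcCplFst R X.hom) y = x' from hy1] at h3
      refine le_trans ?_ (le_trans h3 (le_iSup (fun z : B => ringKrullDim (B.presheaf.stalk z)) y))
      refine le_trans ?_ (hmono hxx)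
      haveI := hX.1 x
      rw [← IsRegularLocalRing.spanFinrank_maximalIdeal] at hx ⊢
      norm_cast at hx ⊢
  have hdim : topologicalKrullDim X'.left = 2 :=
    h.homeomorph.isHomeomorph.topologicalKrullDim_eq.trans hdimB
  haveI : Flat X'.hom := MorphismProperty.of_isPullback hP ‹Flat X.hom›
  have hX' : ArSurf.IsArithSurface R' X' := by
    refine ⟨hreg, inferInstance, hdim, inferInstance, ?_⟩
    obtain ⟨n, i, hi, hiX⟩ := hX.2.2.2.2
    haveI := hi
    have hk := ProjQ9.isPullback_mapBase n c
    let j := hk.lift (π₁ ≫ i) X'.hom (by rw [Category.assoc, hiX]; exact hP.w)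
    have hj : j ≫ CohB1.ProjSpaceOver.toBase n (Spec (CommRingCat.of R')) = X'.hom := hk.lift_snd _ _ _
    have hsq : IsPullback π₁ j i (ProjQ9.mapBase n c) :=
      IsPullback.of_bot (by rw [hj, hiX]; exact hP) (hk.lift_fst _ _ _).symm hk
    exact ⟨n, j, MorphismProperty.of_isPullback hsq hi, hj⟩
  refine ⟨hX', ?_⟩
  haveI := isProper_of_isArithSurface hX'
  haveI := isLocallyNoetherian_of_isArithSurface hX'
  obtain ⟨ψ, hψ, hsqres⟩ := exists_residue_square e
  haveI := hψ
  have hC : ∀ F : ArSurf.VertComp R X, _root_.BlowUp.IsEffCartierIdeal F.ι.ker := fun F =>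
    isEffCartier_ker (isMaxComp_of_isArithSurface hX F) hX.1
  have hC' : ∀ F : ArSurf.VertComp R' X', _root_.BlowUp.IsEffCartierIdeal F.ι.ker := fun F =>
    isEffCartier_ker (isMaxComp_of_isArithSurface hX' F) hX'.1
  have hsquare : ∀ {E : Scheme.{u}} (a : E ⟶ Spec (CommRingCat.of (ResidueField R))) (ι : E ⟶ X.left)
      (b : E ⟶ Spec (CommRingCat.of (ResidueField R'))) (ι' : E ⟶ X'.left),
      ι ≫ X.hom = a ≫ Spec.map (CommRingCat.ofHom (residue R)) →
      ι' ≫ X'.hom = b ≫ Spec.map (CommRingCat.ofHom (residue R')) → b ≫ ψ = a → ι' ≫ π₁ = ι →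
      IsPullback (𝟙 E) ι' ι π₁ := fun {E} a ι b ι' hι hι' hb hπ => by
    have h1 : IsPullback (𝟙 E) b a ψ := IsPullback.of_horiz_isIso ⟨by rw [Category.id_comp, hb]⟩
    have h2 := h1.paste_vert hsqres
    rw [← hι, ← hι'] at h2
    exact IsPullback.of_bot h2 (by rw [Category.id_comp, hπ]) hP
  constructor
  · intro hmin
    refine isRelMinimal_of_no_excCurve hX' fun F hF => ?_
    haveI := F.isClosedImmersion
    haveI : IsClosedImmersion (F.ι ≫ π₁) := by
      have h0 := IsPullback.of_hasPullback X'.hom (Spec.map (CommRingCat.ofHom (residue R')))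
      haveI : IsClosedImmersion (Spec.map (CommRingCat.ofHom (residue R)) : _ ⟶ Spec (CommRingCat.of R)) :=
        IsClosedImmersion.spec_of_surjective _ residue_surjective
      haveI : IsClosedImmersion (Spec.map (CommRingCat.ofHom (residue R')) ≫ c) := by
        rw [← hsqres.w]
        infer_instance
      haveI : IsClosedImmersion (pullback.fst X'.hom (Spec.map (CommRingCat.ofHom (residue R'))) ≫ π₁) :=
        MorphismProperty.of_isPullback (P := @IsClosedImmersion) (h0.paste_horiz hP).flip inferInstance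
      haveI : IsClosedImmersion (Spec.map (CommRingCat.ofHom (residue R')) : _ ⟶ Spec (CommRingCat.of R')) :=
        IsClosedImmersion.spec_of_surjective _ residue_surjective
      haveI : IsClosedImmersion (pullback.lift F.ι F.curve.hom F.w ≫
          pullback.fst X'.hom (Spec.map (CommRingCat.ofHom (residue R')))) := by
        rw [pullback.lift_fst]; infer_instance
      haveI := IsClosedImmersion.of_comp (pullback.lift F.ι F.curve.hom F.w)
        (pullback.fst X'.hom (Spec.map (CommRingCat.ofHom (residue R'))))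
      rw [← pullback.lift_fst F.ι F.curve.hom F.w, Category.assoc]
      infer_instance
    let Γ : ArSurf.VertComp R X := ⟨Over.mk (F.curve.hom ≫ ψ), F.ι ≫ π₁, inferInstanceAs (IsClosedImmersion (F.ι ≫ π₁)),
      F.isIntegral, F.dim_eq, by
        show (F.ι ≫ π₁) ≫ X.hom = (F.curve.hom ≫ ψ) ≫ _
        rw [Category.assoc, hP.w, ← Category.assoc, F.w, Category.assoc, Category.assoc, ← hsqres.w]⟩
    exact no_excCurve_of_isRelMinimal hX hmin Γ ((isExcCurve_congr
      (hsquare Γ.curve.hom Γ.ι F.curve.hom F.ι Γ.w F.w rfl rfl) (hC Γ) (hC' F)).1 hF)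
  · intro hmin
    refine isRelMinimal_of_no_excCurve hX fun F hF => ?_
    haveI := F.isClosedImmersion
    let b := F.curve.hom ≫ inv ψ
    have hb : b ≫ ψ = F.curve.hom := by simp [b]
    let ι' : F.curve.left ⟶ X'.left := hP.lift F.ι (b ≫ Spec.map (CommRingCat.ofHom (residue R'))) (by
      rw [Category.assoc, ← hsqres.w, ← Category.assoc, hb]; exact F.w)
    have hs := hsquare F.curve.hom F.ι b ι' F.w (hP.lift_snd _ _ _) hb (hP.lift_fst _ _ _)
    haveI : IsClosedImmersion ι' := MorphismProperty.of_isPullback hs ‹IsClosedImmersion F.ι›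
    let Γ : ArSurf.VertComp R' X' := ⟨Over.mk b, ι', inferInstanceAs (IsClosedImmersion ι'),
      F.isIntegral, F.dim_eq, hP.lift_snd _ _ _⟩
    exact no_excCurve_of_isRelMinimal hX' hmin Γ ((isExcCurve_congr hs (hC F) (hC' Γ)).2 hF)

end GrothLib.Canon12
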