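import Groth.Agent.Lib.Canon12.Minimal
import Groth.Agent.Lib.Canon12.BaseChange
import Groth.Agent.Lib.ArSurf29.Torsion
import Groth.Agent.Lib.ArSurf29.Section
import Groth.Agent.Lib.Contract29.MinimalUnique
import Groth.Agent.Lib.DimCut.Product
import Groth.Agent.Lib.ModelK.Exists
import Groth.Agent.Lib.CurveMult.OmegaField
import Groth.Agent.S7831
import Mathlib.AlgebraicGeometry.Geometrically.Irreducible

/-!
# The canonical sheaf of a minimal elliptic surface is trivial
-/

set_option autoImplicit false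
set_option linter.all false
set_option backward.isDefEq.respectTransparency false
set_option maxHeartbeats 1000000

universe u

open CategoryTheory CategoryTheory.Limits AlgebraicGeometry TopologicalSpace IsLocalRing

noncomputable section

namespace GrothLib.Canon12

open GrothLib.ArSurf29

theorem isRegularImmersionOfCodim_id (C : Scheme.{u}) :
    RegImm.IsRegularImmersionOfCodim .regular 0 (𝟙 C) := by
  refine ⟨inferInstance, fun z => ?_⟩
  obtain ⟨_, ⟨U, hU, rfl⟩, hzU, -⟩ := C.isBasis_affineOpens.exists_subset_of_mem_open (Set.mem_univ z) isOpen_univ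
  refine ⟨⟨U, hU⟩, hzU, inferInstance, [], rfl, ?_, ?_⟩
  · haveI : Nonempty U := ⟨⟨z, hzU⟩⟩
    refine ⟨RingTheory.Sequence.IsWeaklyRegular.nil _ _, ?_⟩
    rw [Ideal.ofList_nil, Submodule.bot_smul]
    exact top_ne_bot
  · rw [Ideal.ofList_nil]
    exact (RingHom.injective_iff_ker_eq_bot _).1
      (ConcreteCategory.bijective_of_isIso ((𝟙 C : C ⟶ C).app U)).1

theorem isCanonicalVia_id_omega {C S : Scheme.{u}} (q : C ⟶ S) [QuasiSeparated q]
    [SmoothOfRelativeDimension 1 q] : Canon.IsCanonicalVia (𝟙 C) q 0 1 (Omega.sheaf q) := by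
  refine ⟨_, _, ModelK.isExtPow_zero _, ModelK.isExtPow_one _, ?_⟩
  have hO := PBDeg.rankOne_iff.1 (rank_omega q 1)
  have hT := Ample.isInvertible_tensorMod hO (Euler.isInvertible_structure (X := C))
  have e : Nonempty (CohB1.tensorMod (Omega.sheaf q) (Coh.structureModule C) ≅ Omega.sheaf q) :=
    (Cube.clsMod_eq_iff hT hO).1 (by
      rw [Cube.clsMod_tensorMod hO Euler.isInvertible_structure,
        show Cube.clsMod (Euler.isInvertible_structure (X := C)) = 1 from (Cube.clsMod_eq_one_iff _).2 ⟨Iso.refl _⟩,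
        mul_one])
  exact ⟨e.some ≪≫ ((Scheme.Modules.pullbackId C).app _).symm⟩

variable {R : Type u} [CommRing R] [IsDomain R] [IsDiscreteValuationRing R] {X : Over (Spec (CommRingCat.of R))}

theorem canonical_trivial (hX : ArSurf.IsArithSurface R X) (hmin : Neron.IsRelMinimalRegularModel R X)
    [Smooth ((Neron.genericFibre R).obj X).hom] [GeometricallyIrreducible ((Neron.genericFibre R).obj X).hom]
    (hg : FGA.eulerCharLE (FractionRing R) ((Neron.genericFibre R).obj X).left
      (Coh.structureModule ((Neron.genericFibre R).obj X).left) 1 = 0)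
    (σ : Spec (CommRingCat.of R) ⟶ X.left) (hσ : σ ≫ X.hom = 𝟙 _)
    (ω : X.left.Modules) (hω : Canon.IsCanonical X.hom ω) :
    Nonempty (ω ≅ Coh.structureModule X.left) := by
  classical
  haveI := hX.2.1
  haveI := hX.2.2.2.1
  haveI := isProper_of_isArithSurface hX
  haveI := isLocallyNoetherian_of_isArithSurface hX
  let K := FractionRing R
  let C := pullback X.hom (Neron.genPt R)
  let f : C ⟶ Spec (CommRingCat.of K) := pullback.snd X.hom (Neron.genPt R)
  letI : C.Over (Spec (CommRingCat.of K)) := ⟨f⟩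
  haveI : Smooth f := ‹Smooth ((Neron.genericFibre R).obj X).hom›
  haveI : Smooth (C ↘ Spec (CommRingCat.of K)) := ‹Smooth f›
  haveI : IsProper (C ↘ Spec (CommRingCat.of K)) := inferInstanceAs (IsProper f)
  haveI : GeometricallyIrreducible f := ‹GeometricallyIrreducible ((Neron.genericFibre R).obj X).hom›
  haveI : GeometricallyConnected f := ⟨fun F _ y Z fst snd hsq => by
    haveI : IrreducibleSpace Z := GeometricallyIrreducible.geometrically_irreducibleSpace (f := f) y fst snd hsq
    show ConnectedSpace Z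
    infer_instance⟩
  haveI : GeometricallyConnected (C ↘ Spec (CommRingCat.of K)) := ‹GeometricallyConnected f›
  haveI : IsIntegral C := Contract29.isIntegral_genericFibre hX
  have hdim : topologicalKrullDim C = 1 := Contract29.dim_genericFibre hX (IsDiscreteValuationRing.not_isField R)
  haveI : SmoothOfRelativeDimension 1 f := DimCut.smoothOfRelativeDimension f 1 (by exact_mod_cast hdim)
  obtain ⟨-, h0⟩ := CurveMult.OmegaField.integral_and_h0 K C
  have hH0 : IsIso f.appTop := by
    letI := GlobalConst.algΓ K (X := C)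
    have hfr : Module.finrank K Γ(C, ⊤) = 1 := ((GlobalConst.h0Equiv K (X := C)).finrank_eq.symm).trans h0
    have hb : Function.Bijective (Coh.toGlobal f) := by
      haveI : Nontrivial Γ(C, ⊤) := Module.nontrivial_of_finrank_eq_succ (hfr.trans rfl)
      haveI : Nontrivial (Coh.Γtop C) := ‹Nontrivial Γ(C, ⊤)›
      refine ⟨(Coh.toGlobal f).injective, fun y => ?_⟩
      obtain ⟨c, hc⟩ := (finrank_eq_one_iff_of_nonzero' (1 : Γ(C, ⊤)) one_ne_zero).1 hfr y
      exact ⟨c, ((Algebra.algebraMap_eq_smul_one c).trans hc :)⟩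
    refine (ConcreteCategory.isIso_iff_bijective _).2 ((Function.Bijective.of_comp_iff _
      (ConcreteCategory.bijective_of_isIso (Scheme.ΓSpecIso (CommRingCat.of K)).inv)).1 ?_)
    have he : ∀ a, f.appTop ((Scheme.ΓSpecIso (CommRingCat.of K)).inv a) = Coh.toGlobal f a := fun a => by rfl
    simp only [Function.Bijective, Function.Injective, Function.Surjective, Function.comp_apply, he]
    exact hb
  have hgen : Curv2.genus K C = 1 := by
    have h := hg
    simp only [FGA.eulerCharLE, Finset.sum_range_succ, Finset.sum_range_zero, pow_zero, pow_one] at h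
    change _ + (1 : ℤ) * (Module.finrank K (Coh.HH C (Coh.structureModule C) 0) : ℤ) +
      (-1 : ℤ) * (Module.finrank K (Coh.HH C (Coh.structureModule C) 1) : ℤ) = 0 at h
    rw [h0] at h
    show Module.finrank K (Coh.HH C (Coh.structureModule C) 1) = 1
    omega
  obtain ⟨eΩ⟩ := Groth.Agent.S7831.result K C hdim hgen
  obtain ⟨n, Γ, hΓ⟩ := exists_componentList (X := X) hX.2.2.1
  obtain ⟨L, hL⟩ := exists_inverses (X := X) hX.1 hΓ
  have hgX := IsPullback.of_hasPullback X.hom (Neron.genPt R)
  have iω : PicF.IsInvertible ω := by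
    obtain ⟨Z, i, g, c, n, hig, hi, hsm, hqc, hqs, DC, DΩ, hDC, hDΩ, ⟨a⟩⟩ := hω
    haveI := hsm
    haveI := hi.1
    exact FMAdj25.isInvertible_of_tensor (PBDeg.isInvertible_extPow (rank_conormal i hi) hDC)
      (RelProjK.isInvertible_of_iso a (Ample.isInvertible_pullback i (PBDeg.isInvertible_extPow (rank_omega g n) hDΩ)))
  -- the generic fibre
  have hpull : Cube.pull (pullback.fst X.hom (Neron.genPt R)) (Cube.clsMod iω) = 1 := by
    obtain ⟨Z, i, g, c, n, h, hi, hsm, hqc, hqs, hv⟩ := hω
    obtain ⟨e⟩ := nonempty_iso_baseChange X.hom (Neron.genPt R) (Or.inl inferInstance) i g h hi hsm hv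
      (𝟙 C) f (Category.id_comp _) (isRegularImmersionOfCodim_id C) inferInstance (isCanonicalVia_id_omega f)
    exact (pull_cls_eq_one_iff (pullback.fst X.hom (Neron.genPt R)) iω).1 ⟨e.symm ≪≫ eΩ⟩
  -- the closed fibre
  have hnef := fun j => nef_of_isRelMinimal hX hg.le ω hω hmin (Γ j)
  have hdeg : ∀ j, icl (Γ j) (Cube.clsMod iω) = 0 := fun j => by
    rw [← inter_eq_icl]
    have h := sum_mult_canonical hX hΓ ω hω
    rw [hg, mul_zero, Finset.sum_eq_zero_iff_of_nonneg fun i _ => mul_nonneg (Int.natCast_nonneg _) (hnef i)] at h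
    exact (mul_eq_zero.1 (h j (Finset.mem_univ j))).resolve_left
      (by exact_mod_cast (mult_pos (isMaxComp hΓ j) hX.1).ne')
  have hgcd : Models.multGcd R X Γ = 1 := by
    have hx := apply_closedPoint_mem_fibre σ hσ
    haveI := isRegularLocalRing_quotient_section hX.1 σ hσ
    haveI := CMFree.isDomain_of_isRegularLocalRing
      (X.left.presheaf.stalk (σ (closedPoint R)) ⧸
        Ideal.map (Models.stalkHom R X (σ (closedPoint R))) (maximalIdeal R))
    have hP : (CartierDescent.stalkIdeal (Models.specialFibreIdeal R X) (σ (closedPoint R))).IsPrime := by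
      rw [st_fibre]
      exact (Ideal.Quotient.isDomain_iff_prime _).1 inferInstance
    obtain ⟨⟨i, hi, -⟩, h1⟩ := existsUnique_component_of_isPrime hΓ hX.1 hx hP
    exact Nat.dvd_one.1 (h1 i hi ▸ Finset.gcd_dvd (Finset.mem_univ i))
  have h1 := pow_multGcd_eq_one hX.1 hΓ hgX hL hH0 hpull hdeg
  rw [hgcd, pow_one] at h1
  exact (Cube.clsMod_eq_one_iff iω).1 h1

end GrothLib.Canon12
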