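import Groth.Agent.Lib.Canon12.ClusterChi
import Groth.Agent.Lib.ArSurf29.ExcMeet

/-!
# Two exceptional curves which meet, without hypothesis on the constants
-/

set_option autoImplicit false
set_option linter.all false
set_option backward.isDefEq.respectTransparency false
set_option maxHeartbeats 1000000

universe u

open CategoryTheory CategoryTheory.Limits AlgebraicGeometry TopologicalSpace IsLocalRing

noncomputable section

namespace GrothLib.Canon12

open GrothLib.ArSurf29

variable {R : Type u} [CommRing R] [IsDomain R] [IsDiscreteValuationRing R] {X : Over (Spec (CommRingCat.of R))}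
  [IsProper X.hom] [IsLocallyNoetherian X.left]

theorem deg_pullback_ideal_of_inverse (E : ArSurf.VertComp R X) {D : X.left.IdealSheafData}
    (hD : _root_.BlowUp.IsEffCartierIdeal D) {L : X.left.Modules} (hL : ClSub.IsInverseOf L (ClSub.idealMod D)) :
    Curv2.deg (ResidueField R) E.curve.left ((Scheme.Modules.pullback E.ι).obj (ClSub.idealMod D)) 1 =
      -ArSurf.inter R X L E := by
  have hI := IdealModSec.isInvertible_of_isEffCartier hD
  rw [← inter_eq_deg E hI, inter_eq_icl E hI, inter_eq_icl E (isInvertible_of_isInverseOf hD hL),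
    cls_of_isInverseOf (isInvertible_of_isInverseOf hD hL) hI hL, icl_inv, neg_neg]

/-- Adding a curve to a divisor. -/
theorem hasChi_mul (E : ArSurf.VertComp R X) (hE : _root_.BlowUp.IsEffCartierIdeal E.ι.ker) {D : X.left.IdealSheafData}
    (hD : _root_.BlowUp.IsEffCartierIdeal D) {χ d : ℤ} (h : HasChi (ClSub.quotMod D) χ)
    (hd : Curv2.deg (ResidueField R) E.curve.left ((Scheme.Modules.pullback E.ι).obj (ClSub.idealMod D)) 1 = d) :
    HasChi (ClSub.quotMod (D * E.ι.ker)) (χ + (d + ((Models.wdeg R X E : ℤ) - Models.h1 R X E))) := by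
  haveI := isProper_curve E
  haveI := Euler.isNoetherian_of_proper (X := E.curve.left) (ResidueField R)
  have hI := IdealModSec.isInvertible_of_isEffCartier hE
  have hDi := IdealModSec.isInvertible_of_isEffCartier hD
  obtain ⟨S, hS, ⟨a₁⟩, ⟨a₂⟩, ⟨a₃⟩⟩ := exists_shortExact_mul D E.ι.ker hDi hI
  have hlf := Euler.isFinLocFree_of_isInvertible hDi
  haveI := ProjFormula.isIso_projHom E.ι hlf (Coh.structureModule E.curve.left)
  let c₁ : S.X₁ ≅ (Scheme.Modules.pushforward E.ι).obj ((Scheme.Modules.pullback E.ι).obj (ClSub.idealMod D)) :=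
    a₁ ≪≫ ((DCoh.tensorBi (X := X.left)).obj (ClSub.idealMod D)).mapIso (pushUnitIsoQuot E.ι).symm ≪≫
      asIso (ProjFormula.projHom E.ι (ClSub.idealMod D) (Coh.structureModule E.curve.left)) ≪≫
      (Scheme.Modules.pushforward E.ι).mapIso (Euler.tFUnitIso _)
  have hN := Kleiman.isInv_pullback E.ι hDi
  have h1 := hasChi_push E (Euler.isCoh_of_isInvertible hN)
  have he : Curv2.euler (ResidueField R) E.curve.left ((Scheme.Modules.pullback E.ι).obj (ClSub.idealMod D)) =
      d + ((Models.wdeg R X E : ℤ) - Models.h1 R X E) := by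
    rw [← hd, Curv2.deg, Euler.euler_eq_sum (ResidueField R) (Coh.structureModule E.curve.left) (N := 2) fun m hm =>
      Euler.subsingleton_HH_of_two_le (ResidueField R) E.dim_eq.le _ m hm]
    simp only [Finset.sum_range_succ, Finset.sum_range_zero, Models.wdeg, Models.h1]
    push_cast
    ring
  rw [he] at h1
  have h2 := ((h1.of_iso c₁.symm).of_shortExact hS (h.of_iso a₃.symm)).of_iso a₂
  rwa [add_comm] at h2

variable [Flat X.hom] [IsIntegral X.left]

theorem excCurves_meet_pos (hX : Models.IsRegularScheme X.left)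
    {n : ℕ} {Γ : Fin n → ArSurf.VertComp R X} (hΓ : Models.IsComponentList R X Γ)
    {L : Fin n → X.left.Modules} (hL : ∀ j, ClSub.IsInverseOf (L j) (ClSub.idealMod (Γ j).ι.ker))
    (i j : Fin n) (hij : i ≠ j) (hi : Models.IsExcCurve (Γ i).ι) (hj : Models.IsExcCurve (Γ j).ι)
    (hmeet : ¬ Disjoint (Set.range ((Γ i).ι.base : (Γ i).curve.left → X.left))
      (Set.range ((Γ j).ι.base : (Γ j).curve.left → X.left))) :
    0 < FGA.eulerCharLE (FractionRing R) ((Neron.genericFibre R).obj X).left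
      (Coh.structureModule ((Neron.genericFibre R).obj X).left) 1 := by
  classical
  have hE := fun l => isEffCartier_ker (isMaxComp hΓ l) hX
  obtain ⟨h1i, hsi⟩ := h1_inter_of_isExcCurve (Γ i) (hE i) (hL i) hi
  obtain ⟨h1j, hsj⟩ := h1_inter_of_isExcCurve (Γ j) (hE j) (hL j) hj
  have hnonneg := inter_nonneg_of_ne hX hΓ hL hij
  have hsym := inter_symm hX hΓ hL i j
  have ha : ArSurf.inter R X (L j) (Γ i) ≠ 0 := fun h => hmeet (hnonneg.2.1 h)
  have hQ := quad_nonpos (fun i j => ArSurf.inter R X (L j) (Γ i))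
    (fun i => (Models.mult R X (Γ i) : ℤ)) (fun i => by exact_mod_cast mult_pos (isMaxComp hΓ i) hX)
    (inter_symm hX hΓ hL) (fun i j h => (inter_nonneg_of_ne hX hΓ hL h).1)
    (fun i => le_of_eq ((Finset.sum_congr rfl fun j _ => mul_comm _ _).trans (sum_mult_inter hX hΓ hL i)))
    (Pi.single i 1 + Pi.single j 1)
  let v : Fin n → ℤ := Pi.single i 1 + Pi.single j 1
  have hQv : ∑ p, ∑ q, v p * v q * ArSurf.inter R X (L q) (Γ p) =
      ArSurf.inter R X (L i) (Γ i) + ArSurf.inter R X (L j) (Γ j) + 2 * ArSurf.inter R X (L j) (Γ i) := by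
    have hv : ∀ p, v p = (if p = i then 1 else 0) + (if p = j then 1 else 0) := fun p => by
      simp [v, Pi.single_apply]
    simp only [hv, add_mul, mul_add, Finset.sum_add_distrib, ite_mul, one_mul, zero_mul, mul_ite, mul_one, mul_zero,
      Finset.sum_ite_irrel, Finset.sum_ite_eq', Finset.mem_univ, if_true, Finset.sum_const_zero]
    have := hsym
    linarith
  obtain ⟨qi, hqi⟩ := wdeg_dvd_inter (Γ i) (isInvertible_inverse hX hΓ hL j)
  obtain ⟨qj, hqj⟩ := wdeg_dvd_inter (Γ j) (isInvertible_inverse hX hΓ hL i)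
  have hwi : (0 : ℤ) < Models.wdeg R X (Γ i) := by exact_mod_cast wdeg_pos (Γ i)
  have hwj : (0 : ℤ) < Models.wdeg R X (Γ j) := by exact_mod_cast wdeg_pos (Γ j)
  have hle : ∑ p, ∑ q, v p * v q * ArSurf.inter R X (L q) (Γ p) ≤ 0 := hQ
  rw [hQv, hsi, hsj] at hle
  have hapos : 0 < ArSurf.inter R X (L j) (Γ i) := lt_of_le_of_ne hnonneg.1 (Ne.symm ha)
  have hsym' : ArSurf.inter R X (L i) (Γ j) = ArSurf.inter R X (L j) (Γ i) := by linarith
  have hqi1 : 1 ≤ qi := by nlinarith
  have hqj1 : 1 ≤ qj := by nlinarith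
  have hai : (Models.wdeg R X (Γ i) : ℤ) ≤ ArSurf.inter R X (L j) (Γ i) := by nlinarith
  have haj : (Models.wdeg R X (Γ j) : ℤ) ≤ ArSurf.inter R X (L j) (Γ i) := by rw [← hsym']; nlinarith
  have hai' : ArSurf.inter R X (L j) (Γ i) = Models.wdeg R X (Γ i) := by linarith
  have haj' : ArSurf.inter R X (L j) (Γ i) = Models.wdeg R X (Γ j) := by linarith
  have hS1 := sum_mult_inter hX hΓ hL i
  have hS2 := sum_mult_inter hX hΓ hL j
  have hji : j ∈ Finset.univ.erase i := Finset.mem_erase.2 ⟨hij.symm, Finset.mem_univ _⟩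
  have hij' : i ∈ Finset.univ.erase j := Finset.mem_erase.2 ⟨hij, Finset.mem_univ _⟩
  rw [← Finset.add_sum_erase _ _ (Finset.mem_univ i), ← Finset.add_sum_erase _ _ hji] at hS1
  rw [← Finset.add_sum_erase _ _ (Finset.mem_univ j), ← Finset.add_sum_erase _ _ hij'] at hS2
  have hn1 : ∀ l ∈ (Finset.univ.erase i).erase j, 0 ≤ (Models.mult R X (Γ l) : ℤ) * ArSurf.inter R X (L l) (Γ i) :=
    fun l hl => mul_nonneg (Int.natCast_nonneg _)
      (inter_nonneg_of_ne hX hΓ hL (Finset.ne_of_mem_erase (Finset.mem_of_mem_erase hl)).symm).1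
  have hn2 : ∀ l ∈ (Finset.univ.erase j).erase i, 0 ≤ (Models.mult R X (Γ l) : ℤ) * ArSurf.inter R X (L l) (Γ j) :=
    fun l hl => mul_nonneg (Int.natCast_nonneg _)
      (inter_nonneg_of_ne hX hΓ hL (Finset.ne_of_mem_erase (Finset.mem_of_mem_erase hl)).symm).1
  have p1 := Finset.sum_nonneg hn1
  have p2 := Finset.sum_nonneg hn2
  rw [hsi, hai'] at hS1
  rw [hsj, hsym', haj'] at hS2
  have hww : (Models.wdeg R X (Γ j) : ℤ) = Models.wdeg R X (Γ i) := by linarith
  rw [hww] at hS2
  have z1 : ∑ l ∈ (Finset.univ.erase i).erase j, (Models.mult R X (Γ l) : ℤ) * ArSurf.inter R X (L l) (Γ i) = 0 := by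
    linarith
  have z2 : ∑ l ∈ (Finset.univ.erase j).erase i, (Models.mult R X (Γ l) : ℤ) * ArSurf.inter R X (L l) (Γ j) = 0 := by
    linarith
  obtain ⟨a, haJ, hai0, haint, hχ⟩ := exists_cluster hX hΓ {i, j} i (Set.mem_insert i _) hL (fun p hp l hl => by
    simp only [Set.mem_insert_iff, Set.mem_singleton_iff, not_or] at hp hl
    have hml : (0 : ℤ) < Models.mult R X (Γ l) := by exact_mod_cast mult_pos (isMaxComp hΓ l) hX
    rcases hp with hp | hp <;> rw [hp]
    · have h := (Finset.sum_eq_zero_iff_of_nonneg hn1).1 z1 l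
        (Finset.mem_erase.2 ⟨hl.2, Finset.mem_erase.2 ⟨hl.1, Finset.mem_univ l⟩⟩)
      exact (inter_nonneg_of_ne hX hΓ hL (Ne.symm hl.1)).2.1 ((mul_eq_zero.1 h).resolve_left hml.ne')
    · have h := (Finset.sum_eq_zero_iff_of_nonneg hn2).1 z2 l
        (Finset.mem_erase.2 ⟨hl.1, Finset.mem_erase.2 ⟨hl.2, Finset.mem_univ l⟩⟩)
      exact (inter_nonneg_of_ne hX hΓ hL (Ne.symm hl.2)).2.1 ((mul_eq_zero.1 h).resolve_left hml.ne'))
  have h0 := haint i
  rw [Finset.sum_eq_add i j hij (fun l _ hl => by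
    rw [haJ l (by simp [hl.1, hl.2]), Nat.cast_zero, zero_mul]) (fun h => absurd (Finset.mem_univ i) h)
    (fun h => absurd (Finset.mem_univ j) h), hsi, hai'] at h0
  have hae : a j = a i := by
    have h1 : ((a j : ℤ) - a i) * Models.wdeg R X (Γ i) = 0 := by linarith
    have h2 := (mul_eq_zero.1 h1).resolve_right hwi.ne'
    omega
  have hprod : ∏ l, (Γ l).ι.ker ^ a l = ((Γ i).ι.ker * (Γ j).ι.ker) ^ a i := by
    rw [Fintype.prod_eq_mul i j hij (fun l hl => by rw [haJ l (by simp [hl.1, hl.2]), pow_zero]), hae, mul_pow]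
  have hdi : Curv2.deg (ResidueField R) (Γ j).curve.left ((Scheme.Modules.pullback (Γ j).ι).obj (ClSub.idealMod (Γ i).ι.ker)) 1 =
      -(Models.wdeg R X (Γ i) : ℤ) := by
    rw [deg_pullback_ideal_of_inverse (Γ j) (hE i) (hL i), hsym', hai']
  have hij2 : ∀ k : ℕ, _root_.BlowUp.IsEffCartierIdeal (((Γ i).ι.ker * (Γ j).ι.ker) ^ k) := fun k => by
    induction k with
    | zero => rw [pow_zero, Scheme.IdealSheafData.one_eq_top]; exact GrothLib.BlowUp.isEffCartierIdeal_top
    | succ m ih =>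
      rw [pow_succ]
      exact GrothLib.BlowUp.isEffCartierIdeal_mul ih (GrothLib.BlowUp.isEffCartierIdeal_mul (hE i) (hE j))
  have hdegprod : ∀ (E : ArSurf.VertComp R X) (D D' : X.left.IdealSheafData),
      _root_.BlowUp.IsEffCartierIdeal D → _root_.BlowUp.IsEffCartierIdeal D' →
      Curv2.deg (ResidueField R) E.curve.left ((Scheme.Modules.pullback E.ι).obj (ClSub.idealMod (D * D'))) 1 =
        Curv2.deg (ResidueField R) E.curve.left ((Scheme.Modules.pullback E.ι).obj (ClSub.idealMod D)) 1 +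
        Curv2.deg (ResidueField R) E.curve.left ((Scheme.Modules.pullback E.ι).obj (ClSub.idealMod D')) 1 := by
    intro E D D' hD hD'
    haveI := isProper_curve E
    have hI := IdealModSec.isInvertible_of_isEffCartier hD
    have hI' := IdealModSec.isInvertible_of_isEffCartier hD'
    obtain ⟨e, -⟩ := exists_iso_mul D D' hI hI'
    refine (Euler.deg_of_iso (ResidueField R) ((OX.pullTensorIso E.ι _ _).symm ≪≫ (Scheme.Modules.pullback E.ι).mapIso e) 1).symm.trans ?_
    exact CurveMult.deg_tensorMod _ E.dim_eq.le (Kleiman.isInv_pullback E.ι hI) (Kleiman.isInv_pullback E.ι hI')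
  have hpowdeg : ∀ k : ℕ, Curv2.deg (ResidueField R) (Γ i).curve.left
        ((Scheme.Modules.pullback (Γ i).ι).obj (ClSub.idealMod (((Γ i).ι.ker * (Γ j).ι.ker) ^ (k + 1)))) 1 = 0 ∧
      Curv2.deg (ResidueField R) (Γ j).curve.left
        ((Scheme.Modules.pullback (Γ j).ι).obj (ClSub.idealMod (((Γ i).ι.ker * (Γ j).ι.ker) ^ (k + 1)))) 1 = 0 := by
    intro k
    induction k with
    | zero =>
      rw [zero_add, pow_one, hdegprod _ _ _ (hE i) (hE j), hdegprod _ _ _ (hE i) (hE j), hdi,
        deg_pullback_ideal_of_inverse (Γ i) (hE i) (hL i), deg_pullback_ideal_of_inverse (Γ i) (hE j) (hL j),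
        deg_pullback_ideal_of_inverse (Γ j) (hE j) (hL j), hsi, hsj, hai', hww]
      exact ⟨by ring, by ring⟩
    | succ m ih =>
      rw [pow_succ, hdegprod _ _ _ (hij2 (m + 1)) (GrothLib.BlowUp.isEffCartierIdeal_mul (hE i) (hE j)),
        hdegprod _ _ _ (hij2 (m + 1)) (GrothLib.BlowUp.isEffCartierIdeal_mul (hE i) (hE j)), ih.1, ih.2,
        hdegprod _ _ _ (hE i) (hE j), hdegprod _ _ _ (hE i) (hE j), hdi,
        deg_pullback_ideal_of_inverse (Γ i) (hE i) (hL i), deg_pullback_ideal_of_inverse (Γ i) (hE j) (hL j),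
        deg_pullback_ideal_of_inverse (Γ j) (hE j) (hL j), hsi, hsj, hai', hww]
      exact ⟨by ring, by ring⟩
  have hchi : ∀ k : ℕ, HasChi (ClSub.quotMod (((Γ i).ι.ker * (Γ j).ι.ker) ^ (k + 1)))
      ((k + 1 : ℤ) * Models.wdeg R X (Γ i)) := by
    haveI := isProper_curve (Γ i)
    intro k
    induction k with
    | zero =>
      rw [zero_add, pow_one]
      have h := hasChi_push (Γ i) (HomSh.isCoh_structureModule (Γ i).curve.left)
      have he : Curv2.euler (ResidueField R) (Γ i).curve.left (Coh.structureModule (Γ i).curve.left) =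
          Models.wdeg R X (Γ i) := by
        rw [Euler.euler_eq_sum (ResidueField R) _ (N := 2) fun m hm =>
          Euler.subsingleton_HH_of_two_le (ResidueField R) (Γ i).dim_eq.le _ m hm]
        have h1' : Module.finrank (ResidueField R) (Coh.HH (Γ i).curve.left (Coh.structureModule (Γ i).curve.left) 1) = 0 := h1i
        simp only [Finset.sum_range_succ, Finset.sum_range_zero, Models.wdeg, h1']
        push_cast
        ring
      rw [he] at h
      have h2 := hasChi_mul (Γ j) (hE j) (hE i) (h.of_iso (pushUnitIsoQuot (Γ i).ι)) hdi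
      rw [h1j, hww] at h2
      convert h2 using 1
      push_cast
      ring
    | succ m ih =>
      have hD := hij2 (m + 1)
      have h2 := hasChi_mul (Γ i) (hE i) hD ih (hpowdeg m).1
      have h3 := hasChi_mul (Γ j) (hE j) (GrothLib.BlowUp.isEffCartierIdeal_mul hD (hE i)) h2
        (d := -(Models.wdeg R X (Γ i) : ℤ)) (by rw [hdegprod _ _ _ hD (hE i), (hpowdeg m).2, hdi, zero_add])
      rw [h1i, h1j, hww, mul_assoc] at h3
      rw [pow_succ]
      convert h3 using 1
      push_cast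
      ring
  obtain ⟨m, hm⟩ := Nat.exists_eq_succ_of_ne_zero hai0
  rw [hprod, hm] at hχ
  obtain ⟨c, d, hc, hd, hcd⟩ := hχ _ (hchi m)
  have hpos : (0 : ℤ) < (m + 1 : ℤ) * Models.wdeg R X (Γ i) := mul_pos (by omega) hwi
  exact pos_of_mul_pos_right (hcd ▸ mul_pos hc hpos) hd.le

end GrothLib.Canon12
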