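import Groth.Agent.Lib.ArSurf29.MinimalEngine
import Groth.Agent.Lib.Canon12.MeetAny
import Groth.Agent.Lib.ArSurf29.ExcTransport
import Groth.Agent.Lib.ArSurf29.ModelSurface
import Groth.Agent.Lib.ArSurf29.ExcMeet
import Groth.Agent.Lib.ArSurf29.Torsion
import Groth.Agent.Lib.ArSurf29.FibreComponents
import Groth.Agent.Lib.ExcP1.ElimApp
import Groth.Agent.Lib.ExcP1.Factor
import Groth.Agent.Lib.ExcP1.Universal
import Groth.Agent.Lib.Nagata6.Consequences
import Groth.Agent.Lib.Nagata6.UnionData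
import Groth.Agent.Lib.CurvePoints.Basic
import Groth.Agent.Lib.ProperFib19.DVR
import Groth.Prelude.Def_ModelsG

/-!
# Morphisms to a minimal model of a curve of positive genus
-/

universe u

set_option autoImplicit false
set_option linter.all false
set_option backward.isDefEq.respectTransparency false

open CategoryTheory CategoryTheory.Limits AlgebraicGeometry TopologicalSpace IsLocalRing

noncomputable section

namespace GrothLib.ArSurf29

variable {R : Type u} [CommRing R] [IsDomain R] [IsDiscreteValuationRing R]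

local notation "base" => Spec.map (CommRingCat.ofHom (algebraMap R (FractionRing R)))

variable {C : Scheme.{u}} {f : C ⟶ Spec (CommRingCat.of (FractionRing R))} [IsIntegral C]

variable {X : Scheme.{u}} {p : X ⟶ Spec (CommRingCat.of R)} {gX : C ⟶ X} {Z : Scheme.{u}} {q : Z ⟶ Spec (CommRingCat.of R)} {g : C ⟶ Z}

theorem euler_eq_generic {X : Over (Spec (CommRingCat.of R))} [IsProper X.hom] [Flat X.hom]
    {g : C ⟶ X.left} (hg : IsPullback g f X.hom (Spec.map (CommRingCat.ofHom (algebraMap R (FractionRing R))))) :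
    FGA.eulerCharLE (FractionRing R) ((Neron.genericFibre R).obj X).left
        (Coh.structureModule ((Neron.genericFibre R).obj X).left) 1 =
      (letI : C.Over (Spec (CommRingCat.of (FractionRing R))) := ⟨f⟩
       FGA.eulerCharLE (FractionRing R) C (Coh.structureModule C) 1) := by
  haveI : IsLocallyNoetherian X.left := LocallyOfFiniteType.isLocallyNoetherian X.hom
  have hsq : IsPullback (pullback.fst X.hom (Neron.genPt R)) ((Neron.genericFibre R).obj X).hom X.hom (Neron.genPt R) :=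
    IsPullback.of_hasPullback X.hom (Neron.genPt R)
  simp only [FGA.eulerCharLE]
  refine Finset.sum_congr rfl fun i _ => ?_
  congr 2
  exact (finrank_HH_eq (X := X) (g := pullback.fst X.hom (Neron.genPt R)) hsq i).trans (finrank_HH_eq hg i).symm

/-- Over a minimal model of a curve of positive genus every exceptional curve is contracted. -/
theorem contracted_of_seq_any (hC : topologicalKrullDim C = 1) (hf : IsProper f) (hχ : (letI : C.Over (Spec (CommRingCat.of (FractionRing R))) := ⟨f⟩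
      FGA.eulerCharLE (FractionRing R) C (Coh.structureModule C) 1) ≤ 0)
    {W X : Scheme.{u}} {r : W ⟶ X} (hr : Models.IsContractionSeq r) :
    ∀ {p : X ⟶ Spec (CommRingCat.of R)} {gX : C ⟶ X}, IsMData f X p gX →
      (∀ Γ : ArSurf.VertComp R (Over.mk p), ¬ Models.IsExcCurve Γ.ι) →
      ∀ {q : W ⟶ Spec (CommRingCat.of R)}, r ≫ p = q →
      ∀ Γ : ArSurf.VertComp R (Over.mk q), Models.IsExcCurve Γ.ι → ∃ x : X, Set.range (Γ.ι ≫ r) = {x} := by
  induction hr with
  | @iso Y X e =>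
    intro p gX hX hmin q hq Γ hΓ
    exfalso
    haveI := hX.isNoetherian
    haveI : IsClosedImmersion (Y := Y) Γ.ι := Γ.isClosedImmersion
    haveI : IsIso (e.hom ∣_ (⊤ : X.Opens)) := inferInstance
    refine hmin ⟨Γ.curve, Γ.ι ≫ e.hom, inferInstanceAs (IsClosedImmersion (Γ.ι ≫ e.hom)), Γ.isIntegral,
      Γ.dim_eq, ?_⟩ (isExcCurve_comp_of_iso_over (Y := Y) Γ.ι e.hom ⊤ (fun _ => trivial) hΓ)
    show (Γ.ι ≫ e.hom) ≫ p = _
    rw [Category.assoc, hq]
    exact Γ.w
  | @step Y Z X E ι b r hι hE hb hr ih =>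
    intro p gX hX hmin q hq Γ hΓ
    haveI := hι
    obtain ⟨g₁, h₁, -⟩ := mdata_seq hr hX
    obtain ⟨g₀, h₀, -⟩ := mdata_step h₁ ι b hb
    obtain ⟨-, hbp, y, hy, hrange, hyreg, hd, hblow⟩ := hb
    haveI := hbp; haveI := hyreg
    haveI := h₁.isNoetherian
    haveI := h₀.isNoetherian
    rw [Category.assoc] at hq
    subst hq
    let YY : Over (Spec (CommRingCat.of R)) := Over.mk (b ≫ r ≫ p)
    haveI : IsProper YY.hom := h₀.proper
    haveI : Flat YY.hom := h₀.flat
    haveI : IsLocallyNoetherian YY.left := inferInstanceAs (IsLocallyNoetherian Y)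
    haveI : IsIntegral YY.left := h₀.isIntegral
    have hfib : ∀ e, YY.hom (ι e) = closedPoint R := fun e => by
      show (r ≫ p) (b (ι e)) = _
      rw [show b (ι e) = y from hrange.le ⟨e, rfl⟩]
      exact specialFibre_of_isClosed h₁ hy
    obtain ⟨F, hF, hFr⟩ := exists_vertComp_of_excCurve (X := YY) ι hE hfib
    haveI : IsClosedImmersion (Y := Y) Γ.ι := Γ.isClosedImmersion
    haveI := F.isClosedImmersion
    haveI := F.isIntegral
    by_cases hsame : Set.range Γ.ι = Set.range ι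
    · refine ⟨r y, Set.Subset.antisymm ?_ ?_⟩
      · rintro _ ⟨w, rfl⟩
        obtain ⟨v, hv⟩ := hsame.le ⟨w, rfl⟩
        show r (b (Γ.ι w)) ∈ ({r y} : Set X)
        rw [show Γ.ι w = ι v from hv.symm, show b (ι v) = y from hrange.le ⟨v, rfl⟩]
        rfl
      · rintro _ rfl
        obtain ⟨v, hv⟩ := hrange.ge (rfl : y = y)
        obtain ⟨w, hw⟩ := hsame.ge ⟨v, rfl⟩
        refine ⟨w, ?_⟩
        show r (b (Γ.ι w)) = r y
        rw [show Γ.ι w = ι v from hw, show b (ι v) = y from hv]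
    obtain ⟨n, L₀, hL₀⟩ := exists_componentList (X := YY) (h₀.dim_eq hC hf)
    obtain ⟨L, hL⟩ := exists_inverses (X := YY) h₀.reg hL₀
    obtain ⟨i, hi⟩ := exists_genPt_eq hL₀ F
    obtain ⟨j, hj⟩ := exists_genPt_eq hL₀ Γ
    have hri := (range_vertComp_eq _ _ hi).trans hFr
    have hrj := range_vertComp_eq _ _ hj
    haveI := (L₀ i).isClosedImmersion
    haveI := (L₀ i).isIntegral
    haveI := (L₀ j).isClosedImmersion
    haveI := (L₀ j).isIntegral
    haveI := Γ.isIntegral
    have hei : Models.IsExcCurve (L₀ i).ι := isExcCurve_of_range_eq F.ι _ hF (hri.trans hFr.symm)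
    have hej : Models.IsExcCurve (L₀ j).ι := isExcCurve_of_range_eq (Y := YY.left) Γ.ι _ hΓ hrj
    have hij : i ≠ j := fun e => hsame (by subst e; exact hrj.symm.trans hri)
    have hdisj : Disjoint (Set.range Γ.ι) (Set.range ι) := by
      by_contra hmeet
      have hmeet : ¬ Disjoint (Set.range (L₀ j).ι) (Set.range (L₀ i).ι) := fun hd' => hmeet (by
        rw [Set.disjoint_left] at hd' ⊢
        exact fun a h1 h2 => hd' (hrj.ge h1) (hri.ge h2))
      have hpos := GrothLib.Canon12.excCurves_meet_pos (X := YY) h₀.reg hL₀ hL j i hij.symm hej hei hmeet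
      exact absurd hχ (not_le.2 (euler_eq_generic (X := YY) h₀.pb ▸ hpos))
    obtain ⟨-, k, _, e, -⟩ := id hE
    have hfibre := GrothLib.ExcP1.range_eq_fibre hy hd hblow ι k e hrange
    let V : Z.Opens := ⟨{y}ᶜ, hy.isOpen_compl⟩
    haveI : IsIso (b ∣_ V) := by
      have h := GrothLib.BlowUp.isIso_off_center hblow
      rwa [show (Scheme.IdealSheafData.vanishingIdeal (⟨{y}, hy⟩ : Closeds Z)).support.compl = V from Opens.ext (by
        show ((Scheme.IdealSheafData.vanishingIdeal (⟨{y}, hy⟩ : Closeds Z)).support : Set Z)ᶜ = {y}ᶜ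
        rw [Scheme.IdealSheafData.coe_support_vanishingIdeal]
        rfl)] at h
    have hV : ∀ w, b (Γ.ι w) ∈ V := fun w (hw : b (Γ.ι w) = y) =>
      Set.disjoint_left.1 hdisj ⟨w, rfl⟩ (hfibre.ge hw)
    haveI := isClosedImmersion_comp_of_iso_over (Y := Y) Γ.ι b V hV
    let Γ' : ArSurf.VertComp R (Over.mk (r ≫ p)) :=
      ⟨Γ.curve, Γ.ι ≫ b, inferInstanceAs (IsClosedImmersion (Γ.ι ≫ b)), Γ.isIntegral, Γ.dim_eq, by
        show (Γ.ι ≫ b) ≫ r ≫ p = _
        rw [Category.assoc]
        exact Γ.w⟩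
    obtain ⟨x, hx⟩ := ih hX hmin rfl Γ' (isExcCurve_comp_of_iso_over (Y := Y) Γ.ι b V hV hΓ)
    refine ⟨x, Eq.trans ?_ hx⟩
    rfl

/-- Morphisms to a minimal model descend along contractions. -/
theorem exists_desc_any (hC : topologicalKrullDim C = 1) (hf : IsProper f) (hχ : (letI : C.Over (Spec (CommRingCat.of (FractionRing R))) := ⟨f⟩
      FGA.eulerCharLE (FractionRing R) C (Coh.structureModule C) 1) ≤ 0) (hX : IsMData f X p gX)
    (hmin : ∀ Γ : ArSurf.VertComp R (Over.mk p), ¬ Models.IsExcCurve Γ.ι)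
    {W Y : Scheme.{u}} {r : W ⟶ Y} (hr : Models.IsContractionSeq r) :
    ∀ {q : Y ⟶ Spec (CommRingCat.of R)} {gY : C ⟶ Y}, IsMData f Y q gY →
      ∀ (gW : C ⟶ W), IsMData f W (r ≫ q) gW → gW ≫ r = gY →
      ∀ (h : W ⟶ X), h ≫ p = r ≫ q → gW ≫ h = gX → ∃ b : Y ⟶ X, b ≫ p = q ∧ gY ≫ b = gX := by
  induction hr with
  | @iso A B e =>
    intro q gY hY gW hW hg h hh hgh
    exact ⟨e.inv ≫ h, by rw [Category.assoc, hh, e.inv_hom_id_assoc],
      by rw [← hg, Category.assoc, e.hom_inv_id_assoc, hgh]⟩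
  | @step A B D E ι b r hι hE hb hr ih =>
    intro q gY hY gW hW hg h hh hgh
    haveI := hι
    obtain ⟨gB, hB, hgB⟩ := mdata_seq hr hY
    have hseq := seq_of_hom hC hf hX hW h hh hgh
    obtain ⟨-, hbp, y, hy, hrange, hyreg, hd, hblow⟩ := id hb
    haveI := hyreg
    haveI := hB.isNoetherian
    haveI := hW.isNoetherian
    let WW : Over (Spec (CommRingCat.of R)) := Over.mk ((b ≫ r) ≫ q)
    have hfib : ∀ e, WW.hom (ι e) = closedPoint R := fun e => by
      show (r ≫ q) (b (ι e)) = _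
      rw [show b (ι e) = y from hrange.le ⟨e, rfl⟩]
      exact specialFibre_of_isClosed hB hy
    obtain ⟨F, hF, hFr⟩ := exists_vertComp_of_excCurve (X := WW) ι hE hfib
    obtain ⟨x, hx⟩ := contracted_of_seq_any hC hf hχ hseq hX hmin hh F hF
    obtain ⟨-, k, _, e, -⟩ := id hE
    have hfibre := GrothLib.ExcP1.range_eq_fibre hy hd hblow ι k e hrange
    obtain ⟨e₀, he₀⟩ : ∃ a, (ι ≫ b) a = y := hrange.ge rfl
    have hφ : ∀ a, b a = y → h a = x := fun a ha => by
      obtain ⟨w, hw⟩ : a ∈ Set.range F.ι := hFr ▸ hfibre.ge ha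
      exact hx.le ⟨w, congrArg h hw⟩
    obtain ⟨ψ, hψ, -⟩ := GrothLib.ExcP1.existsUnique_factor hy hd hblow h x ⟨ι e₀, he₀⟩ hφ
    have huniq := GrothLib.ExcP1.existsUnique_factor hy hd hblow (h ≫ p) (closedPoint R) ⟨ι e₀, he₀⟩ fun a ha => by
      rw [hh]
      show (r ≫ q) (b a) = _
      rw [ha]
      exact specialFibre_of_isClosed hB hy
    have hψp : ψ ≫ p = r ≫ q := huniq.unique (by show b ≫ ψ ≫ p = _; rw [reassoc_of% hψ])
      (by show b ≫ r ≫ q = _; rw [hh, Category.assoc])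
    obtain ⟨g₀, h₀, hg₀⟩ := mdata_step hB ι b hb
    have hgW : gW ≫ b = gB := by
      have hpb := isPullback_of_hom hY hB r rfl hgB
      have h1 := hpb.lift_fst (gW ≫ b) (𝟙 C) (by rw [Category.assoc, hg, Category.id_comp])
      have h2 := hpb.lift_snd (gW ≫ b) (𝟙 C) (by rw [Category.assoc, hg, Category.id_comp])
      rw [Category.comp_id] at h2
      rw [h2, Category.id_comp] at h1
      exact h1.symm
    exact ih hY gB hB hgB ψ hψp (by rw [← hgW, Category.assoc, hψ, hgh])

/-- A model maps to every minimal model of a curve of positive genus. -/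
theorem exists_hom_any (hC : topologicalKrullDim C = 1) (hf : IsProper f) (hχ : (letI : C.Over (Spec (CommRingCat.of (FractionRing R))) := ⟨f⟩
      FGA.eulerCharLE (FractionRing R) C (Coh.structureModule C) 1) ≤ 0) (hX : IsMData f X p gX)
    (hmin : ∀ Γ : ArSurf.VertComp R (Over.mk p), ¬ Models.IsExcCurve Γ.ι) (hZ : IsMData f Z q g) :
    ∃ b : Z ⟶ X, b ≫ p = q ∧ g ≫ b = gX := by
  haveI := hX.proper
  haveI := hZ.isNoetherian; haveI := hZ.isIntegral
  haveI := hZ.isOpenImmersion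
  obtain ⟨W, r, h, hr, hh, hag⟩ := exists_seq_extend q p hZ.reg (hZ.dim_eq hC hf).le g.opensRange
    ⟨g (genericPoint C), ⟨_, rfl⟩⟩ (g.isoOpensRange.inv ≫ gX) (by
      rw [Category.assoc, hX.pb.w, ← hZ.pb.w, ← Category.assoc]
      congr 1
      rw [Iso.inv_comp_eq]
      exact g.isoOpensRange_hom_ι.symm)
  obtain ⟨gW, hW, hgW⟩ := mdata_seq hr hZ
  refine exists_desc_any hC hf hχ hX hmin hr hZ gW hW hgW h hh ?_
  have hr' : Set.range gW ⊆ Set.range (r ⁻¹ᵁ g.opensRange).ι := by
    rw [Scheme.Opens.range_ι]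
    rintro _ ⟨c, rfl⟩
    exact ⟨c, congrArg (fun m => m c) hgW.symm⟩
  let l := IsOpenImmersion.lift (r ⁻¹ᵁ g.opensRange).ι gW hr'
  have hl : l ≫ (r ⁻¹ᵁ g.opensRange).ι = gW := IsOpenImmersion.lift_fac _ _ _
  have hl' : l ≫ (r ∣_ g.opensRange) = g.isoOpensRange.hom := by
    rw [← cancel_mono g.opensRange.ι, Category.assoc, morphismRestrict_ι, reassoc_of% hl, hgW]
    exact g.isoOpensRange_hom_ι.symm
  rw [← hl, Category.assoc, hag, reassoc_of% hl', Iso.hom_inv_id_assoc]

end GrothLib.ArSurf29
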