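import Groth.Agent.Lib.Canon12.FibreEuler
import Groth.Agent.Lib.ArSurf29.GenusZeroComp
import Groth.Agent.Lib.ArSurf29.Constants

/-!
# Exceptional curves and the canonical degree
-/

set_option autoImplicit false
set_option linter.all false
set_option backward.isDefEq.respectTransparency false
set_option maxHeartbeats 1000000

universe u

open CategoryTheory CategoryTheory.Limits AlgebraicGeometry TopologicalSpace IsLocalRing

noncomputable section

namespace GrothLib.Canon12

open GrothLib.ArSurf29

variable {R : Type u} [CommRing R] [IsDomain R] [IsDiscreteValuationRing R] {X : Over (Spec (CommRingCat.of R))}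

theorem toGlobal_comp_spec {k k' : Type u} [CommRing k] [CommRing k'] {P : Scheme.{u}}
    (q' : P ⟶ Spec (CommRingCat.of k')) (φ : k →+* k') (a : k) :
    Coh.toGlobal (q' ≫ Spec.map (CommRingCat.ofHom φ)) a = Coh.toGlobal q' (φ a) := by
  show q'.appTop ((Spec.map (CommRingCat.ofHom φ)).appTop ((Scheme.ΓSpecIso (CommRingCat.of k)).inv a)) = _
  rw [← CommRingCat.comp_apply (Scheme.ΓSpecIso (CommRingCat.of k)).inv, ← Scheme.ΓSpecIso_inv_naturality]
  rfl

/-- The numerical invariants of a curve isomorphic to a projective line over an extension. -/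
theorem invariants_of_iso_projLine [IsProper X.hom] (E : ArSurf.VertComp R X) {κ : Type u} [Field κ]
    (e : E.curve.left ≅ CohB1.ProjSpace 1 κ) (φ : ResidueField R →+* κ)
    (he : e.hom ≫ CohB1.ProjSpace.toSpec 1 κ ≫ Spec.map (CommRingCat.ofHom φ) = E.curve.hom) :
    Models.h1 R X E = 0 ∧ Models.wdeg R X E = (letI := φ.toAlgebra; Module.finrank (ResidueField R) κ) := by
  let P := CohB1.ProjSpace 1 κ
  let q' : P ⟶ Spec (CommRingCat.of κ) := CohB1.ProjSpace.toSpec 1 κ
  let q : P ⟶ Spec (CommRingCat.of (ResidueField R)) := q' ≫ Spec.map (CommRingCat.ofHom φ)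
  letI : P.Over (Spec (CommRingCat.of (ResidueField R))) := ⟨q⟩
  have hstr : ∀ i, Module.finrank (ResidueField R) (Coh.HH E.curve.left (Coh.structureModule E.curve.left) i) =
      (letI := φ.toAlgebra; Module.finrank (ResidueField R) κ) *
        Module.finrank κ (Coh.HH P (Coh.structureModule P) i) := fun i => by
    obtain ⟨f⟩ := nonempty_HH_structure_iso (ResidueField R) (Z := E.curve.left) (Y := P) e.hom he i
    rw [f.finrank_eq]
    exact finrank_HH_mul (ResidueField R) q q' φ (toGlobal_comp_spec q' φ) _ i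
  haveI : Subsingleton (Coh.HH P (Coh.structureModule P) 1) := ProjCohom.subsingleton_HH_structure one_pos
  exact ⟨by rw [Models.h1, hstr, (Module.finrank_zero_of_subsingleton : Module.finrank κ (Coh.HH P (Coh.structureModule P) 1) = 0), mul_zero],
    by rw [Models.wdeg, hstr, finrank_H0_P1, mul_one]⟩

/-- An exceptional curve is a projective line over a finite extension of the residue field. -/
theorem exists_projLine_of_isExcCurve [IsProper X.hom] (E : ArSurf.VertComp R X) (h : Models.IsExcCurve E.ι) :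
    ∃ (k' : Type u) (_ : Field k') (_ : Algebra (ResidueField R) k'),
      FiniteDimensional (ResidueField R) k' ∧
      ∃ e : E.curve.left ≅ CohB1.ProjSpace 1 k',
        e.hom ≫ (CohB1.ProjSpace 1 k' ↘ Spec (CommRingCat.of k')) ≫
            Spec.map (CommRingCat.ofHom (algebraMap (ResidueField R) k')) = E.curve.hom ∧
          (Models.wdeg R X E : ℤ) = Module.finrank (ResidueField R) k' := by
  obtain ⟨-, κ, _, e, -⟩ := h
  let P := CohB1.ProjSpace 1 κ
  let q : P ⟶ Spec (CommRingCat.of (ResidueField R)) := e.hom ≫ E.curve.hom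
  let q' : P ⟶ Spec (CommRingCat.of κ) := CohB1.ProjSpace.toSpec 1 κ
  have hbij : Function.Bijective (Coh.toGlobal q') := by
    letI := GlobalConst.algΓ κ (X := P)
    have hfr : Module.finrank κ Γ(P, ⊤) = 1 :=
      ((GlobalConst.h0Equiv κ (X := P)).finrank_eq.symm).trans (finrank_H0_P1 κ)
    haveI : Nontrivial Γ(P, ⊤) := Module.nontrivial_of_finrank_eq_succ (hfr.trans rfl)
    haveI : Nontrivial (Coh.Γtop P) := ‹Nontrivial Γ(P, ⊤)›
    refine ⟨(Coh.toGlobal q').injective, fun y => ?_⟩
    obtain ⟨c, hc⟩ := (finrank_eq_one_iff_of_nonzero' (1 : Γ(P, ⊤)) one_ne_zero).1 hfr y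
    exact ⟨c, ((Algebra.algebraMap_eq_smul_one c).trans hc :)⟩
  let φ : ResidueField R →+* κ := (RingEquiv.ofBijective _ hbij).symm.toRingHom.comp (Coh.toGlobal q)
  have hφ : ∀ a, Coh.toGlobal q a = Coh.toGlobal q' (φ a) := fun a =>
    ((RingEquiv.ofBijective _ hbij).apply_symm_apply _).symm
  have hq : q' ≫ Spec.map (CommRingCat.ofHom φ) = q := by
    refine ext_of_isAffine (CommRingCat.hom_ext (RingHom.ext fun s => ?_))
    have h := hφ ((Scheme.ΓSpecIso (CommRingCat.of (ResidueField R))).hom s)
    rw [← toGlobal_comp_spec q' φ] at h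
    have key : ∀ p : P ⟶ Spec (CommRingCat.of (ResidueField R)),
        p.appTop s = Coh.toGlobal p ((Scheme.ΓSpecIso (CommRingCat.of (ResidueField R))).hom s) := fun p => by
      show _ = p.appTop ((Scheme.ΓSpecIso _).inv ((Scheme.ΓSpecIso _).hom s))
      rw [Iso.hom_inv_id_apply]
    exact (key _).trans (h.symm.trans (key q).symm)
  letI := φ.toAlgebra
  have he : e.symm.hom ≫ q' ≫ Spec.map (CommRingCat.ofHom φ) = E.curve.hom := by
    rw [hq]
    simp [q]
  obtain ⟨-, hw⟩ := invariants_of_iso_projLine E e.symm φ he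
  refine ⟨κ, inferInstance, φ.toAlgebra, Module.finite_of_finrank_pos (hw ▸ wdeg_pos E), e.symm, he, ?_⟩
  exact_mod_cast hw

/-- An exceptional curve is recognised by the signs of `K·E` and `E·E`. -/
theorem exceptional_iff (hX : ArSurf.IsArithSurface R X) (E : ArSurf.VertComp R X) (L : X.left.Modules)
    (hL : ClSub.IsInverseOf L (ClSub.idealMod E.ι.ker)) (ω : X.left.Modules) (hω : Canon.IsCanonical X.hom ω) :
    ((∃ (k' : Type u) (_ : Field k') (_ : Algebra (ResidueField R) k'),
        FiniteDimensional (ResidueField R) k' ∧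
        ∃ e : E.curve.left ≅ CohB1.ProjSpace 1 k',
          e.hom ≫ (CohB1.ProjSpace 1 k' ↘ Spec (CommRingCat.of k')) ≫
              Spec.map (CommRingCat.ofHom (algebraMap (ResidueField R) k')) = E.curve.hom ∧
            ArSurf.inter R X L E = -(Module.finrank (ResidueField R) k' : ℤ)) ↔
      (ArSurf.inter R X ω E < 0 ∧ ArSurf.inter R X L E < 0)) ∧
    (ArSurf.inter R X ω E < 0 → ArSurf.inter R X L E < 0 → ArSurf.inter R X ω E = ArSurf.inter R X L E) := by
  haveI := hX.2.1
  haveI := hX.2.2.2.1
  haveI := isProper_of_isArithSurface hX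
  haveI := isLocallyNoetherian_of_isArithSurface hX
  have hE := isEffCartier_ker (isMaxComp_of_isArithSurface hX E) hX.1
  have adj : ArSurf.inter R X L E + ArSurf.inter R X ω E =
      -2 * ((Models.wdeg R X E : ℤ) - Models.h1 R X E) := by
    rw [selfInter_add_canonical_inter hX E L hL ω hω]
    simp only [FGA.eulerCharLE, Finset.sum_range_succ, Finset.sum_range_zero, pow_zero, pow_one, Models.wdeg, Models.h1]
    ring
  have iω : PicF.IsInvertible ω := by
    obtain ⟨Z, i, g, c, n, hig, hi, hg, hqc, hqs, DC, DΩ, hDC, hDΩ, ⟨a⟩⟩ := hω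
    haveI := hg
    haveI := hi.1
    exact FMAdj25.isInvertible_of_tensor (PBDeg.isInvertible_extPow (rank_conormal i hi) hDC)
      (RelProjK.isInvertible_of_iso a (Ample.isInvertible_pullback i (PBDeg.isInvertible_extPow (rank_omega g n) hDΩ)))
  have main : ArSurf.inter R X ω E < 0 → ArSurf.inter R X L E < 0 →
      Models.h1 R X E = 0 ∧ ArSurf.inter R X L E = -(Models.wdeg R X E : ℤ) ∧
        ArSurf.inter R X ω E = -(Models.wdeg R X E : ℤ) := by
    intro hK hS
    obtain ⟨x, hx⟩ := wdeg_dvd_inter E iω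
    obtain ⟨y, hy⟩ := wdeg_dvd_inter E (isInvertible_of_isInverseOf hE hL)
    obtain ⟨g, hg⟩ := wdeg_dvd_h1 E
    have hw : (0 : ℤ) < Models.wdeg R X E := by exact_mod_cast wdeg_pos E
    have hg' : (Models.h1 R X E : ℤ) = Models.wdeg R X E * g := by exact_mod_cast hg
    rw [hx] at hK adj ⊢
    rw [hy] at hS adj ⊢
    rw [hg'] at adj
    have hx0 : x < 0 := neg_of_mul_neg_right hK hw.le
    have hy0 : y < 0 := neg_of_mul_neg_right hS hw.le
    have hsum : y + x = -2 * (1 - (g : ℤ)) :=
      mul_left_cancel₀ hw.ne' (by linear_combination adj)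
    obtain rfl : g = 0 := by omega
    obtain rfl : x = -1 := by omega
    obtain rfl : y = -1 := by omega
    exact ⟨by rw [hg, mul_zero], by ring, by ring⟩
  refine ⟨⟨?_, fun ⟨hK, hS⟩ => ?_⟩, fun hK hS => (main hK hS).2.2.trans (main hK hS).2.1.symm⟩
  · rintro ⟨k', _, _, hfin, e, he, hS⟩
    obtain ⟨h1, hw⟩ := invariants_of_iso_projLine E e (algebraMap (ResidueField R) k') he
    have hw' : (Models.wdeg R X E : ℤ) = Module.finrank (ResidueField R) k' := by
      rw [hw, show (algebraMap (ResidueField R) k').toAlgebra = ‹Algebra (ResidueField R) k'› from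
        Algebra.algebra_ext _ _ fun _ => rfl]
    have hpos : (0 : ℤ) < Models.wdeg R X E := by exact_mod_cast wdeg_pos E
    rw [h1, hS, ← hw'] at adj
    constructor <;> omega
  · obtain ⟨h1, hS', -⟩ := main hK hS
    obtain ⟨k', i1, i2, hfin, e, he, hw⟩ :=
      exists_projLine_of_isExcCurve E (isExcCurve_of_h1_inter E hE hL h1 hS')
    exact ⟨k', i1, i2, hfin, e, he, by rw [hS', hw]⟩

end GrothLib.Canon12
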