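import Mathlib.RingTheory.OrderOfVanishing.Noetherian
import Mathlib.RingTheory.LocalRing.Length
import Mathlib.RingTheory.LocalRing.Quotient
import Mathlib.RingTheory.Algebraic.Integral
import Mathlib.FieldTheory.IsAlgClosed.Basic
import Mathlib.RingTheory.DiscreteValuationRing.Basic
import Mathlib.LinearAlgebra.FreeModule.PID
import Mathlib.RingTheory.Finiteness.Cardinality

set_option autoImplicit false
set_option linter.all false
set_option backward.isDefEq.respectTransparency false

universe u

open IsLocalRing

namespace GrothLib.Canon12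

theorem length_quotient_map_maximalIdeal (R B : Type u) [CommRing R] [IsLocalRing R] [CommRing B] [Algebra R B]
    [Module.Finite R B] [Module.Free R B] :
    Module.length R (B ⧸ (maximalIdeal R).map (algebraMap R B)) = (Module.finrank R B : ℕ∞) := by
  letI := Ideal.Quotient.field (maximalIdeal R)
  haveI : Module.Finite (R ⧸ maximalIdeal R) (B ⧸ (maximalIdeal R).map (algebraMap R B)) :=
    Module.Finite.of_restrictScalars_finite R _ _
  rw [Module.length_eq_of_surjective (R := R ⧸ maximalIdeal R) (S := R) Ideal.Quotient.mk_surjective,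
    Module.length_eq_finrank, IsLocalRing.finrank_quotient_map]

theorem length_self_of_isAlgClosed (R B : Type u) [CommRing R] [IsLocalRing R] [CommRing B] [IsLocalRing B]
    [Algebra R B] [Module.Finite R B] [IsLocalHom (algebraMap R B)]
    (hk : IsAlgClosed (ResidueField R)) (M : Type u) [AddCommGroup M] [Module R M] [Module B M]
    [IsScalarTower R B M] : Module.length R M = Module.length B M := by
  haveI := hk
  haveI : Module.Finite (ResidueField R) (ResidueField B) := inferInstance
  have hb := IsAlgClosed.algebraMap_bijective_of_isIntegral (k := ResidueField R) (K := ResidueField B)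
  have : Module.length (ResidueField R) (ResidueField B) = 1 := by
    rw [← (LinearEquiv.ofBijective (Algebra.linearMap (ResidueField R) (ResidueField B)) hb).length_eq]
    simp
  rw [IsLocalRing.length_restrictScalars R B M, this, mul_one]

theorem ord_prod_pow (B : Type u) [CommRing B] [IsDomain B] {ι : Type*} (s : Finset ι) (g : ι → B)
    (hg : ∀ i, g i ≠ 0) (r : ι → ℕ) :
    Ring.ord B (∏ i ∈ s, g i ^ r i) = ∑ i ∈ s, r i • Ring.ord B (g i) := by
  classical
  induction s using Finset.induction with
  | empty => simp [Ring.ord_one]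
  | insert a t ha ih =>
    rw [Finset.prod_insert ha, Finset.sum_insert ha, Ring.ord_mul, ih,
      Ring.ord_pow (mem_nonZeroDivisors_of_ne_zero (hg a))]
    exact mem_nonZeroDivisors_of_ne_zero (Finset.prod_ne_zero_iff.2 fun i _ => pow_ne_zero _ (hg i))

theorem exists_finrank_eq_sum (R : Type u) [CommRing R] [IsDomain R] [IsDiscreteValuationRing R]
    (hk : IsAlgClosed (ResidueField R)) (B : Type u) [CommRing B] [IsDomain B] [IsLocalRing B] [Algebra R B]
    [Module.Finite R B] (hinj : Function.Injective (algebraMap R B)) {π : R} (hπ : Irreducible π)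
    (L : Type u) [Field L] [Algebra R L] [Algebra (FractionRing R) L] [IsScalarTower R (FractionRing R) L]
    [Algebra B L] [IsFractionRing B L] [IsScalarTower R B L]
    {ι : Type*} [Fintype ι] (r : ι → ℕ) (hr : ∀ i, 0 < r i) (g : ι → B) (hg : ∀ i, ¬ IsUnit (g i))
    (hprod : Associated (∏ i, g i ^ r i) (algebraMap R B π)) :
    ∃ c : ι → ℕ, (∀ i, 1 ≤ c i) ∧ Module.finrank (FractionRing R) L = ∑ i, c i * r i := by
  haveI : FaithfulSMul R B := (faithfulSMul_iff_algebraMap_injective R B).2 hinj
  haveI : Algebra.IsIntegral R B := inferInstance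
  haveI : Module.Free R B := Module.free_of_finite_type_torsion_free'
  haveI : IsLocalHom (algebraMap R B) := Algebra.IsIntegral.isLocalHom R B
  have hπ0 : algebraMap R B π ≠ 0 := fun h => hπ.ne_zero (hinj (h.trans (map_zero _).symm))
  have hg0 : ∀ i, g i ≠ 0 := fun i h => by
    refine hprod.ne_zero_iff.2 hπ0 (Finset.prod_eq_zero (Finset.mem_univ i) ?_)
    rw [h, zero_pow (hr i).ne']
  have hd : Ring.ord B (algebraMap R B π) = (Module.finrank R B : ℕ∞) := by
    rw [← length_quotient_map_maximalIdeal R B, hπ.maximalIdeal_eq, Ideal.map_span, Set.image_singleton,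
      length_self_of_isAlgClosed R B hk]
    rfl
  rw [← Ring.ord_eq_of_associated hprod, ord_prod_pow B _ g hg0] at hd
  have hfin : ∀ i, Ring.ord B (g i) ≠ ⊤ := fun i h => by
    refine ENat.coe_ne_top (Module.finrank R B) ?_
    rw [← hd, eq_top_iff]
    refine le_trans ?_ (Finset.single_le_sum (fun j _ => zero_le) (Finset.mem_univ i))
    rw [h, nsmul_eq_mul, ENat.mul_top (Nat.cast_ne_zero.2 (hr i).ne')]
  refine ⟨fun i => (Ring.ord B (g i)).toNat, fun i => ?_, ?_⟩
  · refine Nat.one_le_iff_ne_zero.2 fun h => ?_
    simp only at h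
    have h0 : Ring.ord B (g i) = 0 := by
      rw [← ENat.coe_toNat (hfin i), h]
      rfl
    have := Module.length_eq_zero_iff.1 h0
    rw [Ideal.Quotient.subsingleton_iff, Ideal.span_singleton_eq_top] at this
    exact hg i this
  · rw [IsFractionRing.finrank_eq R (FractionRing R) B L, ← ENat.coe_inj, ← hd, Nat.cast_sum]
    refine Finset.sum_congr rfl fun i _ => ?_
    rw [Nat.cast_mul, ENat.coe_toNat (hfin i), nsmul_eq_mul, mul_comm]

end GrothLib.Canon12
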