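import Groth.Agent.Lib.ArSurf29.Horizontal
import Groth.Agent.Lib.ArSurf29.Global
import Groth.Agent.Lib.Canon12.FinrankMultAlg

/-!
# The degree of a horizontal point through multiplicities of the closed fibre
-/

set_option autoImplicit false
set_option linter.all false
set_option backward.isDefEq.respectTransparency false

universe u

open CategoryTheory AlgebraicGeometry TopologicalSpace IsLocalRing

attribute [local instance] Curv2.resAlgebra

noncomputable section

namespace GrothLib.Canon12

open GrothLib.ArSurf29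
open GrothLib.CartierDescent (stalkIdeal stalkIdeal_eq stalkIdeal_eq_top_iff exists_stalk_generator
  exists_specializes_eq stalkIdeal_map_specializes)

section Gen

variable {Y : Scheme.{u}}

theorem eq_fromSpecStalk {x y : Y} (h : y ⤳ x) :
    y = Y.fromSpecStalk x ⟨(maximalIdeal (Y.presheaf.stalk y)).comap (Y.presheaf.stalkSpecializes h).hom, inferInstance⟩ := by
  obtain ⟨w, rfl⟩ : y ∈ Set.range (Y.fromSpecStalk x) := by rw [Scheme.range_fromSpecStalk]; exact h
  obtain ⟨y₂, h₂, hw, hy₂⟩ := exists_specializes_eq x w.asIdeal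
  subst hy₂
  exact congrArg (Y.fromSpecStalk x) (PrimeSpectrum.ext hw)

theorem eq_of_comap_eq {x y z : Y} (hy : y ⤳ x) (hz : z ⤳ x)
    (h : (maximalIdeal (Y.presheaf.stalk y)).comap (Y.presheaf.stalkSpecializes hy).hom =
      (maximalIdeal (Y.presheaf.stalk z)).comap (Y.presheaf.stalkSpecializes hz).hom) : y = z := by
  rw [eq_fromSpecStalk hy, eq_fromSpecStalk hz]
  exact congrArg (Y.fromSpecStalk x) (PrimeSpectrum.ext h)

/-- The residue field of a point in an open subscheme as the stalk at the generic point of a closed subscheme. -/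
theorem exists_residue_equiv {C D : Scheme.{u}} (i : C ⟶ Y) [IsOpenImmersion i] (P : C)
    (ι : D ⟶ Y) [IsClosedImmersion ι] (η : D) (hη : IsField (D.presheaf.stalk η)) (h : ι η = i P) :
    ∃ e : C.residueField P ≃+* D.presheaf.stalk η, ∀ s : Γ(Y, ⊤),
      e (C.residue P (C.presheaf.germ ⊤ P trivial (i.appTop s))) = D.presheaf.germ ⊤ η trivial (ι.appTop s) := by
  have hb1 : Function.Bijective (i.residueFieldMap P).hom := ConcreteCategory.bijective_of_isIso (i.residueFieldMap P)
  let e1 := RingEquiv.ofBijective _ hb1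
  let e2 : Y.residueField (i P) ≃+* Y.residueField (ι η) := (Y.residueFieldCongr h.symm).commRingCatIsoToRingEquiv
  have hb3 : Function.Bijective (ι.residueFieldMap η).hom := by
    refine ⟨RingHom.injective _, fun y => ?_⟩
    obtain ⟨a, rfl⟩ := D.residue_surjective η y
    obtain ⟨b, rfl⟩ := ι.stalkMap_surjective η a
    exact ⟨Y.residue (ι η) b, DFunLike.congr_fun (congrArg CommRingCat.Hom.hom (Scheme.residue_residueFieldMap ι η)) b⟩
  let e3 := RingEquiv.ofBijective _ hb3
  letI := hη.toField
  have hb4 : Function.Bijective (D.residue η).hom :=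
    ⟨(D.residue η).hom.injective, D.residue_surjective η⟩
  let e4 := RingEquiv.ofBijective _ hb4
  refine ⟨((e1.symm.trans e2).trans e3).trans e4.symm, fun s => ?_⟩
  have h1 : e1 (Y.residue (i P) (Y.presheaf.germ ⊤ (i P) trivial s)) =
      C.residue P (C.presheaf.germ ⊤ P trivial (i.appTop s)) := by
    show i.residueFieldMap P (Y.residue (i P) _) = _
    rw [show i.residueFieldMap P (Y.residue (i P) (Y.presheaf.germ ⊤ (i P) trivial s)) =
      C.residue P (i.stalkMap P (Y.presheaf.germ ⊤ (i P) trivial s)) from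
        DFunLike.congr_fun (congrArg CommRingCat.Hom.hom (Scheme.residue_residueFieldMap i P)) _]
    exact congrArg _ (Scheme.Hom.germ_stalkMap_apply i ⊤ P trivial s)
  have h2 : e2 (Y.residue (i P) (Y.presheaf.germ ⊤ (i P) trivial s)) =
      Y.residue (ι η) (Y.presheaf.germ ⊤ (ι η) trivial s) := by
    have key : ∀ (a b : Y) (hab : a = b), (Y.residueFieldCongr hab).hom (Y.residue a (Y.presheaf.germ ⊤ a trivial s)) =
        Y.residue b (Y.presheaf.germ ⊤ b trivial s) := by
      rintro a b rfl
      simp
    exact key _ _ h.symm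
  have h3 : e3 (Y.residue (ι η) (Y.presheaf.germ ⊤ (ι η) trivial s)) =
      e4 (D.presheaf.germ ⊤ η trivial (ι.appTop s)) := by
    show ι.residueFieldMap η (Y.residue (ι η) _) = D.residue η _
    rw [show ι.residueFieldMap η (Y.residue (ι η) (Y.presheaf.germ ⊤ (ι η) trivial s)) =
      D.residue η (ι.stalkMap η (Y.presheaf.germ ⊤ (ι η) trivial s)) from
        DFunLike.congr_fun (congrArg CommRingCat.Hom.hom (Scheme.residue_residueFieldMap ι η)) _]
    exact congrArg _ (Scheme.Hom.germ_stalkMap_apply ι ⊤ η trivial s)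
  rw [RingEquiv.trans_apply, RingEquiv.trans_apply, RingEquiv.trans_apply, ← h1, RingEquiv.symm_apply_apply,
    h2, h3, RingEquiv.symm_apply_apply]

end Gen

variable {R : Type u} [CommRing R] [IsDomain R] [IsDiscreteValuationRing R] {X : Over (Spec (CommRingCat.of R))}

theorem exists_associated_prod {A : Type u} [CommRing A] [IsDomain A] [UniqueFactorizationMonoid A] {ι : Type*}
    [Fintype ι] (g : ι → A) (a : A) (ha : a ≠ 0) (h : ∀ q : A, Prime q → q ∣ a → ∃ i, Associated q (g i)) :
    ∃ e : ι → ℕ, Associated (∏ i, g i ^ e i) a := by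
  classical
  revert ha h
  refine UniqueFactorizationMonoid.induction_on_prime a (fun ha _ => absurd rfl ha) ?_ ?_
  · intro x hx _ _
    refine ⟨0, ?_⟩
    simp only [Pi.zero_apply, pow_zero, Finset.prod_const_one]
    exact (associated_one_iff_isUnit.2 hx).symm
  · intro b q hb hq ih _ h
    obtain ⟨e, he⟩ := ih hb fun q' hq' hd => h q' hq' (dvd_mul_of_dvd_right hd _)
    obtain ⟨i, hi⟩ := h q hq (dvd_mul_right _ _)
    refine ⟨e + Pi.single i 1, ?_⟩
    simp only [Pi.add_apply, pow_add]
    have hs : ∏ x, g x ^ (Pi.single i 1 : ι → ℕ) x = g i := by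
      rw [Finset.prod_eq_single i (fun j _ hj => by rw [Pi.single_eq_of_ne hj, pow_zero])
        (fun hi' => absurd (Finset.mem_univ i) hi'), Pi.single_eq_same, pow_one]
    rw [Finset.prod_mul_distrib, hs, mul_comm q b]
    exact he.mul_mul hi.symm

theorem mult_eq_zero (hX : Models.IsRegularScheme X.left) (Γ : ArSurf.VertComp R X)
    (h : ¬ IsMaxPt (Models.genPtOf R X Γ)) : Models.mult R X Γ = 0 := by
  rw [Models.mult]
  by_contra hne
  have htop : Module.length (X.left.presheaf.stalk (Models.genPtOf R X Γ))
      (X.left.presheaf.stalk (Models.genPtOf R X Γ) ⧸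
        Ideal.map (Models.stalkHom R X (Models.genPtOf R X Γ)) (maximalIdeal R)) ≠ ⊤ := fun e => hne (by rw [e]; rfl)
  generalize hI : Ideal.map (Models.stalkHom R X (Models.genPtOf R X Γ)) (maximalIdeal R) = I at htop
  refine h ⟨genPt_mem_fibre Γ, fun y hy hyg => ?_⟩
  let P := (maximalIdeal (X.left.presheaf.stalk y)).comap (X.left.presheaf.stalkSpecializes hyg).hom
  have hIP : I ≤ P := by
    rw [← hI, ← st_fibre]
    refine Ideal.map_le_iff_le_comap.1 ?_
    rw [stalkIdeal_map_specializes]
    exact le_maximalIdeal fun e => (stalkIdeal_eq_top_iff _ _).1 e ((support_fibre (X := X)).ge hy)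
  have hfl := (Module.length_ne_top_iff).1 htop
  rw [isFiniteLength_iff_isNoetherian_isArtinian] at hfl
  haveI : IsArtinianRing (X.left.presheaf.stalk (Models.genPtOf R X Γ) ⧸ I) :=
    isArtinian_of_tower (X.left.presheaf.stalk (Models.genPtOf R X Γ)) hfl.2
  haveI : (P.map (Ideal.Quotient.mk I)).IsPrime :=
    Ideal.map_isPrime_of_surjective Ideal.Quotient.mk_surjective (by rwa [Ideal.mk_ker])
  have hm := IsArtinianRing.isMaximal_of_isPrime (P.map (Ideal.Quotient.mk I))
  have hP : P = maximalIdeal _ := eq_maximalIdeal (by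
    have := Ideal.comap_isMaximal_of_surjective (Ideal.Quotient.mk I) Ideal.Quotient.mk_surjective (K := P.map (Ideal.Quotient.mk I))
    rwa [Ideal.comap_map_of_surjective _ Ideal.Quotient.mk_surjective, ← RingHom.ker_eq_comap_bot, Ideal.mk_ker,
      sup_eq_left.2 hIP] at this)
  refine eq_of_comap_eq hyg (specializes_refl _) (hP.trans ?_)
  ext a
  simp

theorem finrank_residueField_eq_sum [HenselianLocalRing R] (hk : IsAlgClosed (ResidueField R))
    (C : Scheme.{u}) [C.Over (Spec (CommRingCat.of (FractionRing R)))] [IsIntegral X.left]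
    (hreg : ∀ y : X.left, IsRegularLocalRing (X.left.presheaf.stalk y)) [IsProper X.hom] [Flat X.hom]
    (iX : C ⟶ X.left)
    (hiX : IsPullback iX (C ↘ Spec (CommRingCat.of (FractionRing R))) X.hom (Spec.map (CommRingCat.ofHom (algebraMap R (FractionRing R)))))
    (x : X.left) (hx : IsClosed ({x} : Set X.left)) (hxs : x ∈ Models.specialFibreSet R X)
    {n : ℕ} (Γ : Fin n → ArSurf.VertComp R X)
    (hinj : Function.Injective fun i => Set.range ((Γ i).ι.base : (Γ i).curve.left → X.left))
    (hΓ : ∀ Z ∈ Models.fibreComponents R X,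
      x ∈ Z ↔ ∃ i, Set.range ((Γ i).ι.base : (Γ i).curve.left → X.left) = Z)
    (P : C) (hP : IsClosed ({P} : Set C))
    (hPx : closure ({iX.base P} : Set X.left) ∩ Models.specialFibreSet R X = {x}) :
    ∃ c : Fin n → ℕ, (∀ i, 1 ≤ c i) ∧
      Module.finrank (FractionRing R) (C.residueField P) = ∑ i, c i * Models.mult R X (Γ i) := by
  classical
  have hX : Models.IsRegularScheme X.left := hreg
  haveI : IsLocallyNoetherian X.left := LocallyOfFiniteType.isLocallyNoetherian X.hom
  haveI := isOpenImmersion_generic hiX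
  have hrangeg := range_generic hiX
  obtain ⟨π, hπ⟩ := IsDiscreteValuationRing.exists_irreducible R
  have hpF : iX P ∉ Models.specialFibreSet R X := by
    have : iX P ∈ Set.range iX.base := ⟨P, rfl⟩
    rw [hrangeg] at this
    exact this
  let D := (ptIdeal (iX P)).subscheme
  let ι := (ptIdeal (iX P)).subschemeι
  have hrange : Set.range ι = closure {iX P} := by
    rw [Scheme.IdealSheafData.range_subschemeι, support_ptIdeal]
  have hout : ∀ a ∈ closure ({iX P} : Set X.left), a = iX P ∨ a = x := fun a ha => by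
    by_cases haF : a ∈ Models.specialFibreSet R X
    · exact Or.inr (hPx.le ⟨ha, haF⟩)
    · obtain ⟨c, rfl⟩ : a ∈ Set.range iX.base := by rw [hrangeg]; exact haF
      left
      have : c ∈ closure ({P} : Set C) := by
        rw [iX.isOpenEmbedding.isInducing.closure_eq_preimage_closure_image, Set.image_singleton]
        exact ha
      rw [hP.closure_eq] at this
      rw [show c = P from this]
  haveI : Finite D := by
    have : (Set.range ι).Finite := (Set.toFinite ({iX P, x} : Set X.left)).subset fun a ha => by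
      rw [hrange] at ha
      exact hout a ha
    haveI := this.to_subtype
    exact Finite.of_injective (Set.rangeFactorization ι) fun a b e =>
      ι.isClosedEmbedding.injective (congrArg (fun t : Set.range ι => (t : X.left)) e)
  haveI : LocallyQuasiFinite (ι ≫ X.hom) :=
    LocallyQuasiFinite.of_finite_preimage_singleton _ fun _ => Set.toFinite _
  haveI : IsFinite (ι ≫ X.hom) := IsFinite.of_isProper_of_locallyQuasiFinite _
  haveI : IsAffine D := isAffine_of_isAffineHom (ι ≫ X.hom)
  obtain ⟨x', hx'⟩ : x ∈ Set.range ι := hrange.ge (hPx.ge rfl).1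
  subst hx'
  let η : D := genericPoint D
  have hη : ι η = iX P := by
    have := gpt_ptIdeal (iX P)
    exact this
  -- the rings
  let σ : R →+* D.presheaf.stalk x' := (ι.stalkMap x').hom.comp (Models.stalkHom R X (ι x'))
  letI algB : Algebra R (D.presheaf.stalk x') := σ.toAlgebra
  haveI hfinB : Module.Finite R (D.presheaf.stalk x') := by
    let φ : R →+* Γ(D, ⊤) := ((Scheme.ΓSpecIso (CommRingCat.of R)).inv ≫ (ι ≫ X.hom).appTop).hom
    have hφ : φ.Finite := RingHom.Finite.comp (ι ≫ X.hom).finite_appTop
      (RingHom.Finite.of_surjective _ (ConcreteCategory.bijective_of_isIso (Scheme.ΓSpecIso (CommRingCat.of R)).inv).2)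
    have hσ : σ = (D.presheaf.germ ⊤ x' trivial).hom.comp φ := RingHom.ext fun r =>
      Scheme.Hom.germ_stalkMap_apply ι ⊤ x' trivial _
    haveI : Nonempty (⊤ : D.Opens) := ⟨⟨x', trivial⟩⟩
    letI : Algebra R Γ(D, ⊤) := φ.toAlgebra
    haveI : Module.Finite R Γ(D, ⊤) := hφ
    haveI := SmoothConn.isLocalRing_of_integral_domain R Γ(D, ⊤)
    letI : Algebra Γ(D, ⊤) (D.presheaf.stalk x') := TopCat.Presheaf.algebra_section_stalk D.presheaf (⟨x', trivial⟩ : (⊤ : D.Opens))
    haveI := (isAffineOpen_top D).isLocalization_stalk ⟨x', trivial⟩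
    have hmax : ((isAffineOpen_top D).primeIdealOf ⟨x', trivial⟩).asIdeal = maximalIdeal Γ(D, ⊤) := by
      refine eq_maximalIdeal ?_
      exact (isAffineOpen_top D).primeIdealOf_isMaximal_of_isClosed _ (by
        rw [ι.isClosedEmbedding.isClosed_iff_image_isClosed, Set.image_singleton]
        exact hx)
    have hsurj : Function.Surjective (D.presheaf.germ ⊤ x' trivial) := fun z => by
      obtain ⟨a, s, rfl⟩ := IsLocalization.exists_mk'_eq ((isAffineOpen_top D).primeIdealOf ⟨x', trivial⟩).asIdeal.primeCompl z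
      have hs : IsUnit (s : Γ(D, ⊤)) := by
        by_contra hs
        exact s.2 (hmax.symm.le ((mem_maximalIdeal _).2 hs))
      refine ⟨a * hs.unit⁻¹, ?_⟩
      refine (IsLocalization.eq_mk'_iff_mul_eq).2 ?_
      show D.presheaf.germ ⊤ x' trivial (a * hs.unit⁻¹) * algebraMap _ _ (s : Γ(D, ⊤)) = algebraMap _ _ a
      show algebraMap Γ(D, ⊤) (D.presheaf.stalk x') (a * hs.unit⁻¹) * algebraMap _ _ (s : Γ(D, ⊤)) = algebraMap _ _ a
      rw [← map_mul, mul_assoc, IsUnit.val_inv_mul, mul_one]
    have hσf : σ.Finite := by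
      rw [hσ]
      exact RingHom.Finite.comp (RingHom.Finite.of_surjective _ hsurj) hφ
    exact hσf
  let L : Type u := D.functionField
  let τ : R →+* D.functionField := (algebraMap (D.presheaf.stalk x') D.functionField).comp σ
  letI algL : Algebra R D.functionField := τ.toAlgebra
  haveI : IsScalarTower R (D.presheaf.stalk x') D.functionField := IsScalarTower.of_algebraMap_eq' rfl
  obtain ⟨e, he⟩ := exists_residue_equiv iX P ι η
    (isField_stalk_of_closure_mem_irreducibleComponents D _ (by simp [irreducibleComponents_eq_singleton, η])) hη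
  let κ : FractionRing R →+* D.functionField := (e : C.residueField P →+* _).comp (algebraMap (FractionRing R) (C.residueField P))
  letI algKL : Algebra (FractionRing R) D.functionField := κ.toAlgebra
  have htower : ∀ r, κ (algebraMap R (FractionRing R) r) = τ r := fun r => by
    have hw : Coh.toGlobal (C ↘ Spec (CommRingCat.of (FractionRing R))) (algebraMap R (FractionRing R) r) =
        iX.appTop (Coh.toGlobal X.hom r) := by
      have h1 := congrArg (fun φ : C ⟶ Spec (CommRingCat.of R) => φ.appTop ((Scheme.ΓSpecIso (CommRingCat.of R)).inv r)) hiX.w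
      simp only [Scheme.Hom.comp_appTop] at h1
      refine Eq.trans ?_ h1.symm
      show (C ↘ _).appTop _ = (C ↘ _).appTop _
      exact congrArg _ (congrArg (fun φ => φ r) (congrArg CommRingCat.Hom.hom
        (Scheme.ΓSpecIso_inv_naturality (CommRingCat.ofHom (algebraMap R (FractionRing R))))))
    show e (C.residue P (C.presheaf.germ ⊤ P trivial (Coh.toGlobal (C ↘ _) (algebraMap R (FractionRing R) r)))) = _
    rw [hw, he]
    show _ = D.presheaf.stalkSpecializes (genericPoint_specializes x') (ι.stalkMap x' (X.left.presheaf.germ ⊤ (ι x') trivial (Coh.toGlobal X.hom r)))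
    rw [Scheme.Hom.germ_stalkMap_apply]
    exact (TopCat.Presheaf.germ_stalkSpecializes_apply D.presheaf _ (genericPoint_specializes x') _).symm
  haveI : IsScalarTower R (FractionRing R) D.functionField := IsScalarTower.of_algebraMap_eq fun r => (htower r).symm
  have hfin : Module.finrank (FractionRing R) (C.residueField P) = Module.finrank (FractionRing R) D.functionField :=
    (AlgEquiv.ofRingEquiv (f := e) fun _ => rfl).toLinearEquiv.finrank_eq
  have hinjB : Function.Injective (algebraMap R (D.presheaf.stalk x')) := fun a b h => by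
    refine IsFractionRing.injective R (FractionRing R) (κ.injective ?_)
    rw [htower, htower]
    exact congrArg (algebraMap (D.presheaf.stalk x') D.functionField) h
  -- the local ring of `X` at the point
  haveI := hX (ι x')
  haveI := CMFree.isDomain_of_isRegularLocalRing (X.left.presheaf.stalk (ι x'))
  haveI : UniqueFactorizationMonoid (X.left.presheaf.stalk (ι x')) := RegUFD.ufd_of_isRegularLocalRing _
  have hπ0 : Models.stalkHom R X (ι x') π ≠ 0 := fun h => hπ.ne_zero (hinjB (by
    rw [map_zero]
    show ι.stalkMap x' (Models.stalkHom R X (ι x') π) = 0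
    rw [h, map_zero]))
  let J := {i : Fin n // IsMaxPt (Models.genPtOf R X (Γ i))}
  have hcomp : ∀ z : X.left, IsMaxPt z → closure ({z} : Set X.left) ∈ Models.fibreComponents R X := fun z hz => by
    refine ⟨⟨isIrreducible_singleton.closure,
      closure_minimal (Set.singleton_subset_iff.2 hz.1) (Models.isClosed_specialFibreSet R X)⟩, fun S ⟨hS, hSsub⟩ hle => ?_⟩
    obtain ⟨w, hw⟩ := QuasiSober.sober hS.closure isClosed_closure
    have hwF : w ∈ Models.specialFibreSet R X :=
      closure_minimal hSsub (Models.isClosed_specialFibreSet R X) hw.mem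
    obtain rfl := hz.2 w hwF (hw.specializes (subset_closure (hle (subset_closure rfl))))
    exact subset_closure.trans hw.def.ge
  have hmaxc : ∀ j : J, IsMaxComp (Γ j.1) := fun j => by
    rw [IsMaxComp, range_eq_closure]
    exact hcomp _ j.2
  have hsp : ∀ j : J, Models.genPtOf R X (Γ j.1) ⤳ ι x' := fun j =>
    (mem_range_iff _).1 ((hΓ _ (hmaxc j)).2 ⟨j.1, rfl⟩)
  have hgj : ∀ j : J, ∃ g, stalkIdeal (Γ j.1).ι.ker (ι x') = Ideal.span {g} := fun j =>
    let ⟨g, _, hg⟩ := exists_stalk_generator (isEffCartier_ker (hmaxc j) hX) (ι x')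
    ⟨g, hg⟩
  choose g hg using hgj
  have hgu : ∀ j, ¬ IsUnit (g j) := fun j hu => by
    have := hg j
    rw [Ideal.span_singleton_eq_top.2 hu, stalkIdeal_eq_top_iff] at this
    exact this ((support_ker (Γ j.1)).ge ((mem_range_iff _).2 (hsp j)))
  have hprime : ∀ q : X.left.presheaf.stalk (ι x'), Prime q → q ∣ Models.stalkHom R X (ι x') π →
      ∃ j, Associated q (g j) := fun q hq hqd => by
    haveI : (Ideal.span {q}).IsPrime := (Ideal.span_singleton_prime hq.ne_zero).2 hq
    obtain ⟨y, hy, hPy, -⟩ := exists_specializes_eq (ι x') (Ideal.span {q})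
    have hmemF : ∀ z (hz : z ⤳ ι x'), Models.stalkHom R X (ι x') π ∈
        (maximalIdeal (X.left.presheaf.stalk z)).comap (X.left.presheaf.stalkSpecializes hz).hom →
        z ∈ Models.specialFibreSet R X := fun z hz hm => by
      rw [← support_fibre]
      by_contra hc
      have h2 := stalkIdeal_map_specializes (Models.specialFibreIdeal R X) hz
      rw [(stalkIdeal_eq_top_iff _ _).2 hc, st_fibre, hπ.maximalIdeal_eq, Ideal.map_span, Set.image_singleton] at h2
      have h3 := Ideal.map_mono (f := (X.left.presheaf.stalkSpecializes hz).hom) ((Ideal.span_singleton_le_iff_mem _).2 hm)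
      rw [h2] at h3
      exact (maximalIdeal.isMaximal _).ne_top (top_le_iff.1 (h3.trans Ideal.map_comap_le))
    have hmax : IsMaxPt y := by
      refine ⟨hmemF y hy (hPy ▸ Ideal.mem_span_singleton.2 hqd), fun z hzF hzy => ?_⟩
      refine eq_of_comap_eq (hzy.trans hy) hy ?_
      let P' := (maximalIdeal (X.left.presheaf.stalk z)).comap (X.left.presheaf.stalkSpecializes (hzy.trans hy)).hom
      have hle : P' ≤ Ideal.span {q} := hPy ▸ CartierDescent.comap_maximalIdeal_le hzy hy
      have hπP : Models.stalkHom R X (ι x') π ∈ P' := by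
        refine Ideal.mem_comap.2 ?_
        have h2 := stalkIdeal_map_specializes (Models.specialFibreIdeal R X) (hzy.trans hy)
        rw [st_fibre, hπ.maximalIdeal_eq, Ideal.map_span, Set.image_singleton, Ideal.map_span, Set.image_singleton] at h2
        refine le_maximalIdeal (fun e => (stalkIdeal_eq_top_iff _ _).1 (h2.symm.trans e) ((support_fibre (X := X)).ge hzF)) ?_
        exact Ideal.mem_span_singleton_self _
      have hne : P' ≠ ⊥ := fun h => by
        rw [h] at hπP
        exact hπ0 ((Submodule.mem_bot _).1 hπP)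
      obtain ⟨q', hq'P, hq'⟩ := Ideal.IsPrime.exists_mem_prime_of_ne_bot (inferInstance : P'.IsPrime) hne
      rw [← hPy]
      refine le_antisymm hle ?_
      rw [Ideal.span_singleton_le_iff_mem]
      have hdvd : q ∣ q' := Ideal.mem_span_singleton.1 (hle hq'P)
      obtain ⟨u, hu⟩ := (hq.associated_of_dvd hq' hdvd).symm
      rw [← hu]
      exact Ideal.mul_mem_right _ _ hq'P
    obtain ⟨i, hi⟩ := (hΓ _ (hcomp y hmax)).1 (specializes_iff_mem_closure.1 hy)
    rw [range_eq_closure] at hi
    have hyi : Models.genPtOf R X (Γ i) = y := (inseparable_iff_closure_eq.2 hi).eq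
    let j : J := ⟨i, hyi ▸ hmax⟩
    refine ⟨j, ?_⟩
    have h2 := stalkIdeal_map_specializes (Γ i).ι.ker (hsp j)
    rw [st_ker_genPt, hg j, Ideal.map_span, Set.image_singleton] at h2
    have hmem : g j ∈ Ideal.span {q} := by
      rw [hPy]
      subst hyi
      refine Ideal.mem_comap.2 ?_
      rw [← h2]
      exact Ideal.mem_span_singleton_self _
    have hgp : Prime (g j) := by
      have hI : IsIntegral (Γ i).curve.left := (Γ i).isIntegral
      haveI := (Γ i).isClosedImmersion
      obtain ⟨z, hz⟩ := (mem_range_iff (Γ i)).2 (hsp j)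
      haveI : (Ideal.span {g j}).IsPrime := by
        rw [← hg j, ← hz, ← ker_stalkMap_eq_stalkIdeal (Γ i).ι z]
        exact RingHom.ker_isPrime _
      refine (Ideal.span_singleton_prime fun h0 => ?_).1 inferInstance
      rw [h0, map_zero, Ideal.span_singleton_zero] at h2
      obtain ⟨hd1, hd2⟩ := isDVR_genPt (hmaxc j) hX
      exact IsDiscreteValuationRing.not_a_field (X.left.presheaf.stalk (Models.genPtOf R X (Γ j.1))) h2.symm
    exact hq.associated_of_dvd hgp (Ideal.mem_span_singleton.1 hmem)
  obtain ⟨a, ha⟩ := exists_associated_prod g _ hπ0 hprime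
  have hmult : ∀ j : J, Models.mult R X (Γ j.1) = a j := fun j => by
    obtain ⟨_, _⟩ := isDVR_genPt (hmaxc j) hX
    rw [mult_eq (hmaxc j) hX]
    refine oAt_eq_of_st_eq_pow ?_
    rw [← stalkIdeal_map_specializes (Models.specialFibreIdeal R X) (hsp j), st_fibre, hπ.maximalIdeal_eq,
      Ideal.map_span, Set.image_singleton, ← Ideal.span_singleton_eq_span_singleton.2 ha, ← Ideal.prod_span_singleton,
      ← Ideal.mapHom_apply, map_prod, Finset.prod_eq_single j]
    · rw [← Ideal.span_singleton_pow, map_pow, Ideal.mapHom_apply, ← hg j, stalkIdeal_map_specializes, st_ker_genPt]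
    · intro i _ hij
      rw [← Ideal.span_singleton_pow, map_pow, Ideal.mapHom_apply, ← hg i, stalkIdeal_map_specializes,
        (stalkIdeal_eq_top_iff _ _).2 fun h => hij ?_, Ideal.top_pow, Ideal.one_eq_top]
      have hm := (mem_range_iff (Γ i.1)).1 ((support_ker (Γ i.1)).le h)
      have e : Models.genPtOf R X (Γ i.1) = Models.genPtOf R X (Γ j.1) := j.2.2 _ (genPt_mem_fibre _) hm
      exact Subtype.ext (hinj (by simp only [range_eq_closure, e]))
    · exact fun h => absurd (Finset.mem_univ j) h
  obtain ⟨c, hc1, hc⟩ := exists_finrank_eq_sum R hk (D.presheaf.stalk x') hinjB hπ D.functionField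
    (fun j : J => a j) (fun j => hmult j ▸ mult_pos (hmaxc j) hX) (fun j => ι.stalkMap x' (g j))
    (fun j => fun hu => hgu j ((isUnit_map_iff (ι.stalkMap x').hom _).1 hu)) (by
      have := ha.map (ι.stalkMap x').hom
      simp only [map_prod, map_pow] at this
      exact this)
  refine ⟨fun i => if h : IsMaxPt (Models.genPtOf R X (Γ i)) then c ⟨i, h⟩ else 1, fun i => ?_, ?_⟩
  · simp only
    split_ifs with h
    · exact hc1 _
    · exact le_rfl
  · rw [hfin, hc, ← Finset.sum_filter_add_sum_filter_not Finset.univ (fun i => IsMaxPt (Models.genPtOf R X (Γ i))),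
      Finset.sum_eq_zero (s := Finset.univ.filter fun i => ¬ IsMaxPt (Models.genPtOf R X (Γ i))), add_zero,
      Finset.sum_subtype (p := fun i => IsMaxPt (Models.genPtOf R X (Γ i))) (h := fun i => by simp)]
    · refine Finset.sum_congr rfl fun j _ => ?_
      simp only
      rw [dif_pos j.2, hmult]
    · intro i hi
      rw [mult_eq_zero hX _ (Finset.mem_filter.1 hi).2, mul_zero]

end GrothLib.Canon12
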