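import Groth.Agent.Lib.Canon12.Exceptional
import Groth.Agent.Lib.Stein.Main
import Groth.Agent.Lib.Stein.FibrationBase
import Groth.Agent.Lib.FormalFun.Basic
import Groth.Agent.Lib.CurveMult.GenusZero

/-!
# A component of the closed fibre with negative canonical degree and self-intersection zero
-/

set_option autoImplicit false
set_option linter.all false
set_option backward.isDefEq.respectTransparency false
set_option maxHeartbeats 2000000

universe u

open CategoryTheory CategoryTheory.Limits AlgebraicGeometry TopologicalSpace Opposite IsLocalRing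

noncomputable section

namespace GrothLib.Canon12

open GrothLib.ArSurf29

/-- A line bundle of degree zero on a curve without higher cohomology has none either. -/
theorem subsingleton_H1_of_deg_zero (k : Type u) [Field k] {E : Scheme.{u}} [E.Over (Spec (CommRingCat.of k))]
    [IsIntegral E] [IsProper (E ↘ Spec (CommRingCat.of k))] (hd : topologicalKrullDim E = 1)
    (hg : Subsingleton (Coh.HH E (Coh.structureModule E) 1))
    (h0 : 0 < Module.finrank k (Coh.HH E (Coh.structureModule E) 0))
    {N : E.Modules} (hN : PicF.IsInvertible N) (hdeg : Curv2.deg k E N 1 = 0) : Subsingleton (Coh.HH E N 1) := by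
  haveI := Euler.isNoetherian_of_proper (X := E) k
  have hNc := Euler.isCoh_of_isInvertible hN
  haveI := hNc.1
  haveI := Cohom.isQuasicoherent_structureModule E
  haveI := hg
  have hpos : 0 < Curv2.euler k E N := by
    rw [Curv2.deg, Euler.euler_eq_sub k hd.le (Coh.structureModule E),
      (Module.finrank_zero_of_subsingleton : Module.finrank k (Coh.HH E (Coh.structureModule E) 1) = 0)] at hdeg
    push_cast at *
    omega
  obtain ⟨u₀, hu⟩ := Euler.exists_ne_zero_section (Euler.nontrivial_H0_of_euler_pos k hd.le hNc hpos)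
  haveI : Mono (FinCov.homOfSection u₀) := Euler.mono_homOfSection hN hu
  have hQ := QCoh.isCoh_cokernel (FinCov.homOfSection u₀) (Euler.isCoh_of_isInvertible Euler.isInvertible_structure) hNc
  obtain ⟨hfin, hcl⟩ := Euler.finite_support_of_notMem_genericPoint k hd.le hQ
    (QCoh.notMem_support_cokernel_of_surjective _ (Euler.stalkLin_homOfSection_genericPoint hN hu).2)
  let S := ShortComplex.mk (FinCov.homOfSection u₀) (cokernel.π _) (cokernel.condition _)
  have hS : S.ShortExact := { exact := ShortComplex.exact_of_g_is_cokernel _ (cokernelIsCokernel _) }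
  refine subsingleton_of_forall_eq 0 fun y => ?_
  obtain ⟨z, hz⟩ := (Cohom.exact₂ (A := k) hS 1 y).1
    (@Subsingleton.elim _ (Euler.subsingleton_HH_of_finite_support (X := E) S.X₃ hfin hcl 1 le_rfl) _ _)
  rw [← hz, @Subsingleton.elim _ hg z 0, map_zero]

variable {R : Type u} [CommRing R] [IsDomain R] [IsDiscreteValuationRing R] {X : Over (Spec (CommRingCat.of R))}
  [IsProper X.hom] [IsLocallyNoetherian X.left]

/-- The multiples of a curve of genus zero with self-intersection zero have no higher cohomology. -/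
theorem subsingleton_H1_quotMod_pow (E : ArSurf.VertComp R X) (hE : _root_.BlowUp.IsEffCartierIdeal E.ι.ker)
    {L : X.left.Modules} (hL : ClSub.IsInverseOf L (ClSub.idealMod E.ι.ker))
    (h1 : Models.h1 R X E = 0) (h0 : ArSurf.inter R X L E = 0) (a : ℕ) :
    Subsingleton (Coh.HH X.left (ClSub.quotMod (E.ι.ker ^ (a + 1))) 1) := by
  letI : X.left.Over (Spec (CommRingCat.of R)) := ⟨X.hom⟩
  letI : E.curve.left.Over (Spec (CommRingCat.of R)) := ⟨E.ι ≫ X.hom⟩
  haveI := isProper_curve E
  haveI := Euler.isNoetherian_of_proper (X := E.curve.left) (ResidueField R)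
  have hI := IdealModSec.isInvertible_of_isEffCartier hE
  have hg : Subsingleton (Coh.HH E.curve.left (Coh.structureModule E.curve.left) 1) := by
    haveI : Module.Finite (ResidueField R) (Coh.HH E.curve.left (Coh.structureModule E.curve.left) 1) :=
      Euler.finiteDimensional_HH _ (HomSh.isCoh_structureModule E.curve.left) 1
    exact Module.finrank_zero_iff.1 h1
  have push : ∀ (N : E.curve.left.Modules) (hN : PicF.IsInvertible N),
      Curv2.deg (ResidueField R) E.curve.left N 1 = 0 →
      Subsingleton (Coh.HH X.left ((Scheme.Modules.pushforward E.ι).obj N) 1) := by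
    intro N hN hd
    haveI := (Euler.isCoh_of_isInvertible hN).1
    haveI := subsingleton_H1_of_deg_zero (ResidueField R) E.dim_eq hg (wdeg_pos E) hN hd
    obtain ⟨e⟩ := Snapper.nonempty_HH_linearEquiv_pushforward (A := R) (S := X.left) E.ι rfl N 1
    exact e.symm.toEquiv.subsingleton
  have hdegI : Curv2.deg (ResidueField R) E.curve.left ((Scheme.Modules.pullback E.ι).obj (ClSub.idealMod E.ι.ker)) 1 = 0 := by
    rw [deg_pullback_ideal E hE hL, h0, neg_zero]
  have hpow : ∀ b : ℕ, PicF.IsInvertible (ClSub.idealMod (E.ι.ker ^ b)) ∧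
      Curv2.deg (ResidueField R) E.curve.left ((Scheme.Modules.pullback E.ι).obj (ClSub.idealMod (E.ι.ker ^ b))) 1 = 0 := by
    intro b
    induction b with
    | zero =>
      have hi : PicF.IsInvertible (ClSub.idealMod (E.ι.ker ^ 0)) := by
        rw [pow_zero, Scheme.IdealSheafData.one_eq_top]
        exact IdealModSec.isInvertible_of_isEffCartier GrothLib.BlowUp.isEffCartierIdeal_top
      refine ⟨hi, ?_⟩
      haveI : IsIso (ClSub.idealModι (E.ι.ker ^ 0)) := by
        rw [pow_zero, Scheme.IdealSheafData.one_eq_top]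
        refine (OX.isIso_iff _).2 fun x => (ConcreteCategory.isIso_iff_bijective _).2 ⟨?_, fun w => ?_⟩
        · haveI : Mono (ClSub.idealModι (⊤ : X.left.IdealSheafData)) := inferInstanceAs (Mono (kernel.ι _))
          exact QCoh.stalkLin_injective _ x
        · obtain ⟨v, hv⟩ : w ∈ LinearMap.range (QCoh.stalkLin (ClSub.idealModι (⊤ : X.left.IdealSheafData)) x) := by
            rw [HodgeIndex.range_idealModι, Goodman.st_top]
            exact ⟨_, trivial, (HomSh.unitStalk x).apply_symm_apply w⟩
          exact ⟨v, hv⟩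
      obtain ⟨one⟩ := Ample.nonempty_pullback_structureModule E.ι
      rw [Euler.deg_of_iso (ResidueField R) ((Scheme.Modules.pullback E.ι).mapIso (asIso (ClSub.idealModι (E.ι.ker ^ 0))) ≪≫ one) 1,
        Curv2.deg]
      simp
    | succ b ih =>
      obtain ⟨e, -⟩ := exists_iso_mul (E.ι.ker ^ b) E.ι.ker ih.1 hI
      rw [pow_succ]
      refine ⟨RelProjK.isInvertible_of_iso e.symm (Ample.isInvertible_tensorMod ih.1 hI), ?_⟩
      refine (Euler.deg_of_iso (ResidueField R) ((OX.pullTensorIso E.ι _ _).symm ≪≫ (Scheme.Modules.pullback E.ι).mapIso e) 1).symm.trans ?_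
      show Curv2.deg _ _ (CohB1.tensorMod _ _) 1 = 0
      rw [CurveMult.deg_tensorMod _ E.dim_eq.le (Kleiman.isInv_pullback E.ι ih.1) (Kleiman.isInv_pullback E.ι hI),
        ih.2, hdegI, add_zero]
  induction a with
  | zero =>
    rw [zero_add, pow_one]
    haveI := push _ Euler.isInvertible_structure (by rw [Curv2.deg]; simp)
    exact (Euler.hhEquiv (A := R) (pushUnitIsoQuot E.ι) 1).symm.toEquiv.subsingleton
  | succ a ih =>
    obtain ⟨hD, hdeg⟩ := hpow (a + 1)
    obtain ⟨S, hS, ⟨a₁⟩, ⟨a₂⟩, ⟨a₃⟩⟩ := exists_shortExact_mul (E.ι.ker ^ (a + 1)) E.ι.ker hD hI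
    have hlf := Euler.isFinLocFree_of_isInvertible hD
    haveI := ProjFormula.isIso_projHom E.ι hlf (Coh.structureModule E.curve.left)
    let c₁ : S.X₁ ≅ (Scheme.Modules.pushforward E.ι).obj
        ((Scheme.Modules.pullback E.ι).obj (ClSub.idealMod (E.ι.ker ^ (a + 1)))) :=
      a₁ ≪≫ ((DCoh.tensorBi (X := X.left)).obj (ClSub.idealMod (E.ι.ker ^ (a + 1)))).mapIso (pushUnitIsoQuot E.ι).symm ≪≫
        asIso (ProjFormula.projHom E.ι (ClSub.idealMod (E.ι.ker ^ (a + 1))) (Coh.structureModule E.curve.left)) ≪≫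
        (Scheme.Modules.pushforward E.ι).mapIso (Euler.tFUnitIso _)
    haveI := push _ (Kleiman.isInv_pullback E.ι hD) hdeg
    haveI s1 : Subsingleton (Coh.HH X.left S.X₁ 1) := (Euler.hhEquiv (A := R) c₁ 1).toEquiv.subsingleton
    haveI := ih
    haveI s3 : Subsingleton (Coh.HH X.left S.X₃ 1) := (Euler.hhEquiv (A := R) a₃ 1).toEquiv.subsingleton
    haveI s2 : Subsingleton (Coh.HH X.left S.X₂ 1) := subsingleton_of_forall_eq 0 fun y => by
      obtain ⟨z, hz⟩ := (Cohom.exact₂ (A := R) hS 1 y).1 (Subsingleton.elim _ _)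
      rw [← hz, Subsingleton.elim z 0, map_zero]
    rw [pow_succ]
    exact (Euler.hhEquiv (A := R) a₂ 1).symm.toEquiv.subsingleton

/-- Multiplication by a function which sends `D` into `F` factors through `O_D`. -/
theorem comp_eq_zero {Y : Scheme.{u}} (D F : Y.IdealSheafData) (c : Γ(Y, ⊤))
    (h : ∀ (V : Y.affineOpens) (s : Γ(Y, V.1)), s ∈ D.ideal V →
      Y.presheaf.map (homOfLE (le_top : V.1 ≤ ⊤)).op c * s ∈ F.ideal V) :
    ClSub.idealModι D ≫ Formal.smulModΓ (Coh.structureModule Y) c ≫ ClSub.toSubscheme F = 0 := by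
  refine Scheme.Modules.hom_ext _ _ fun U => AddCommGrpCat.ext fun s => ?_
  refine QCoh.section_eq_zero_of_germ (ClSub.quotMod F) _ fun x hx => ?_
  obtain ⟨V, hxV, hVU⟩ := GrothLib.BlowUp.exists_affine_mem_le (W := U) (x := x) hx
  have hs : (ClSub.idealModι D).app V.1 ((ClSub.idealMod D).presheaf.map (homOfLE hVU).op s) ∈ D.ideal V := by
    rw [← D.ker_subschemeι_app V]
    show (ClSub.toSubscheme D).app V.1 ((ClSub.idealModι D).app V.1 _) = 0
    rw [← CategoryTheory.comp_apply, ← Scheme.Modules.Hom.comp_app,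
      show ClSub.idealModι D ≫ ClSub.toSubscheme D = 0 from kernel.condition _]
    rfl
  have h2 := h V _ hs
  rw [← F.ker_subschemeι_app V] at h2
  rw [← TopCat.Presheaf.germ_res_apply (ClSub.quotMod F).presheaf (homOfLE hVU) x hxV]
  have hn := NatTrans.naturality_apply
    (ClSub.idealModι D ≫ Formal.smulModΓ (Coh.structureModule Y) c ≫ ClSub.toSubscheme F).mapPresheaf (homOfLE hVU).op s
  refine (congrArg _ (hn.symm.trans ?_)).trans (map_zero _)
  exact h2

variable [Flat X.hom]

/-- If `E` is an isolated component of genus zero, the first cohomology of the surface is torsion. -/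
theorem finrank_H1_eq_zero (hX : Models.IsRegularScheme X.left) [IsIntegral X.left]
    {n : ℕ} {Γ : Fin n → ArSurf.VertComp R X} (hΓ : Models.IsComponentList R X Γ) (e : Fin n)
    {L : X.left.Modules} (hL : ClSub.IsInverseOf L (ClSub.idealMod (Γ e).ι.ker))
    (h1 : Models.h1 R X (Γ e) = 0) (h0 : ArSurf.inter R X L (Γ e) = 0)
    (hdisj : ∀ j, j ≠ e → Disjoint (Set.range (Γ e).ι.base) (Set.range (Γ j).ι.base)) :
    letI : X.left.Over (Spec (CommRingCat.of R)) := ⟨X.hom⟩
    Module.finrank R (Coh.HH X.left (Coh.structureModule X.left) 1) = 0 := by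
  classical
  letI : X.left.Over (Spec (CommRingCat.of R)) := ⟨X.hom⟩
  haveI : IsProper (X.left ↘ Spec (CommRingCat.of R)) := inferInstanceAs (IsProper X.hom)
  haveI : IsLocallyNoetherian (Spec (CommRingCat.of R)) := inferInstance
  let y : Spec (CommRingCat.of R) := closedPoint R
  let T : Set X.left := Set.range (Γ e).ι.base
  let T' : Set X.left := ⋃ j ∈ ({e}ᶜ : Set (Fin n)), Set.range (Γ j).ι.base
  have hT : IsClosed T := (Γ e).ι.isClosedEmbedding.isClosed_range
  have hT' : IsClosed T' := Set.toFinite _ |>.isClosed_biUnion fun j _ => (Γ j).ι.isClosedEmbedding.isClosed_range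
  have hrange : Set.range (X.hom.fiberι y) = Models.specialFibreSet R X := X.hom.range_fiberι y
  have hcompl : (X.hom.fiberι y ⁻¹' T')ᶜ = X.hom.fiberι y ⁻¹' T := by
    ext z
    obtain ⟨i, hi⟩ := exists_mem_range hΓ (hrange.le ⟨z, rfl⟩)
    simp only [Set.mem_compl_iff, Set.mem_preimage, T', Set.mem_iUnion₂]
    constructor
    · intro h
      by_cases hie : i = e
      · subst hie; exact hi
      · exact absurd ⟨i, hie, hi⟩ h
    · rintro h ⟨j, hj, hj'⟩
      exact Set.disjoint_left.1 (hdisj j hj) h hj'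
  have hS : IsClopen (X.hom.fiberι y ⁻¹' T') :=
    ⟨hT'.preimage (X.hom.fiberι y).continuous,
      isClosed_compl_iff.1 (hcompl ▸ hT.preimage (X.hom.fiberι y).continuous)⟩
  obtain ⟨V, hV, hyV, b₀, hb₀⟩ := GrothLib.Stein.exists_separating_points X.hom y _ hS
  have hVtop : V = ⊤ := by
    refine le_antisymm le_top fun p _ => ?_
    exact (show p ⤳ y from PrimeSpectrum.le_iff_specializes _ _ |>.1 (IsLocalRing.le_maximalIdeal p.2.ne_top)).mem_open V.2 hyV
  subst hVtop
  let b : Γ(X.left, ⊤) := b₀
  have hb : ∀ x : X.left, x ∈ Models.specialFibreSet R X →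
      (x ∈ T' → x ∉ X.left.basicOpen b) ∧ (x ∈ T → x ∈ X.left.basicOpen b) := by
    intro x hx
    obtain ⟨z, rfl⟩ := hrange.ge hx
    refine ⟨fun h => (X.left.evaluation_eq_zero_iff_notMem_basicOpen _ _ _).1 ((hb₀ z trivial).1 h), fun h => ?_⟩
    refine (X.left.evaluation_ne_zero_iff_mem_basicOpen (X.hom.fiberι y z) (show _ ∈ (⊤ : X.left.Opens) from trivial) b).1 ?_
    rw [show X.left.evaluation ⊤ (X.hom.fiberι y z) trivial b = 1 from (hb₀ z trivial).2 (hcompl.ge h)]
    exact one_ne_zero
  have hvan : ∀ j, j ≠ e → (Γ j).ι.appTop b = 0 := by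
    intro j hj
    refine eq_zero_of_basicOpen_eq_bot _ (le_bot_iff.1 fun z hz => ?_)
    rw [← Scheme.preimage_basicOpen_top] at hz
    exact ((hb _ (range_subset_fibre _ ⟨z, rfl⟩)).1 (Set.mem_biUnion (x := j) hj ⟨z, rfl⟩) hz).elim
  -- `b` to a power sends the multiples of `E` into the closed fibre
  let m : Fin n → ℕ := fun j => Models.mult R X (Γ j)
  let N := ∑ j ∈ Finset.univ.erase e, m j
  let c : Γ(X.left, ⊤) := b ^ N
  have hm : 0 < m e := mult_pos (isMaxComp hΓ e) hX
  let D := (Γ e).ι.ker ^ m e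
  let F := Models.specialFibreIdeal R X
  have hkey : ∀ (V : X.left.affineOpens) (s : Γ(X.left, V.1)), s ∈ D.ideal V →
      X.left.presheaf.map (homOfLE (le_top : V.1 ≤ ⊤)).op c * s ∈ F.ideal V := by
    intro V s hs
    have hF : F = ∏ j, (Γ j).ι.ker ^ m j := fibre_eq_prod hΓ hX
    rw [hF, ← Finset.mul_prod_erase _ _ (Finset.mem_univ e), Scheme.IdealSheafData.ideal_mul, Pi.mul_apply, mul_comm _ s]
    refine Ideal.mul_mem_mul hs ?_
    have h : ∀ (S : Finset (Fin n)), e ∉ S →
        (X.left.presheaf.map (homOfLE (le_top : V.1 ≤ ⊤)).op b) ^ (∑ j ∈ S, m j) ∈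
          (∏ j ∈ S, (Γ j).ι.ker ^ m j).ideal V := by
      intro S
      induction S using Finset.induction_on with
      | empty =>
        intro _
        rw [Finset.prod_empty, Scheme.IdealSheafData.one_eq_top, Scheme.IdealSheafData.ideal_top]
        exact Submodule.mem_top
      | insert j S hjS ih =>
        intro he
        rw [Finset.mem_insert, not_or] at he
        rw [Finset.sum_insert hjS, pow_add, Finset.prod_insert hjS, Scheme.IdealSheafData.ideal_mul, Pi.mul_apply]
        refine Ideal.mul_mem_mul ?_ (ih he.2)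
        rw [Scheme.IdealSheafData.ideal_pow, Pi.pow_apply]
        refine Ideal.pow_mem_pow ?_ _
        rw [Scheme.Hom.ker_apply]
        show (Γ j).ι.app V.1 (X.left.presheaf.map _ b) = 0
        rw [← CommRingCat.comp_apply, (Γ j).ι.naturality, CommRingCat.comp_apply,
          show (Γ j).ι.app ⊤ b = 0 from hvan j (Ne.symm he.1), map_zero]
    have := h (Finset.univ.erase e) (Finset.notMem_erase e _)
    rwa [← map_pow] at this
  -- `c` acts on `H¹` with image in `π`
  obtain ⟨π, hπ⟩ := IsDiscreteValuationRing.exists_irreducible R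
  haveI : Flat (X.left ↘ Spec (CommRingCat.of R)) := inferInstanceAs (Flat X.hom)
  obtain ⟨hz, hSE⟩ := CohFlat0.exists_shortExact R (X := X.left) hπ.maximalIdeal_eq
    (mem_nonZeroDivisors_of_ne_zero hπ.ne_zero)
  let O := Coh.structureModule X.left
  let M := Coh.HH X.left O 1
  haveI : Epi (ClSub.toSubscheme D) := Euler.epi_toSubscheme D
  let ψ := (shortExact_ideal D).gIsCokernel.desc
    (CokernelCofork.ofπ (Formal.smulModΓ O c ≫ ClSub.toSubscheme F) (comp_eq_zero D F c hkey))
  have hψ : ClSub.toSubscheme D ≫ ψ = Formal.smulModΓ O c ≫ ClSub.toSubscheme F :=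
    (shortExact_ideal D).gIsCokernel.fac _ WalkingParallelPair.one
  haveI : Subsingleton (Coh.HH X.left (ClSub.quotMod D) 1) := by
    have h := subsingleton_H1_quotMod_pow (Γ e) (isEffCartier_ker (isMaxComp hΓ e) hX) hL h1 h0 (m e - 1)
    rwa [Nat.sub_add_cancel hm] at h
  let f : M →ₗ[R] M := Cohom.hhMap R (Formal.smulModΓ O c) 1
  have hrange : LinearMap.range f ≤ maximalIdeal R • (⊤ : Submodule R M) := by
    rintro _ ⟨x, rfl⟩
    have h : Cohom.hhMap R (ClSub.toSubscheme F) 1 (f x) = 0 := by
      show Cohom.hhMap R (ClSub.toSubscheme F) 1 (Cohom.hhMap R (Formal.smulModΓ O c) 1 x) = 0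
      rw [← Euler.hhMap_comp (A := R), ← hψ, Euler.hhMap_comp (A := R),
        Subsingleton.elim (Cohom.hhMap R (ClSub.toSubscheme D) 1 x) 0, map_zero]
    obtain ⟨w, hw⟩ := (Cohom.exact₂ (A := R) hSE 1 (f x)).1 h
    rw [← hw, show Cohom.hhMap R (Formal.smulMod R O π) 1 w = π • w from FormalFun.hhMap_smulMod π 1 w]
    exact Submodule.smul_mem_smul (hπ.maximalIdeal_eq ▸ Ideal.mem_span_singleton_self π) trivial
  haveI : Module.Finite R M := ProjCoh.moduleFinite_HH R O (HomSh.isCoh_structureModule X.left) 1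
  obtain ⟨p, hp, -, hpI, hpf⟩ :=
    LinearMap.exists_monic_and_natDegree_eq_and_coeff_mem_pow_and_aeval_eq_zero R f (maximalIdeal R) hrange
  -- the corresponding function
  let A := Coh.Γtop X.left
  letI algA : Algebra R Γ(X.left, ⊤) := (Coh.toGlobal X.hom).toAlgebra
  let z : Γ(X.left, ⊤) := Polynomial.aeval c p
  let act : Γ(X.left, ⊤) →+* Module.End R M :=
    { toFun := fun r =>
        { toFun := fun v => Cohom.hhMap R (Formal.smulModΓ O r) 1 v
          map_add' := map_add _
          map_smul' := map_smul _ }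
      map_one' := LinearMap.ext fun v => one_smul (Coh.Γtop X.left) v
      map_mul' := fun r s => LinearMap.ext fun v => mul_smul (show Coh.Γtop X.left from r) s v
      map_zero' := LinearMap.ext fun v => zero_smul (Coh.Γtop X.left) v
      map_add' := fun r s => LinearMap.ext fun v => add_smul (show Coh.Γtop X.left from r) s v }
  let actA : Γ(X.left, ⊤) →ₐ[R] Module.End R M :=
    { act with commutes' := fun r => LinearMap.ext fun v => FormalFun.hhMap_smulMod r 1 v }
  have hz0 : ∀ v : M, actA z v = 0 := fun v => by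
    show actA (Polynomial.aeval c p) v = 0
    rw [← Polynomial.aeval_algHom_apply, show actA c = f from LinearMap.ext fun _ => rfl, hpf]
    rfl
  -- `z` is invertible on `E`
  have hzne : z ≠ 0 := by
    intro h
    let φ : Γ(X.left, ⊤) →+* Γ((Γ e).curve.left, ⊤) := (Γ e).ι.appTop.hom
    have hπ0 : ∀ r ∈ maximalIdeal R, φ (algebraMap R Γ(X.left, ⊤) r) = 0 := by
      intro r hr
      show (Γ e).ι.appTop (X.hom.appTop ((Scheme.ΓSpecIso (CommRingCat.of R)).inv r)) = 0
      rw [← CommRingCat.comp_apply X.hom.appTop, ← Scheme.Hom.comp_appTop, (Γ e).w, Scheme.Hom.comp_appTop,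
        CommRingCat.comp_apply, ← CommRingCat.comp_apply (Scheme.ΓSpecIso (CommRingCat.of R)).inv,
        ← Scheme.ΓSpecIso_inv_naturality, CommRingCat.comp_apply,
        show (CommRingCat.ofHom (residue R)).hom r = 0 from (residue_eq_zero_iff r).2 hr, map_zero, map_zero]
    have h' := congrArg φ h
    rw [map_zero] at h'
    rw [show z = _ from Polynomial.aeval_eq_sum_range c, map_sum, Finset.sum_range_succ,
      Finset.sum_eq_zero (fun i hi => by
        rw [Finset.mem_range] at hi
        rw [Algebra.smul_def, map_mul, hπ0 _ (Ideal.pow_le_self (by omega) (hpI i)), zero_mul]),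
      zero_add, Polynomial.coeff_natDegree, hp.leadingCoeff, one_smul, map_pow] at h'
    have hbe : (Γ e).ι.appTop b = 0 := by
      have h'' : φ b ^ (N * p.natDegree) = 0 := by rw [pow_mul, ← map_pow]; exact h'
      exact IsReduced.eq_zero _ ⟨_, h''⟩
    have hgen := (hb _ (genPt_mem_fibre (Γ e))).2 ⟨genericPoint (Γ e).curve.left, rfl⟩
    have : genericPoint (Γ e).curve.left ∈ (Γ e).ι ⁻¹ᵁ X.left.basicOpen b := hgen
    rw [Scheme.preimage_basicOpen_top, hbe, Scheme.basicOpen_zero] at this
    exact this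
  haveI : Module.Finite R Γ(X.left, ⊤) := GrothLib.Stein.moduleFinite_global X.hom
  obtain ⟨r, hr0, w, hw⟩ := (Algebra.IsAlgebraic.isAlgebraic (R := R) z).exists_nonzero_dvd
    (mem_nonZeroDivisors_of_ne_zero hzne)
  refine Module.finrank_eq_zero_iff_isTorsion.2 fun {v} => ⟨⟨r, mem_nonZeroDivisors_of_ne_zero hr0⟩, ?_⟩
  show r • v = 0
  rw [← show actA (algebraMap R Γ(X.left, ⊤) r) v = r • v from congrArg (fun g : Module.End R M => g v) (actA.commutes r),
    hw, map_mul, Module.End.mul_apply, hz0]

end GrothLib.Canon12
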