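import Groth.Agent.Lib.Canon12.IsolatedComp
import Groth.Agent.Lib.Canon12.VertDivisor

/-!
# Components with negative canonical degree on a surface of positive genus
-/

set_option autoImplicit false
set_option linter.all false
set_option backward.isDefEq.respectTransparency false
set_option maxHeartbeats 1000000

universe u

open CategoryTheory CategoryTheory.Limits AlgebraicGeometry TopologicalSpace IsLocalRing

noncomputable section

namespace GrothLib.Canon12

open GrothLib.ArSurf29

variable {R : Type u} [CommRing R] [IsDomain R] [IsDiscreteValuationRing R] {X : Over (Spec (CommRingCat.of R))}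

theorem selfInter_neg (hX : ArSurf.IsArithSurface R X)
    (hg : FGA.eulerCharLE (FractionRing R) ((Neron.genericFibre R).obj X).left
      (Coh.structureModule ((Neron.genericFibre R).obj X).left) 1 ≤ 0)
    (E : ArSurf.VertComp R X) (L : X.left.Modules) (hL : ClSub.IsInverseOf L (ClSub.idealMod E.ι.ker))
    (ω : X.left.Modules) (hω : Canon.IsCanonical X.hom ω) (hK : ArSurf.inter R X ω E < 0) :
    ArSurf.inter R X L E < 0 := by
  classical
  haveI := hX.2.1
  haveI := hX.2.2.2.1
  haveI := isProper_of_isArithSurface hX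
  haveI := isLocallyNoetherian_of_isArithSurface hX
  obtain ⟨n, Γ, L', c, hΓ, hL', hc, hΓc, hLc⟩ := exists_componentList_extending hX (fun _ : Fin 1 => E)
    (fun i j _ => Subsingleton.elim i j) (fun _ => L) (fun _ => hL)
  let e := c 0
  have hΓe : Γ e = E := hΓc 0
  by_contra hcon
  push Not at hcon
  have hsum := sum_mult_inter hX.1 hΓ hL' e
  rw [← Finset.add_sum_erase _ _ (Finset.mem_univ e)] at hsum
  have hm : (0 : ℤ) < Models.mult R X (Γ e) := by exact_mod_cast mult_pos (isMaxComp hΓ e) hX.1
  have hee : ArSurf.inter R X (L' e) (Γ e) = ArSurf.inter R X L E := by rw [hΓe, show L' e = L from hLc 0]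
  have hnn : ∀ j ∈ Finset.univ.erase e, 0 ≤ (Models.mult R X (Γ j) : ℤ) * ArSurf.inter R X (L' j) (Γ e) := fun j hj =>
    mul_nonneg (Int.natCast_nonneg _) (inter_nonneg_of_ne hX.1 hΓ hL' (Finset.ne_of_mem_erase hj).symm).1
  have h2 := Finset.sum_nonneg hnn
  have h3 : (0 : ℤ) ≤ (Models.mult R X (Γ e) : ℤ) * ArSurf.inter R X (L' e) (Γ e) := mul_nonneg hm.le (hee ▸ hcon)
  have hzero : ∑ j ∈ Finset.univ.erase e, (Models.mult R X (Γ j) : ℤ) * ArSurf.inter R X (L' j) (Γ e) = 0 := by linarith
  have hEE : ArSurf.inter R X (L' e) (Γ e) = 0 :=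
    (mul_eq_zero.1 (by linarith : (Models.mult R X (Γ e) : ℤ) * ArSurf.inter R X (L' e) (Γ e) = 0)).resolve_left hm.ne'
  have hdisj : ∀ j, j ≠ e → Disjoint (Set.range (Γ e).ι.base) (Set.range (Γ j).ι.base) := fun j hj => by
    have h := (Finset.sum_eq_zero_iff_of_nonneg hnn).1 hzero j (Finset.mem_erase.2 ⟨hj, Finset.mem_univ j⟩)
    have hmj : (0 : ℤ) < Models.mult R X (Γ j) := by exact_mod_cast mult_pos (isMaxComp hΓ j) hX.1
    exact (inter_nonneg_of_ne hX.1 hΓ hL' hj.symm).2.1 ((mul_eq_zero.1 h).resolve_left hmj.ne')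
  -- the genus of `E` is zero
  have hadj := selfInter_add_canonical_inter hX (Γ e) (L' e) (hL' e) ω hω
  rw [hEE, zero_add, show ArSurf.inter R X ω (Γ e) = ArSurf.inter R X ω E by rw [hΓe]] at hadj
  simp only [FGA.eulerCharLE, Finset.sum_range_succ, Finset.sum_range_zero, pow_zero, pow_one] at hadj
  have h1 : Models.h1 R X (Γ e) = 0 := by
    by_contra h
    have hle := Nat.le_of_dvd (Nat.pos_of_ne_zero h) (wdeg_dvd_h1 (Γ e))
    rw [Models.wdeg, Models.h1] at hle
    omega
  have hH1 := finrank_H1_eq_zero hX.1 hΓ e (hL' e) h1 hEE hdisj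
  -- hence the generic fibre has positive `χ`
  letI : X.left.Over (Spec (CommRingCat.of R)) := ⟨X.hom⟩
  let C := (Neron.genericFibre R).obj X
  letI : C.left.Over (Spec (CommRingCat.of (FractionRing R))) := ⟨C.hom⟩
  haveI : IsProper (C.left ↘ Spec (CommRingCat.of (FractionRing R))) :=
    inferInstanceAs (IsProper (pullback.snd X.hom (Neron.genPt R)))
  have hsq : IsPullback (pullback.fst X.hom (Neron.genPt R)) C.hom X.hom (Neron.genPt R) :=
    IsPullback.of_hasPullback X.hom (Neron.genPt R)
  have e1 := finrank_HH_eq (X := X) (g := pullback.fst X.hom (Neron.genPt R)) hsq 1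
  have hne : Nonempty C.left := by
    have hη : (X.hom (genericPoint X.left)).asIdeal = ⊥ := by
      by_contra h
      refine genericPoint_notMem_fibre hX ?_
      refine PrimeSpectrum.ext ?_
      exact IsLocalRing.eq_maximalIdeal ((X.hom (genericPoint X.left)).2.isMaximal h)
    obtain ⟨z, -⟩ := Scheme.Pullback.exists_preimage_pullback (f := X.hom) (g := Neron.genPt R) (genericPoint X.left)
      (⊥ : PrimeSpectrum (FractionRing R)) (PrimeSpectrum.ext (by
        rw [hη]
        exact (Ideal.comap_bot_of_injective _ (IsFractionRing.injective R (FractionRing R))).symm))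
    exact ⟨z⟩
  haveI := hne
  haveI := Euler.isNoetherian_of_proper (X := C.left) (FractionRing R)
  have h0 : 0 < Module.finrank (FractionRing R) (Coh.HH C.left (Coh.structureModule C.left) 0) := by
    haveI := Euler.finiteDimensional_HH (FractionRing R)
      (Euler.isCoh_of_isInvertible (Euler.isInvertible_structure (X := C.left))) 0
    haveI : Nonempty (⊤ : C.left.Opens) := ⟨⟨hne.some, trivial⟩⟩
    haveI : Nontrivial (Coh.HH C.left (Coh.structureModule C.left) 0) :=
      haveI : Nontrivial Γ(Coh.structureModule C.left, ⊤) := inferInstanceAs (Nontrivial Γ(C.left, ⊤))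
      (ProjCoh.H0top (Coh.structureModule C.left)).toEquiv.nontrivial
    exact Module.finrank_pos
  simp only [FGA.eulerCharLE, Finset.sum_range_succ, Finset.sum_range_zero, pow_zero, pow_one] at hg
  have e1' : Module.finrank (FractionRing R) (Coh.HH C.left (Coh.structureModule C.left) 1) = 0 := e1.trans hH1
  change 0 + 1 * (Module.finrank (FractionRing R) (Coh.HH C.left (Coh.structureModule C.left) 0) : ℤ) +
    -1 * (Module.finrank (FractionRing R) (Coh.HH C.left (Coh.structureModule C.left) 1) : ℤ) ≤ 0 at hg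
  omega

end GrothLib.Canon12
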