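import Groth.Agent.Lib.Canon12.IsolatedComp
import Groth.Agent.Lib.DepthExt20.Basic
import Groth.Agent.Lib.HodgeIndex.Pullback
import Groth.Agent.Lib.PBDeg17.TensorClass

/-!
# Adding a curve of genus zero to a divisor
-/

set_option autoImplicit false
set_option linter.all false
set_option backward.isDefEq.respectTransparency false
set_option maxHeartbeats 4000000

universe u

open CategoryTheory CategoryTheory.Limits AlgebraicGeometry TopologicalSpace IsLocalRing

noncomputable section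

namespace GrothLib.Canon12

open GrothLib.ArSurf29
open GrothLib.QCoh (stalkLin)

/-- A line bundle with non-negative Euler characteristic on a curve without higher cohomology has none either. -/
theorem subsingleton_H1_of_euler_nonneg (k : Type u) [Field k] {E : Scheme.{u}} [E.Over (Spec (CommRingCat.of k))]
    [IsIntegral E] [IsProper (E ↘ Spec (CommRingCat.of k))] (hd : topologicalKrullDim E = 1)
    (hg : Subsingleton (Coh.HH E (Coh.structureModule E) 1))
    {N : E.Modules} (hN : PicF.IsInvertible N) (he : 0 ≤ Curv2.euler k E N) : Subsingleton (Coh.HH E N 1) := by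
  haveI := Euler.isNoetherian_of_proper (X := E) k
  have hNc := Euler.isCoh_of_isInvertible hN
  haveI := hNc.1
  rcases subsingleton_or_nontrivial (Coh.HH E N 0) with h | h
  · haveI : Module.Finite k (Coh.HH E N 1) := Euler.finiteDimensional_HH _ hNc 1
    rw [Euler.euler_eq_sub k hd.le N, (Module.finrank_zero_of_subsingleton : Module.finrank k (Coh.HH E N 0) = 0)] at he
    exact Module.finrank_zero_iff.1 (show Module.finrank k (Coh.HH E N 1) = 0 by omega)
  obtain ⟨u₀, hu⟩ := Euler.exists_ne_zero_section h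
  haveI : Mono (FinCov.homOfSection u₀) := Euler.mono_homOfSection hN hu
  have hQ := QCoh.isCoh_cokernel (FinCov.homOfSection u₀) (Euler.isCoh_of_isInvertible Euler.isInvertible_structure) hNc
  obtain ⟨hfin, hcl⟩ := Euler.finite_support_of_notMem_genericPoint k hd.le hQ
    (QCoh.notMem_support_cokernel_of_surjective _ (Euler.stalkLin_homOfSection_genericPoint hN hu).2)
  let S := ShortComplex.mk (FinCov.homOfSection u₀) (cokernel.π _) (cokernel.condition _)
  have hS : S.ShortExact := { exact := ShortComplex.exact_of_g_is_cokernel _ (cokernelIsCokernel _) }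
  refine subsingleton_of_forall_eq 0 fun y => ?_
  obtain ⟨z, hz⟩ := (Cohom.exact₂ (A := k) hS 1 y).1
    (@Subsingleton.elim _ (Euler.subsingleton_HH_of_finite_support (X := E) S.X₃ hfin hcl 1 le_rfl) _ _)
  rw [← hz, @Subsingleton.elim _ hg z 0, map_zero]

theorem stalkLin_surjective {Z : Scheme.{u}} {A B : Z.Modules} (f : A ⟶ B) [Epi f] (z : Z) :
    Function.Surjective (stalkLin f z) :=
  (ModuleCat.epi_iff_surjective _).1 ((OX.epi_iff f).1 inferInstance z)

theorem subsingleton_stalk_of_iso {Z : Scheme.{u}} {A B : Z.Modules} (e : A ≅ B) (z : Z)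
    (h : Subsingleton (A.presheaf.stalk z)) : Subsingleton (B.presheaf.stalk z) := by
  refine ⟨fun a b => ?_⟩
  obtain ⟨a', rfl⟩ := stalkLin_surjective e.hom z a
  obtain ⟨b', rfl⟩ := stalkLin_surjective e.hom z b
  rw [Subsingleton.elim a' b']

theorem subsingleton_of_surjective_zero {Z : Scheme.{u}} {A B : Z.Modules} {f : A ⟶ B} (h : f = 0) (z : Z)
    (hs : Function.Surjective (stalkLin f z)) : Subsingleton (B.presheaf.stalk z) := by
  refine subsingleton_of_forall_eq 0 fun b => ?_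
  obtain ⟨a, rfl⟩ := hs b
  subst h
  show (((OX.stalk z).map (0 : A ⟶ B)).hom a) = 0
  rw [Functor.map_zero]
  rfl

/-- Nakayama for a map to an invertible module. -/
theorem surjective_of_comp {Z : Scheme.{u}} {N Q : Z.Modules} (hN : PicF.IsInvertible N)
    (φ : Coh.structureModule Z ⟶ N) (q : N ⟶ Q) (z : Z) (hq : Function.Surjective (stalkLin q z))
    (h : Function.Surjective (stalkLin (φ ≫ q) z)) (hz : ¬ Subsingleton (Q.presheaf.stalk z)) :
    Function.Surjective (stalkLin φ z) := by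
  obtain ⟨t, ht⟩ := Ref1.exists_gen_of_isInvertible hN z
  obtain ⟨w, hw⟩ := h (stalkLin q z t)
  rw [QCoh.stalkLin_comp] at hw
  obtain ⟨a, ha⟩ := ht.2 (stalkLin φ z w)
  dsimp only at ha
  rw [← ha, map_smul] at hw
  rcases IsLocalRing.isUnit_or_isUnit_one_sub_self a with hu | hu
  · intro y
    obtain ⟨b, rfl⟩ := ht.2 y
    refine ⟨(b * ↑hu.unit⁻¹) • w, ?_⟩
    rw [map_smul, ← ha, smul_smul, mul_assoc, IsUnit.val_inv_mul, mul_one]
  · exfalso
    refine hz (subsingleton_of_forall_eq 0 fun y => ?_)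
    obtain ⟨y', rfl⟩ := hq y
    obtain ⟨b, rfl⟩ := ht.2 y'
    have h0 : (1 - a) • stalkLin q z t = 0 := by rw [sub_smul, one_smul, hw, sub_self]
    rw [map_smul, hu.smul_eq_zero.1 h0, smul_zero]

theorem exists_lift_one (A : Type u) [CommRing A] {Z : Scheme.{u}} [Z.Over (Spec (CommRingCat.of A))]
    {S : ShortComplex Z.Modules} (hS : S.ShortExact) (h : Subsingleton (Coh.HH Z S.X₁ 1))
    (ψ : Coh.structureModule Z ⟶ S.X₃) : ∃ φ : Coh.structureModule Z ⟶ S.X₂, φ ≫ S.g = ψ := by
  obtain ⟨y, hy⟩ := (Cohom.exact₃ (A := A) hS 0 ((ProjCoh.H0top _).symm (ψ.app ⊤ (FinCov.one Z ⊤)))).1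
    (@Subsingleton.elim _ h _ _)
  have hy' : S.g.app ⊤ (ProjCoh.H0top _ y) = ψ.app ⊤ (FinCov.one Z ⊤) := by
    have h1 := congrArg (ProjCoh.H0top _) hy
    rw [AddEquiv.apply_symm_apply] at h1
    exact (ProjCoh.H0top_map ((QCoh.toAbFun _).map S.g) y).symm.trans h1
  refine ⟨FinCov.homOfSection (ProjCoh.H0top _ y), ?_⟩
  refine CurveMult.hom_ext_one _ _ ?_
  show S.g.app ⊤ ((FinCov.homOfSection (ProjCoh.H0top _ y)).app ⊤ (FinCov.one Z ⊤)) = _
  rw [FinCov.homOfSection_one]
  refine Eq.trans ?_ hy'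
  congr 1
  rw [show (homOfLE (le_top : (⊤ : Z.Opens) ≤ ⊤)).op = 𝟙 _ from Subsingleton.elim _ _, CategoryTheory.Functor.map_id]
  rfl

theorem subsingleton_X2 (A : Type u) [CommRing A] {Z : Scheme.{u}} [Z.Over (Spec (CommRingCat.of A))]
    {S : ShortComplex Z.Modules} (hS : S.ShortExact) (h₁ : Subsingleton (Coh.HH Z S.X₁ 1))
    (h₃ : Subsingleton (Coh.HH Z S.X₃ 1)) : Subsingleton (Coh.HH Z S.X₂ 1) :=
  subsingleton_of_forall_eq 0 fun y => by
    obtain ⟨z, hz⟩ := (Cohom.exact₂ (A := A) hS 1 y).1 (Subsingleton.elim _ _)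
    rw [← hz, Subsingleton.elim z 0, map_zero]

variable {R : Type u} [CommRing R] [IsDomain R] [IsDiscreteValuationRing R] {X : Over (Spec (CommRingCat.of R))}
  [IsProper X.hom] [IsLocallyNoetherian X.left]

/-- Adding a curve of genus zero preserves the vanishing of `H¹` and the triviality of `Pic⁰`. -/
theorem step {Z V : Scheme.{u}} (j : Z ⟶ X.left) [IsClosedImmersion j] (Γ : ArSurf.VertComp R X)
    (i : Γ.curve.left ⟶ Z) (hi : i ≫ j = Γ.ι) (v : V ⟶ Z) [IsClosedImmersion v]
    (D : X.left.IdealSheafData) (hD : PicF.IsInvertible (ClSub.idealMod D))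
    (hK : _root_.BlowUp.IsEffCartierIdeal Γ.ι.ker) (hj : j.ker = D * Γ.ι.ker) (hv : (v ≫ j).ker = D)
    (hg : Models.h1 R X Γ = 0)
    (hd : -(Models.wdeg R X Γ : ℤ) ≤
      Curv2.deg (ResidueField R) Γ.curve.left ((Scheme.Modules.pullback Γ.ι).obj (ClSub.idealMod D)) 1)
    (hd0 : Disjoint (Set.range i) (Set.range v) →
      Curv2.deg (ResidueField R) Γ.curve.left ((Scheme.Modules.pullback Γ.ι).obj (ClSub.idealMod D)) 1 = 0)
    (hV : Subsingleton (Coh.HH V (Coh.structureModule V) 1)) :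
    Subsingleton (Coh.HH Z (Coh.structureModule Z) 1) ∧
      ∀ N : Z.Modules, PicF.IsInvertible N →
        Curv2.deg (ResidueField R) Γ.curve.left ((Scheme.Modules.pullback i).obj N) 1 = 0 →
        Nonempty ((Scheme.Modules.pullback v).obj N ≅ Coh.structureModule V) →
        Nonempty (N ≅ Coh.structureModule Z) := by
  haveI := Γ.isClosedImmersion
  haveI := Γ.isIntegral
  haveI : IsClosedImmersion (i ≫ j) := hi ▸ Γ.isClosedImmersion
  haveI : IsClosedImmersion i := IsClosedImmersion.of_comp i j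
  haveI := isProper_curve Γ
  haveI := Euler.isNoetherian_of_proper (X := Γ.curve.left) (ResidueField R)
  haveI : IsLocallyNoetherian Z := LocallyOfFiniteType.isLocallyNoetherian j
  haveI : IsLocallyNoetherian V := LocallyOfFiniteType.isLocallyNoetherian v
  letI : Z.Over (Spec (CommRingCat.of R)) := ⟨j ≫ X.hom⟩
  letI : Γ.curve.left.Over (Spec (CommRingCat.of R)) := ⟨i ≫ j ≫ X.hom⟩
  letI : V.Over (Spec (CommRingCat.of R)) := ⟨v ≫ j ≫ X.hom⟩
  haveI hWq := Cohom.isQuasicoherent_structureModule Γ.curve.left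
  haveI hVq := Cohom.isQuasicoherent_structureModule V
  have hH1 : Subsingleton (Coh.HH Γ.curve.left (Coh.structureModule Γ.curve.left) 1) := by
    haveI : Module.Finite (ResidueField R) (Coh.HH Γ.curve.left (Coh.structureModule Γ.curve.left) 1) :=
      Euler.finiteDimensional_HH _ (HomSh.isCoh_structureModule Γ.curve.left) 1
    exact Module.finrank_zero_iff.1 hg
  have hvanish : ∀ M : Γ.curve.left.Modules, PicF.IsInvertible M →
      -(Models.wdeg R X Γ : ℤ) ≤ Curv2.deg (ResidueField R) Γ.curve.left M 1 →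
      Subsingleton (Coh.HH Z ((Scheme.Modules.pushforward i).obj M) 1) := fun M hM hdM => by
    haveI := (Euler.isCoh_of_isInvertible hM).1
    rw [Curv2.deg, Euler.euler_eq_sub (ResidueField R) Γ.dim_eq.le (Coh.structureModule Γ.curve.left)] at hdM
    simp only [Models.h1, Models.wdeg] at hg hdM
    rw [hg] at hdM
    push_cast at hdM
    haveI := subsingleton_H1_of_euler_nonneg (ResidueField R) Γ.dim_eq hH1 hM (by omega)
    obtain ⟨e⟩ := Snapper.nonempty_HH_linearEquiv_pushforward (A := R) (S := Z) i rfl M 1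
    exact e.symm.toEquiv.subsingleton
  -- the sequence on `Z`
  let E := (Scheme.Modules.pullback (i ≫ j)).obj (ClSub.idealMod D)
  have hEi : PicF.IsInvertible E := Kleiman.isInv_pullback (i ≫ j) hD
  rw [← hi] at hd hd0
  obtain ⟨S, hS, ⟨a₁⟩, ⟨a₂⟩, ⟨a₃⟩⟩ := exists_shortExact_mul D Γ.ι.ker hD (IdealModSec.isInvertible_of_isEffCartier hK)
  have hlf := Euler.isFinLocFree_of_isInvertible hD
  let bK : ClSub.quotMod Γ.ι.ker ≅ (Scheme.Modules.pushforward (i ≫ j)).obj (Coh.structureModule Γ.curve.left) :=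
    eqToIso (by rw [hi]) ≪≫ (pushUnitIsoQuot (i ≫ j)).symm
  haveI := ProjFormula.isIso_projHom (i ≫ j) hlf (Coh.structureModule Γ.curve.left)
  let c₁ : S.X₁ ≅ (Scheme.Modules.pushforward (i ≫ j)).obj E :=
    a₁ ≪≫ ((DCoh.tensorBi (X := X.left)).obj (ClSub.idealMod D)).mapIso bK ≪≫
      asIso (ProjFormula.projHom (i ≫ j) (ClSub.idealMod D) (Coh.structureModule Γ.curve.left)) ≪≫
      (Scheme.Modules.pushforward (i ≫ j)).mapIso (Euler.tFUnitIso E)
  let d₁ : S.X₁ ≅ (Scheme.Modules.pushforward j).obj ((Scheme.Modules.pushforward i).obj E) :=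
    c₁ ≪≫ ((Scheme.Modules.pushforwardComp i j).app E).symm
  let d₂ : S.X₂ ≅ (Scheme.Modules.pushforward j).obj (Coh.structureModule Z) :=
    a₂ ≪≫ eqToIso (by rw [hj]) ≪≫ (pushUnitIsoQuot j).symm
  let d₃ : S.X₃ ≅ (Scheme.Modules.pushforward j).obj ((Scheme.Modules.pushforward v).obj (Coh.structureModule V)) :=
    a₃ ≪≫ eqToIso (by rw [hv]) ≪≫ (pushUnitIsoQuot (v ≫ j)).symm ≪≫
      ((Scheme.Modules.pushforwardComp v j).app _).symm
  have hcZ : Coh.IsCoh (Coh.structureModule Z) := HomSh.isCoh_structureModule Z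
  have hc1 : Coh.IsCoh ((Scheme.Modules.pushforward i).obj E) := K0Sub.isCoh_push i (Euler.isCoh_of_isInvertible hEi)
  have hc3 : Coh.IsCoh ((Scheme.Modules.pushforward v).obj (Coh.structureModule V)) := QCoh.pushUnit_isCoh v
  have hq : ∀ {M : Z.Modules}, Coh.IsCoh M → Coh.IsCoh ((Scheme.Modules.pushforward j).obj M) :=
    fun hM => K0Sub.isCoh_push j hM
  haveI : S.X₁.IsQuasicoherent := (QCoh.isCoh_of_iso d₁.symm (hq hc1)).1
  haveI : S.X₂.IsQuasicoherent := (QCoh.isCoh_of_iso d₂.symm (hq hcZ)).1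
  haveI : S.X₃.IsQuasicoherent := (QCoh.isCoh_of_iso d₃.symm (hq hc3)).1
  obtain ⟨T, hT, hT₁, hT₂, hT₃⟩ := shortExact_pullback_of_killed j hS
    (killedByIdeal_of_iso d₁ (K0Sub.killedByIdeal_push j _)) (killedByIdeal_of_iso d₂ (K0Sub.killedByIdeal_push j _))
    (killedByIdeal_of_iso d₃ (K0Sub.killedByIdeal_push j _))
  let adj := Scheme.Modules.pullbackPushforwardAdjunction j
  have hcounit : ∀ {M : Z.Modules}, Coh.IsCoh M →
      Nonempty ((Scheme.Modules.pullback j).obj ((Scheme.Modules.pushforward j).obj M) ≅ M) := fun {M} hM => by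
    haveI := (hq hM).1
    haveI : IsIso (adj.unit.app ((Scheme.Modules.pushforward j).obj M)) :=
      QCoh.isIso_unit_of_killed j _ (K0Sub.killedByIdeal_push j M)
    haveI : IsIso ((Scheme.Modules.pushforward j).map (adj.counit.app M)) := by
      rw [show (Scheme.Modules.pushforward j).map (adj.counit.app M) =
        inv (adj.unit.app ((Scheme.Modules.pushforward j).obj M)) from
          IsIso.eq_inv_of_hom_inv_id (adj.right_triangle_components M)]
      infer_instance
    haveI := K0Sub.isIso_of_isIso_push j (adj.counit.app M)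
    exact ⟨asIso (adj.counit.app M)⟩
  let t₁ : T.X₁ ≅ _ := eqToIso hT₁ ≪≫ (Scheme.Modules.pullback j).mapIso d₁ ≪≫ (hcounit hc1).some
  let t₂ : T.X₂ ≅ _ := eqToIso hT₂ ≪≫ (Scheme.Modules.pullback j).mapIso d₂ ≪≫ (hcounit hcZ).some
  let t₃ : T.X₃ ≅ _ := eqToIso hT₃ ≪≫ (Scheme.Modules.pullback j).mapIso d₃ ≪≫ (hcounit hc3).some
  have hO1 : Subsingleton (Coh.HH Z (Coh.structureModule Z) 1) := by
    haveI s1 : Subsingleton (Coh.HH Z T.X₁ 1) :=
      haveI := hvanish E hEi hd
      (Euler.hhEquiv (A := R) t₁ 1).toEquiv.subsingleton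
    haveI s3 : Subsingleton (Coh.HH Z T.X₃ 1) := by
      obtain ⟨e⟩ := Snapper.nonempty_HH_linearEquiv_pushforward (A := R) (S := Z) v rfl (Coh.structureModule V) 1
      haveI := hV
      haveI := e.symm.toEquiv.subsingleton
      exact (Euler.hhEquiv (A := R) t₃ 1).toEquiv.subsingleton
    haveI := subsingleton_X2 R hT s1 s3
    exact (Euler.hhEquiv (A := R) t₂ 1).symm.toEquiv.subsingleton
  refine ⟨hO1, fun N hN hdN hVN => ?_⟩
  obtain ⟨eV⟩ := hVN
  have hNlf := Euler.isFinLocFree_of_isInvertible hN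
  haveI := ProjFormula.isIso_projHom i hNlf E
  haveI := ProjFormula.isIso_projHom i hNlf (Coh.structureModule Γ.curve.left)
  haveI := ProjFormula.isIso_projHom v hNlf (Coh.structureModule V)
  let sw : ∀ A : Z.Modules, (Euler.tF N).obj A ≅ ((DCoh.tensorBi (X := Z)).obj N).obj A := fun A =>
    (((OX.tensorBraiding (X := Z)).app N).app A)
  let u₂ : (Euler.tF N).obj (Coh.structureModule Z) ≅ N := OX.tensorUnitLeftIso N
  let iN := (Scheme.Modules.pullback i).obj N
  have hiN : PicF.IsInvertible iN := Kleiman.isInv_pullback i hN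
  -- the sequence tensored with `N`
  have hTN : (T.map (Euler.tF N)).ShortExact := PBDeg.K0Cyc.tensor_shortExact hN hT
  let n₁ : (T.map (Euler.tF N)).X₁ ≅ (Scheme.Modules.pushforward i).obj (CohB1.tensorMod iN E) :=
    (Euler.tF N).mapIso t₁ ≪≫ sw _ ≪≫ asIso (ProjFormula.projHom i N E)
  let n₂ : (T.map (Euler.tF N)).X₂ ≅ N := (Euler.tF N).mapIso t₂ ≪≫ u₂
  let n₃ : (T.map (Euler.tF N)).X₃ ≅ (Scheme.Modules.pushforward v).obj (Coh.structureModule V) :=
    (Euler.tF N).mapIso t₃ ≪≫ sw _ ≪≫ asIso (ProjFormula.projHom v N (Coh.structureModule V)) ≪≫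
      (Scheme.Modules.pushforward v).mapIso (Euler.tFUnitIso ((Scheme.Modules.pullback v).obj N) ≪≫ eV)
  have hdeg1 : Curv2.deg (ResidueField R) Γ.curve.left (CohB1.tensorMod iN E) 1 =
      Curv2.deg (ResidueField R) Γ.curve.left E 1 := by
    rw [CurveMult.deg_tensorMod _ Γ.dim_eq.le hiN hEi, hdN, zero_add]
  haveI h1N : Subsingleton (Coh.HH Z (T.map (Euler.tF N)).X₁ 1) :=
    haveI := hvanish _ (Ample.isInvertible_tensorMod hiN hEi) (hdeg1.ge.trans' hd)
    (Euler.hhEquiv (A := R) n₁ 1).toEquiv.subsingleton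
  let S' := T.map (Euler.tF N)
  let f : S'.X₁ ⟶ N := S'.f ≫ n₂.hom
  let q : N ⟶ S'.X₃ := n₂.inv ≫ S'.g
  have hfq : f ≫ q = 0 := by simp only [f, q, Category.assoc, n₂.hom_inv_id_assoc]; exact S'.zero
  haveI : Epi S'.g := hTN.epi_g
  haveI : Epi T.g := hT.epi_g
  haveI : Epi q := by simp only [q]; infer_instance
  let ψ : Coh.structureModule Z ⟶ S'.X₃ := t₂.inv ≫ T.g ≫ (t₃ ≪≫ n₃.symm).hom
  haveI : Epi ψ := by simp only [ψ]; infer_instance
  obtain ⟨φ₀, hφ₀⟩ := exists_lift_one R hTN h1N ψ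
  let φ : Coh.structureModule Z ⟶ N := φ₀ ≫ n₂.hom
  have hφq : φ ≫ q = ψ := by simp only [φ, q, Category.assoc, n₂.hom_inv_id_assoc]; exact hφ₀
  have hQne : ∀ a, ¬ Subsingleton (S'.X₃.presheaf.stalk (v a)) := fun a hs =>
    DepthExt20.mem_support_pushUnit v a (subsingleton_stalk_of_iso n₃ (v a) hs)
  have onV : ∀ χ : Coh.structureModule Z ⟶ N, χ ≫ q = ψ → ∀ a, Function.Surjective (stalkLin χ (v a)) :=
    fun χ hχ a => surjective_of_comp hN χ q (v a) (stalkLin_surjective q _)
      (by rw [hχ]; exact stalkLin_surjective ψ _) (hQne a)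
  -- restriction to the curve
  let P := (Scheme.Modules.pushforward i).obj (Coh.structureModule Γ.curve.left)
  haveI := Euler.epi_toSubscheme i.ker
  let e₀ : Coh.structureModule Z ⟶ P := ClSub.toSubscheme i.ker ≫ (pushUnitIsoQuot i).inv
  haveI : Epi e₀ := by simp only [e₀]; infer_instance
  have hPne : ∀ c, ¬ Subsingleton (P.presheaf.stalk (i c)) := fun c => DepthExt20.mem_support_pushUnit i c
  let Q := (Scheme.Modules.pushforward i).obj iN
  let m : (Euler.tF N).obj P ≅ Q :=
    sw _ ≪≫ asIso (ProjFormula.projHom i N (Coh.structureModule Γ.curve.left)) ≪≫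
      (Scheme.Modules.pushforward i).mapIso (Euler.tFUnitIso iN)
  haveI : Epi ((Euler.tF N).map e₀) := by
    haveI := Euler.epi_toSubscheme i.ker
    haveI : Epi ((Euler.tF N).map (ClSub.toSubscheme i.ker)) :=
      (PBDeg.K0Cyc.tensor_shortExact hN (shortExact_ideal i.ker)).epi_g
    simp only [e₀, Functor.map_comp]
    infer_instance
  let ρ : N ⟶ Q := u₂.inv ≫ (Euler.tF N).map e₀ ≫ m.hom
  haveI : Epi ρ := by simp only [ρ]; infer_instance
  let adi := Scheme.Modules.pullbackPushforwardAdjunction i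
  obtain ⟨one⟩ := Ample.nonempty_pullback_structureModule i
  letI : Γ.curve.left.Over (Spec (CommRingCat.of (ResidueField R))) := ⟨Γ.curve.hom⟩
  haveI : IsProper (Γ.curve.left ↘ Spec (CommRingCat.of (ResidueField R))) := isProper_curve Γ
  have toIso : ∀ (M : Γ.curve.left.Modules), PicF.IsInvertible M →
      Curv2.deg (ResidueField R) Γ.curve.left M 1 ≤ 0 →
      ∀ u : (Scheme.Modules.pullback i).obj (Coh.structureModule Z) ⟶ M, u ≠ 0 → IsIso u := by
    intro M hM hdM u hu
    have hne : one.inv ≫ u ≠ 0 := fun h => hu (by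
      rw [← cancel_epi one.inv, h, comp_zero])
    haveI := (Euler.deg_of_section (ResidueField R) Γ.dim_eq.le hM hne).2 hdM
    exact IsIso.of_isIso_comp_left one.inv u
  let u0 := (adi.homEquiv _ _).symm e₀
  have hu0 : IsIso u0 := by
    refine toIso _ Euler.isInvertible_structure (by rw [Curv2.deg]; simp) u0 fun h => ?_
    have he : e₀ = (0 : Coh.structureModule Z ⟶ P) := by
      have := (adi.homEquiv _ _).apply_symm_apply e₀
      rw [← this, show (adi.homEquiv _ _).symm e₀ = 0 from h, adi.homEquiv_unit, Functor.map_zero, comp_zero]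
    obtain ⟨c⟩ : Nonempty Γ.curve.left := inferInstance
    exact hPne c (subsingleton_of_surjective_zero he (i c) (stalkLin_surjective e₀ _))
  have hQne' : ∀ c, ¬ Subsingleton (Q.presheaf.stalk (i c)) := fun c hs => by
    obtain ⟨t, ht⟩ := Ref1.exists_gen_of_isInvertible hiN c
    have hb := QCoh.pushStalkHom_bijective i c iN i.isClosedEmbedding.toIsEmbedding.toIsInducing
    haveI : Subsingleton ((OX.stalk (i c)).obj ((Scheme.Modules.pushforward i).obj iN)) := hs
    haveI : Subsingleton (iN.presheaf.stalk c) := hb.2.subsingleton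
    exact zero_ne_one (ht.1 (Subsingleton.elim ((0 : Γ.curve.left.presheaf.stalk c) • t) (1 • t)))
  have dich : ∀ χ : Coh.structureModule Z ⟶ N,
      χ ≫ ρ = 0 ∨ ∀ c, Function.Surjective (stalkLin χ (i c)) := by
    intro χ
    by_cases h : χ ≫ ρ = 0
    · exact Or.inl h
    refine Or.inr fun c => surjective_of_comp hN χ ρ (i c) (stalkLin_surjective ρ _) ?_ (hQne' c)
    let u := (adi.homEquiv _ _).symm (χ ≫ ρ)
    haveI : IsIso u := toIso iN hiN hdN.le u fun hu => h (by
      rw [← (adi.homEquiv _ _).apply_symm_apply (χ ≫ ρ), show (adi.homEquiv _ _).symm (χ ≫ ρ) = 0 from hu,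
        adi.homEquiv_unit, Functor.map_zero, comp_zero])
    haveI := hu0
    have he : χ ≫ ρ = e₀ ≫ (Scheme.Modules.pushforward i).map (inv u0 ≫ u) := by
      rw [← (adi.homEquiv _ _).apply_symm_apply (χ ≫ ρ), ← (adi.homEquiv _ _).apply_symm_apply e₀,
        adi.homEquiv_unit, adi.homEquiv_unit, Category.assoc, ← Functor.map_comp]
      simp only [u0, u, IsIso.hom_inv_id_assoc]
    rw [he]
    obtain ⟨w, hw⟩ : ∃ w : Coh.structureModule Z ⟶ Q, w = e₀ ≫ (Scheme.Modules.pushforward i).map (inv u0 ≫ u) ∧ Epi w :=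
      ⟨_, rfl, @epi_comp _ _ _ _ _ e₀ ‹Epi e₀› _ (@IsIso.epi_of_iso _ _ _ _ _
        (Functor.map_isIso (Scheme.Modules.pushforward i) (inv u0 ≫ u)))⟩
    haveI := hw.2
    rw [← hw.1]
    exact stalkLin_surjective _ _
  have hcov : ∀ z : Z, (∃ c, i c = z) ∨ ∃ a, v a = z := fun z => by
    have hz : j z ∈ (j.ker.support : Set X.left) := by
      rw [Scheme.Hom.support_ker]; exact subset_closure ⟨z, rfl⟩
    rw [hj, Scheme.IdealSheafData.support_mul] at hz
    rcases (show j z ∈ (D.support : Set X.left) ∨ j z ∈ (Γ.ι.ker.support : Set X.left) from hz) with h | h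
    · rw [← hv, Scheme.Hom.support_ker] at h
      obtain ⟨a, ha⟩ := (v ≫ j).isClosedEmbedding.isClosed_range.closure_eq.le h
      exact Or.inr ⟨a, j.isClosedEmbedding.injective ha⟩
    · rw [Scheme.Hom.support_ker] at h
      obtain ⟨c, hc⟩ := Γ.ι.isClosedEmbedding.isClosed_range.closure_eq.le h
      exact Or.inl ⟨c, j.isClosedEmbedding.injective (by rw [← hc, ← hi]; rfl)⟩
  have finish : ∀ χ : Coh.structureModule Z ⟶ N, χ ≫ q = ψ →
      (∀ c, Function.Surjective (stalkLin χ (i c))) → Nonempty (N ≅ Coh.structureModule Z) := by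
    intro χ hχ hΓ
    haveI : Epi χ := (OX.epi_iff χ).2 fun z => (ModuleCat.epi_iff_surjective _).2 (by
      rcases hcov z with ⟨c, rfl⟩ | ⟨a, rfl⟩
      · exact hΓ c
      · exact onV χ hχ a)
    haveI := HodgeIndex.isIso_of_epi_inv Euler.isInvertible_structure hN χ
    exact ⟨(asIso χ).symm⟩
  rcases dich φ with hz | hall
  swap
  · exact finish φ hφq hall
  -- the restriction to the curve is zero, so the curve misses the rest
  have hdis : Disjoint (Set.range i) (Set.range v) := by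
    rw [Set.disjoint_left]
    rintro _ ⟨c, rfl⟩ ⟨a, ha⟩
    have hs := stalkLin_surjective ρ (i c)
    refine hQne' c (subsingleton_of_surjective_zero hz (i c) ?_)
    intro y
    obtain ⟨y', rfl⟩ := hs y
    obtain ⟨w, rfl⟩ := onV φ hφq a |> fun h => (ha ▸ h : Function.Surjective (stalkLin φ (i c))) y'
    exact ⟨w, QCoh.stalkLin_comp _ _ _ _⟩
  have hd1 : Curv2.deg (ResidueField R) Γ.curve.left (CohB1.tensorMod iN E) 1 = 0 := hdeg1.trans (hd0 hdis)
  obtain ⟨eN⟩ : Nonempty (Coh.structureModule Γ.curve.left ≅ CohB1.tensorMod iN E) := by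
    have hM := Ample.isInvertible_tensorMod hiN hEi
    have hMc := Euler.isCoh_of_isInvertible hM
    haveI := hMc.1
    have hpos : 0 < Curv2.euler (ResidueField R) Γ.curve.left (CohB1.tensorMod iN E) := by
      have hw : (0 : ℤ) < Models.wdeg R X Γ := by exact_mod_cast wdeg_pos Γ
      rw [Curv2.deg, Euler.euler_eq_sub (ResidueField R) Γ.dim_eq.le (Coh.structureModule Γ.curve.left)] at hd1
      simp only [Models.h1, Models.wdeg] at hg hw
      rw [hg] at hd1
      push_cast at hd1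
      omega
    obtain ⟨s, hs⟩ := Euler.exists_ne_zero_section
      (Euler.nontrivial_H0_of_euler_pos (ResidueField R) Γ.dim_eq.le hMc hpos)
    have hne : FinCov.homOfSection s ≠ 0 := fun h => hs (by
      have h1 := FinCov.homOfSection_one s ⊤
      rw [h] at h1
      exact (InvExt.mres_self _ s).symm.trans (h1.symm.trans (by rfl)))
    haveI := (Euler.deg_of_section (ResidueField R) Γ.dim_eq.le hM hne).2 hd1.le
    exact ⟨asIso (FinCov.homOfSection s)⟩
  let g : Coh.structureModule Z ⟶ N := e₀ ≫ (Scheme.Modules.pushforward i).map eN.hom ≫ n₁.inv ≫ f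
  have hgq : g ≫ q = 0 := by simp only [g, Category.assoc, hfq, comp_zero]
  refine finish (φ + g) (by rw [Preadditive.add_comp, hgq, add_zero, hφq]) fun c => ?_
  refine surjective_of_comp hN (φ + g) ρ (i c) (stalkLin_surjective ρ _) ?_ (hQne' c)
  rw [Preadditive.add_comp, hz, zero_add]
  have hf : Function.Surjective (stalkLin f (i c)) := by
    intro y
    have hex := (hTN.map_of_exact (OX.stalk (i c))).exact
    rw [ShortComplex.moduleCat_exact_iff] at hex
    haveI : Subsingleton ((Scheme.Modules.pushforward v).obj (Coh.structureModule V) |>.presheaf.stalk (i c)) := by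
      by_contra hns
      obtain ⟨a, ha⟩ := QCoh.support_pushforward_subset_range v _ hns
      exact Set.disjoint_left.1 hdis ⟨c, rfl⟩ ⟨a, ha⟩
    haveI : Subsingleton (S'.X₃.presheaf.stalk (i c)) := subsingleton_stalk_of_iso n₃.symm _ inferInstance
    obtain ⟨y', hy'⟩ := stalkLin_surjective n₂.hom (i c) y
    obtain ⟨x, hx⟩ := hex y' (@Subsingleton.elim _ ‹Subsingleton (S'.X₃.presheaf.stalk (i c))› _ _)
    refine ⟨x, ?_⟩
    rw [← hy']
    exact (QCoh.stalkLin_comp _ _ _ _).trans (congrArg (stalkLin n₂.hom (i c)) hx)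
  intro y
  obtain ⟨y₁, rfl⟩ := stalkLin_surjective ρ (i c) y
  obtain ⟨y₂, rfl⟩ := hf y₁
  haveI : Epi (e₀ ≫ (Scheme.Modules.pushforward i).map eN.hom ≫ n₁.inv) := inferInstance
  haveI : IsIso ((Scheme.Modules.pushforward i).map eN.hom) := Functor.map_isIso _ _
  haveI : Epi (e₀ ≫ (Scheme.Modules.pushforward i).map eN.hom ≫ n₁.inv) := epi_comp _ _
  obtain ⟨w, rfl⟩ := stalkLin_surjective (e₀ ≫ (Scheme.Modules.pushforward i).map eN.hom ≫ n₁.inv) (i c) y₂
  refine ⟨w, ?_⟩
  simp only [g, QCoh.stalkLin_comp]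
  rfl

end GrothLib.Canon12
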