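import Groth.Prelude.Def_Canon
import Groth.Agent.Lib.Adj27.SmoothExt
import Groth.Agent.Lib.RegImm12.ConormalSeq
import Groth.Agent.Lib.OmegaSheaf.Basic
import Groth.Agent.Lib.NormalDual22.Restrict
import Groth.Agent.Lib.CanonTriv.Basic
import Groth.Agent.Lib.BCCrit.StratumPush
import Groth.Agent.Lib.OX.OneDegLocus
import Groth.Agent.Lib.KoszulFwd
import Groth.Agent.Lib.SeqKinds.Basic
import Groth.Agent.Lib.HypVan12.Main
import Groth.Agent.Lib.VA.Powers

/-!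
# The canonical sheaf on the smooth locus
-/

set_option autoImplicit false
set_option linter.style.haveILetI false
set_option backward.isDefEq.respectTransparency false
set_option maxHeartbeats 1000000

universe u

open CategoryTheory CategoryTheory.Limits AlgebraicGeometry TopologicalSpace Opposite

noncomputable section

namespace GrothLib.Canon12

/-- The conormal sheaf of a regular immersion is locally free of rank the codimension. -/
theorem rank_conormal {Z Y : Scheme.{u}} (i : Z ⟶ Y) [QuasiCompact i] {c : ℕ}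
    (hi : RegImm.IsRegularImmersionOfCodim .regular c i) : FlatMod.IsFinLocFreeOfRank c (Omega.conormal i) := by
  classical
  intro z
  obtain ⟨U, hzU, hci, rs, hlen, hrs, hker⟩ := hi.2 z
  subst hlen
  have h1 : CAlgX.IsH1Regular rs.get := SeqKinds.isH1Regular_of_isKoszulRegularSeq rs
    (KoszulFwd.isKoszulRegularSeq_of_isWeaklyRegular rs hrs.toIsWeaklyRegular)
  obtain ⟨hsur, hT⟩ := RegSeqLoc.app_surjective_of_restrict i U.2 hci
  have hs : i.ker.ideal U = Ideal.span (Set.range rs.get) := by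
    rw [i.ker_apply, hker, Set.range_list_get]
  obtain ⟨e⟩ : Nonempty ((Fin rs.length → Γ(Z, i ⁻¹ᵁ U.1)) ≃ₗ[Γ(Z, i ⁻¹ᵁ U.1)] Γ(Omega.conormal i, i ⁻¹ᵁ U.1)) :=
    RegImm12.exists_equiv_sections i i.ker le_rfl U rs.get hs
      (fun a ha k => hs ▸ RegImm12.mem_span_of_h1 h1 ha k) ⟨i ⁻¹ᵁ U.1, hT⟩ le_rfl
  haveI := H1Sheaf6.isQuasicoherent_idealMod i.ker
  haveI : (Omega.conormal i).IsQuasicoherent := FittSheaf.isQuasicoherent_pullback i _
  have hfr : FinCov.IsFrame (Omega.conormal i) (i ⁻¹ᵁ U.1) (fun k => e (Pi.single k 1)) := by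
    refine Adj27.isFrame_of_affine _ hT _ ?_
    have : ⇑(Fintype.linearCombination Γ(Z, i ⁻¹ᵁ U.1) fun k => e (Pi.single k 1)) = ⇑e := funext fun b => by
      rw [Fintype.linearCombination_apply]
      simp only [← map_smul, ← map_sum]
      congr 1
      funext k
      simp [Finset.sum_apply, Pi.single_apply]
    show Function.Bijective ⇑(Fintype.linearCombination Γ(Z, i ⁻¹ᵁ U.1) fun k => e (Pi.single k 1))
    rw [this]
    exact e.bijective
  exact ⟨i ⁻¹ᵁ U.1, hzU, FinCov.exists_iso_of_frame hfr⟩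

/-- The restriction of an immersion over a small open is closed. -/
theorem isClosedImmersion_restrict {X Z : Scheme.{u}} (i : X ⟶ Z) [IsImmersion i] (V : Z.Opens)
    (hV : V ≤ i.coborderRange) : IsClosedImmersion (i ∣_ V) := by
  haveI : IsImmersion (i ∣_ V) := IsZariskiLocalAtTarget.restrict (P := @IsImmersion) inferInstance V
  refine IsClosedImmersion.of_isPreimmersion _ ?_
  have h1 : Set.range (i ∣_ V) = (Subtype.val : V → Z) ⁻¹' Set.range i := by
    ext ⟨y, hy⟩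
    constructor
    · rintro ⟨x, hx⟩
      refine ⟨(i ⁻¹ᵁ V).ι x, ?_⟩
      rw [← Scheme.Hom.comp_apply, ← morphismRestrict_ι, Scheme.Hom.comp_apply, hx]
      rfl
    · rintro ⟨x, hx⟩
      refine ⟨⟨x, show i x ∈ V from hx ▸ hy⟩, Subtype.ext ?_⟩
      rw [morphismRestrict_base_coe]
      exact hx
  rw [h1]
  have h2 : IsClosed ((Subtype.val : coborder (Set.range i) → Z) ⁻¹' Set.range i) := isClosed_preimage_val_coborder
  exact h2.preimage (f := fun y : V => (⟨y.1, hV y.2⟩ : coborder (Set.range i))) (by fun_prop)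

/-- On an open where it is smooth, the canonical sheaf is the sheaf of top forms. -/
theorem isTopDiff {X Y Z : Scheme.{u}} (f : X ⟶ Y) (i : X ⟶ Z) (g : Z ⟶ Y) (h : i ≫ g = f) {c n : ℕ}
    (hi : RegImm.IsRegularImmersionOfCodim .regular c i) [QuasiCompact i] [QuasiSeparated g]
    [SmoothOfRelativeDimension n g]
    (ω : X.Modules) (hω : Canon.IsCanonicalVia i g c n ω) (U : X.Opens) (d : ℕ)
    [SmoothOfRelativeDimension d (U.ι ≫ f)] [QuasiSeparated (U.ι ≫ f)] :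
    Canon.IsTopDiff (U.ι ≫ f) d ((Scheme.Modules.pullback U.ι).obj ω) := by
  haveI : IsImmersion i := hi.1
  obtain ⟨V₁, hV₁⟩ : ∃ V : Z.Opens, i ⁻¹ᵁ V = U := by
    obtain ⟨s, hs, hsU⟩ := i.isEmbedding.isInducing.isOpen_iff.1 U.2
    exact ⟨⟨s, hs⟩, Opens.ext hsU⟩
  obtain ⟨V, hVcb, rfl⟩ : ∃ V : Z.Opens, V ≤ i.coborderRange ∧ i ⁻¹ᵁ V = U := by
    refine ⟨V₁ ⊓ i.coborderRange, inf_le_right, ?_⟩
    rw [← hV₁]
    ext x
    exact ⟨fun hx => hx.1, fun hx => ⟨hx, subset_coborder ⟨x, rfl⟩⟩⟩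
  haveI := isClosedImmersion_restrict i V hVcb
  set j := i ∣_ V with hj
  haveI : SmoothOfRelativeDimension n (V.ι ≫ g) := by
    have : SmoothOfRelativeDimension (0 + n) (V.ι ≫ g) := inferInstance
    rwa [Nat.zero_add] at this
  have hji : j ≫ V.ι ≫ g = (i ⁻¹ᵁ V).ι ≫ f := by
    rw [hj, ← Category.assoc, morphismRestrict_ι, Category.assoc, h]
  obtain ⟨DC, DΩ, hDC, hDΩ, ⟨e⟩⟩ := hω
  -- the restricted top forms of the ambient scheme
  have hΩ := Adj27.isFinLocFree_omega g n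
  obtain ⟨a⟩ := OmegaSheaf.nonempty_pullback_sheaf V.ι g
  have hX := ExtPowX.isExtPow_pullback (f := V.ι) hΩ hDΩ
  obtain ⟨P, -, hP⟩ := ExtPowX.exists_extPow (Adj27.isFinLocFree_omega (V.ι ≫ g) n) n
  obtain ⟨eP⟩ := ExtPowX.nonempty_iso hX hP a
  -- the conormal sheaves
  obtain ⟨b⟩ := OmegaSheaf.nonempty_pullback_conormal i j (i ⁻¹ᵁ V).ι V.ι (isPullback_morphismRestrict i V)
  have hc := rank_conormal i hi
  have hjr := Adj27.isRegularImmersion (V.ι ≫ g) ((i ⁻¹ᵁ V).ι ≫ f) j n d hji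
  have hCj : FlatMod.IsFinLocFreeOfRank c (Omega.conormal j) :=
    OX.isFinLocFreeOfRank_of_iso b (OX.isFinLocFreeOfRank_pullback _ hc)
  have hY := ExtPowX.isExtPow_wedge (Adj27.isFinLocFree_omega ((i ⁻¹ᵁ V).ι ≫ f) d) d
  rcases isEmpty_or_nonempty ↥(i ⁻¹ᵁ V) with hE | ⟨⟨z⟩⟩
  · haveI : IsEmpty ((i ⁻¹ᵁ V : X.Opens) : Scheme.{u}) := hE
    exact ExtPowX.isExtPow_of_iso hY (Adj27.nonempty_iso_of_isEmpty _ _).some
  obtain ⟨c', W, f', g', hn, -⟩ := Adj27.exists_isChart (V.ι ≫ g) ((i ⁻¹ᵁ V).ι ≫ f) j n d hji z ⊤ trivial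
  have hcn : c = n - d := by
    obtain ⟨U₁, hz₁, ⟨φ₁⟩⟩ := hCj z
    obtain ⟨U₂, hz₂, ⟨φ₂⟩⟩ := rank_conormal j hjr z
    exact BCCrit.rank_unique hz₁ hz₂ φ₁ φ₂
  have hL := ExtPowX.isExtPow_pullback (f := (i ⁻¹ᵁ V).ι) (FinCov.isFinLocFree_of_rank hc) hDC
  obtain ⟨L, hLfree, hL'⟩ := ExtPowX.exists_extPow (FinCov.isFinLocFree_of_rank hCj) c
  obtain ⟨eL⟩ := ExtPowX.nonempty_iso hL hL' b
  obtain ⟨adj⟩ := Adj27.adjunction (V.ι ≫ g) ((i ⁻¹ᵁ V).ι ≫ f) j n d hji c (by omega) hP hY hL'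
  have hLinv : PicF.IsInvertible L := CanonTriv.isInvertible_of_isExtPow hCj hL'
  let ω' := (Scheme.Modules.pullback (i ⁻¹ᵁ V).ι).obj ω
  let main : CohB1.tensorMod ω' L ≅
      CohB1.tensorMod (ExtPowX.wedge (Omega.sheaf ((i ⁻¹ᵁ V).ι ≫ f)) d) L :=
    Ample.LineData.tensorModMapIso (Iso.refl ω') eL.symm ≪≫ (OX.pullTensorIso _ ω DC).symm ≪≫
      (Scheme.Modules.pullback (i ⁻¹ᵁ V).ι).mapIso e ≪≫ (Scheme.Modules.pullbackComp _ i).app DΩ ≪≫
      (Scheme.Modules.pullbackCongr (morphismRestrict_ι i V).symm).app DΩ ≪≫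
      ((Scheme.Modules.pullbackComp j V.ι).app DΩ).symm ≪≫ (Scheme.Modules.pullback j).mapIso eP ≪≫ adj
  obtain ⟨T, hT, eT⟩ := VA.exists_inverse hLinv
  have hinv : Nonempty (CohB1.tensorMod L T ≅ Coh.structureModule _) :=
    (Cube.clsMod_eq_one_iff (Ample.isInvertible_tensorMod hLinv hT)).1
      (by rw [Cube.clsMod_tensorMod hLinv hT, eT, mul_inv_cancel])
  obtain ⟨inv⟩ := hinv
  exact ExtPowX.isExtPow_of_iso hY
    ((HypVan12.cancelIso inv main).symm ≪≫ HypVan12.cancelIso inv (Iso.refl _))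

end GrothLib.Canon12
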