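import Groth.Agent.Lib.Contract29.MinimalUnique
import Groth.Agent.Lib.Canon12.EngineAny
import Groth.Agent.Lib.Contract29.RelMin
import Groth.Agent.Lib.Contract29.GlueHom

/-!
# Uniqueness of relatively minimal models over a Dedekind domain
-/

universe u

set_option linter.all false
set_option backward.isDefEq.respectTransparency false

open CategoryTheory CategoryTheory.Limits AlgebraicGeometry Opposite TopologicalSpace IsLocalRing

noncomputable section

namespace GrothLib.Contract29

variable {R : Type u} [CommRing R] [IsDedekindDomain R]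

theorem euler_fracMap (R : Type u) [CommRing R] [IsDedekindDomain R] (A : Type u) [CommRing A] [IsDomain A] [Algebra R A]
    [Algebra A (FractionRing R)] [IsScalarTower R A (FractionRing R)] [IsFractionRing A (FractionRing R)]
    {X : Over (Spec (CommRingCat.of R))}
    (h : FGA.eulerCharLE (FractionRing R) ((Neron.genericFibre R).obj X).left (Coh.structureModule _) 1 ≤ 0) :
    (letI : (pullback X.hom (Neron.genPt R)).Over (Spec (CommRingCat.of (FractionRing A))) :=
        ⟨pullback.snd X.hom (Neron.genPt R) ≫ fracMap R A⟩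
     FGA.eulerCharLE (FractionRing A) (pullback X.hom (Neron.genPt R)) (Coh.structureModule _) 1) ≤ 0 := by
  let q' := pullback.snd X.hom (Neron.genPt R)
  let q := q' ≫ fracMap R A
  have hσ : ∀ a, Coh.toGlobal q a = Coh.toGlobal q' (fracHom R A a) := fun a => by
    show q.appTop ((Scheme.ΓSpecIso (CommRingCat.of (FractionRing A))).inv a) =
      q'.appTop ((Scheme.ΓSpecIso (CommRingCat.of (FractionRing R))).inv (fracHom R A a))
    rw [Scheme.Hom.comp_appTop, CommRingCat.comp_apply]
    exact congrArg q'.appTop (congrArg (fun m => (ConcreteCategory.hom m) a)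
      (Scheme.ΓSpecIso_inv_naturality (CommRingCat.ofHom (fracHom R A)))).symm
  simp only [FGA.eulerCharLE] at h ⊢
  simp only [ArSurf29.finrank_HH_mul (FractionRing A) q q' (fracHom R A) hσ]
  letI := (fracHom R A).toAlgebra
  rw [← (LinearEquiv.ofBijective (Algebra.linearMap (FractionRing A) (FractionRing R))
    (bijective_fracHom R A)).finrank_eq, Module.finrank_self]
  simp only [one_mul]
  exact h

theorem exists_local_hom_any {X₁ X₂ : Over (Spec (CommRingCat.of R))}
    (h₁ : ArSurf.IsArithSurface R X₁) (h₂ : ArSurf.IsArithSurface R X₂) (m₂ : Neron.IsRelMinimalRegularModel R X₂)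
    (hg : FGA.eulerCharLE (FractionRing R) ((Neron.genericFibre R).obj X₁).left (Coh.structureModule _) 1 ≤ 0)
    (φ : (Neron.genericFibre R).obj X₁ ≅ (Neron.genericFibre R).obj X₂) (p : Ideal R) [p.IsPrime] (hp : p ≠ ⊥) :
    ∃ (k : pullback X₁.hom (Neron.genPt R) ⟶ pullback X₁.hom (locMap p)) (h : pullback X₁.hom (locMap p) ⟶ X₂.left),
      k ≫ pullback.fst X₁.hom (locMap p) = pullback.fst X₁.hom (Neron.genPt R) ∧
      k ≫ h = φ.hom.left ≫ pullback.fst X₂.hom (Neron.genPt R) ∧
      h ≫ X₂.hom = pullback.fst X₁.hom (locMap p) ≫ X₁.hom := by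
  haveI : IsDiscreteValuationRing (Localization.AtPrime p) :=
    IsLocalization.AtPrime.isDiscreteValuationRing_of_dedekind_domain R hp (Localization.AtPrime p)
  haveI := isProper_arith h₁
  haveI := isIntegral_genericFibre h₁
  haveI := isIso_fracMap R (Localization.AtPrime p)
  have hR : ¬ IsField R := fun hF => hp (by letI := hF.toField; exact (Ideal.eq_bot_or_top _).resolve_right ‹p.IsPrime›.ne_top)
  let φl : pullback X₁.hom (Neron.genPt R) ≅ pullback X₂.hom (Neron.genPt R) := (Over.forget _).mapIso φ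
  have hφ : φl.hom ≫ pullback.snd X₂.hom (Neron.genPt R) = pullback.snd X₁.hom (Neron.genPt R) := Over.w φ.hom
  obtain ⟨g₁, D₁, hg₁⟩ := exists_mdata h₁ p (Iso.refl _)
  obtain ⟨g₂, D₂, hg₂⟩ := exists_mdata h₂ p φl
  rw [Iso.refl_hom, Category.id_comp] at D₁ hg₁
  rw [reassoc_of% hφ] at D₂
  haveI : IsIntegral (pullback X₂.hom (locMap p)) := D₂.isIntegral
  obtain ⟨b, hb, hgb⟩ := ArSurf29.exists_hom_any (dim_genericFibre h₁ hR) inferInstance
    (euler_fracMap R (Localization.AtPrime p) hg) D₂ (not_isExcCurve_localization p hp h₂ m₂) D₁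
  refine ⟨g₁, b ≫ pullback.fst X₂.hom (locMap p), hg₁, ?_, ?_⟩
  · rw [← Category.assoc, hgb, hg₂]
    rfl
  · rw [Category.assoc, pullback.condition, reassoc_of% hb, ← pullback.condition]

theorem exists_hom_any {X₁ X₂ : Over (Spec (CommRingCat.of R))}
    (h₁ : ArSurf.IsArithSurface R X₁) (h₂ : ArSurf.IsArithSurface R X₂) (m₂ : Neron.IsRelMinimalRegularModel R X₂)
    (hg : FGA.eulerCharLE (FractionRing R) ((Neron.genericFibre R).obj X₁).left (Coh.structureModule _) 1 ≤ 0)
    (φ : (Neron.genericFibre R).obj X₁ ≅ (Neron.genericFibre R).obj X₂) :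
    ∃ f : X₁ ⟶ X₂, (Neron.genericFibre R).map f = φ.hom := by
  haveI := h₁.2.1
  haveI := isProper_arith h₁
  haveI := isProper_arith h₂
  haveI : Flat X₁.hom := h₁.2.2.2.1
  haveI := isPreimmersion_genPt (R := R); haveI := flat_genPt (R := R)
  haveI := isIntegral_genericFibre h₁
  let j := pullback.fst X₁.hom (Neron.genPt R)
  have hj : j (genericPoint _) = genericPoint X₁.left := by
    obtain ⟨c, hc⟩ : genericPoint X₁.left ∈ Set.range j :=
      (ArSurf29.range_fst_genPt X₁.hom).ge (ArSurf29.hom_genericPoint X₁.hom)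
    exact (((genericPoint_specializes (j (genericPoint _))).antisymm
      (hc ▸ (genericPoint_specializes c).map j.continuous)).eq).symm
  obtain ⟨G, hG, hjG⟩ := exists_hom_of_local X₁.hom X₂.hom j hj
    (φ.hom.left ≫ pullback.fst X₂.hom (Neron.genPt R)) fun x => by
    by_cases hx : (X₁.hom x).asIdeal = ⊥
    · obtain ⟨z, hz⟩ := (ArSurf29.range_fst_genPt X₁.hom).ge hx
      refine ⟨_, j, z, 𝟙 _, φ.hom.left ≫ pullback.fst X₂.hom (Neron.genPt R), inferInstance, inferInstance, hz,
        Category.id_comp _, Category.id_comp _, ?_⟩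
      rw [Category.assoc, pullback.condition, ← Category.assoc]
      erw [Over.w φ.hom]
      exact pullback.condition.symm
    · obtain ⟨k, h, hk, hkh, hh⟩ := exists_local_hom_any h₁ h₂ m₂ hg φ (X₁.hom x).asIdeal hx
      obtain ⟨z, hz⟩ : x ∈ Set.range (pullback.fst X₁.hom (locMap (X₁.hom x).asIdeal)) := by
        rw [Scheme.Pullback.range_fst]
        refine ⟨closedPoint (Localization.AtPrime (X₁.hom x).asIdeal), PrimeSpectrum.ext ?_⟩
        exact IsLocalization.AtPrime.comap_maximalIdeal _ _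
      exact ⟨_, pullback.fst X₁.hom (locMap (X₁.hom x).asIdeal), z, k, h, inferInstance, inferInstance, hz, hk, hkh, hh⟩
  refine ⟨Over.homMk G hG, Over.OverMorphism.ext ?_⟩
  refine pullback.hom_ext ?_ ?_
  · rw [ArSurf29.genericFibre_map_fst]
    exact hjG
  · erw [Over.w φ.hom]
    exact Over.w ((Neron.genericFibre R).map (Over.homMk G hG : X₁ ⟶ X₂))

/-- Relatively minimal models of a curve of positive genus are unique. -/
theorem existsUnique_iso_any {X₁ X₂ : Over (Spec (CommRingCat.of R))}
    (h₁ : ArSurf.IsArithSurface R X₁) (h₂ : ArSurf.IsArithSurface R X₂)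
    (m₁ : Neron.IsRelMinimalRegularModel R X₁) (m₂ : Neron.IsRelMinimalRegularModel R X₂)
    (hg : FGA.eulerCharLE (FractionRing R) ((Neron.genericFibre R).obj X₁).left (Coh.structureModule _) 1 ≤ 0)
    (φ : (Neron.genericFibre R).obj X₁ ≅ (Neron.genericFibre R).obj X₂) :
    ∃! f : X₁ ⟶ X₂, IsIso f ∧ (Neron.genericFibre R).map f = φ.hom := by
  obtain ⟨f, hf⟩ := exists_hom_any h₁ h₂ m₂ hg φ
  haveI : IsIso f := m₁.2.2.2 X₂ m₂.1 m₂.2.1 m₂.2.2.1 f (by rw [hf]; infer_instance)
  exact ⟨f, ⟨inferInstance, hf⟩, fun f' hf' => hom_unique h₁ h₂ (hf'.2.trans hf.symm)⟩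

end GrothLib.Contract29
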