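import Groth.Agent.Lib.Canon12.Generic
import Groth.Agent.Lib.ArSurf29.Fibre
import Groth.Agent.Lib.ArSurf29.Setup
import Groth.Agent.Lib.HypVan12.Main

/-!
# The canonical sheaf of a vertical divisor on an arithmetic surface
-/

set_option autoImplicit false
set_option linter.style.haveILetI false
set_option backward.isDefEq.respectTransparency false
set_option maxHeartbeats 4000000

universe u

open CategoryTheory CategoryTheory.Limits AlgebraicGeometry TopologicalSpace Opposite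

noncomputable section

namespace GrothLib.Canon12

/-- An effective Cartier divisor is an immersion regular in the first homological sense. -/
theorem h1_of_isEffCartier {Z X : Scheme.{u}} (i : Z ⟶ X) [IsClosedImmersion i]
    (h : _root_.BlowUp.IsEffCartierIdeal i.ker) : RegImm.IsRegularImmersion .h1 i := by
  refine ⟨inferInstance, fun z => ?_⟩
  obtain ⟨U, hzU, a, ha, hI⟩ := h (i z)
  refine ⟨U, hzU, IsZariskiLocalAtTarget.restrict ‹_› _, [a], ?_, ?_⟩
  · exact SeqKinds.isH1Regular_of_isKoszulRegularSeq [a]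
      (KoszulFwd.isKoszulRegularSeq_of_isWeaklyRegular [a]
        ((RingTheory.Sequence.isWeaklyRegular_singleton_iff _ a).2 (isSMulRegular_iff_right_eq_zero_of_smul.2
          fun r hr => ha.2 r (by rwa [smul_eq_mul, mul_comm] at hr))))
  · rw [← i.ker_apply, hI, Ideal.ofList_singleton]

theorem rank_conormal_of_isEffCartier {Z X : Scheme.{u}} (i : Z ⟶ X)
    (h : _root_.BlowUp.IsEffCartierIdeal i.ker) : FlatMod.IsFinLocFreeOfRank 1 (Omega.conormal i) :=
  OX.isFinLocFreeOfRank_pullback i (PBDeg.rankOne_iff.2 (IdealModSec.isInvertible_of_isEffCartier h))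

theorem rank_conormal_comp {X Y Z : Scheme.{u}} (j : X ⟶ Y) (k : Y ⟶ Z) [IsImmersion j] [IsImmersion k]
    [QuasiCompact j] [QuasiCompact k] {a b : ℕ} (hh1 : RegImm.IsRegularImmersion .h1 j)
    (rj : FlatMod.IsFinLocFreeOfRank a (Omega.conormal j)) (rk : FlatMod.IsFinLocFreeOfRank b (Omega.conormal k)) :
    FlatMod.IsFinLocFreeOfRank (b + a) (Omega.conormal (j ≫ k)) := by
  obtain ⟨f, hf, -⟩ := ConStalk4.existsUnique (i := j ≫ k) (i' := k) (g := 𝟙 _) (gZ := j) (Category.comp_id _).symm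
  obtain ⟨g, hg, -⟩ := ConStalk4.existsUnique (i := j) (i' := j ≫ k) (g := k) (gZ := 𝟙 X) (Category.id_comp _)
  obtain ⟨w, hse⟩ := RegImm12.main j k f hf g hg hh1
  exact rank_ext _ (hse w) (OX.isFinLocFreeOfRank_pullback j rk) rj

/-- The spectrum of the residue field is a Cartier divisor on the spectrum of a discrete valuation ring. -/
theorem isEffCartierIdeal_residue (R : Type u) [CommRing R] [IsDomain R] [IsDiscreteValuationRing R] :
    _root_.BlowUp.IsEffCartierIdeal (Spec.map (CommRingCat.ofHom (IsLocalRing.residue R))).ker := by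
  let φ := CommRingCat.ofHom (IsLocalRing.residue R)
  obtain ⟨a, ha⟩ := IsDiscreteValuationRing.exists_irreducible R
  haveI : IsClosedImmersion (Spec.map φ) := IsClosedImmersion.spec_of_surjective φ IsLocalRing.residue_surjective
  intro x
  refine ⟨⟨⊤, isAffineOpen_top _⟩, trivial, (Scheme.ΓSpecIso (CommRingCat.of R)).inv a, ?_, ?_⟩
  · exact mem_nonZeroDivisors_of_ne_zero fun h => ha.ne_zero
      (((Scheme.ΓSpecIso (CommRingCat.of R)).commRingCatIsoToRingEquiv.symm.map_eq_zero_iff).1 h)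
  · rw [Scheme.Hom.ker_apply]
    refine le_antisymm (fun y hy => ?_) ?_
    · obtain ⟨r, rfl⟩ : ∃ r, (Scheme.ΓSpecIso (CommRingCat.of R)).inv r = y :=
        ⟨(Scheme.ΓSpecIso (CommRingCat.of R)).hom y, congr($((Scheme.ΓSpecIso (CommRingCat.of R)).hom_inv_id) y)⟩
      have hy' : IsLocalRing.residue R r = 0 := by
        have h0 : (Spec.map φ).appTop ((Scheme.ΓSpecIso (CommRingCat.of R)).inv r) = 0 := hy
        rw [← CommRingCat.comp_apply, ← Scheme.ΓSpecIso_inv_naturality, CommRingCat.comp_apply] at h0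
        exact ((Scheme.ΓSpecIso (CommRingCat.of (IsLocalRing.ResidueField R))).commRingCatIsoToRingEquiv.symm.map_eq_zero_iff).1 h0
      rw [IsLocalRing.residue_eq_zero_iff, ha.maximalIdeal_eq, Ideal.mem_span_singleton] at hy'
      obtain ⟨q, rfl⟩ := hy'
      rw [map_mul]
      exact Ideal.mul_mem_right _ _ (Ideal.mem_span_singleton_self _)
    · rw [Ideal.span_le, Set.singleton_subset_iff]
      show (Spec.map φ).appTop ((Scheme.ΓSpecIso (CommRingCat.of R)).inv a) = 0
      rw [← CommRingCat.comp_apply, ← Scheme.ΓSpecIso_inv_naturality, CommRingCat.comp_apply]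
      have h1 : φ.hom a = 0 := (IsLocalRing.residue_eq_zero_iff a).2
        (by rw [ha.maximalIdeal_eq]; exact Ideal.mem_span_singleton_self a)
      rw [h1, map_zero]

/-- The adjunction formula for a vertical prime divisor. -/
theorem nonempty_iso_vertical (R : Type u) [CommRing R] [IsDomain R] [IsDiscreteValuationRing R]
    (X : Over (Spec (CommRingCat.of R))) (hX : ArSurf.IsArithSurface R X)
    (E : ArSurf.VertComp R X) (L : X.left.Modules) (hL : ClSub.IsInverseOf L (ClSub.idealMod E.ι.ker))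
    {ω : X.left.Modules} (hω : Canon.IsCanonical X.hom ω)
    {ωE : E.curve.left.Modules} (hωE : Canon.IsCanonical E.curve.hom ωE) :
    Nonempty (ωE ≅ (Scheme.Modules.pullback E.ι).obj (CohB1.tensorMod L ω)) := by
  haveI := hX.2.1
  haveI := hX.2.2.2.1
  haveI := ArSurf29.isLocallyNoetherian_of_isArithSurface hX
  have hE : _root_.BlowUp.IsEffCartierIdeal E.ι.ker :=
    ArSurf29.isEffCartier_ker (ArSurf29.isMaxComp_of_isArithSurface hX E) hX.1
  obtain ⟨m, i0, hi0, hi0X⟩ := hX.2.2.2.2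
  haveI := hi0
  obtain ⟨Z, iX, gX, cX, nX, hig, hiX, hgX, hqcX, hqsX, hvX⟩ := hω
  haveI := hgX
  haveI := hiX.1
  have rX := rank_conormal iX hiX
  have hh1 := h1_of_isEffCartier E.ι hE
  have rι := rank_conormal_of_isEffCartier E.ι hE
  have r₃ := rank_conormal_comp E.ι iX hh1 rι rX
  obtain ⟨ω₃, hω₃⟩ := exists_via (E.ι ≫ iX) gX (n := nX) r₃
  -- through the surface
  obtain ⟨ω₁, hω₁⟩ := exists_via E.ι (𝟙 X.left) (n := 0) rι
  obtain ⟨u₁⟩ := nonempty_iso_squares E.ι (𝟙 X.left) iX (𝟙 Z) gX (𝟙 _) iX gX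
    (IsPullback.of_vert_isIso ⟨by simp⟩) (IsPullback.of_vert_isIso ⟨by simp⟩) hh1 rι rX hω₁ hvX
    (E.ι ≫ iX) gX (by simp) r₃ hgX hω₃
  obtain ⟨DC, DΩ, hDC, hDΩ, ⟨a⟩⟩ := hω₁
  obtain ⟨eC⟩ := ExtPowX.nonempty_iso hDC (ModelK.isExtPow_one (Omega.conormal E.ι)) (Iso.refl _)
  obtain ⟨eΩ⟩ := ExtPowX.nonempty_iso hDΩ (ModelK.isExtPow_zero (Omega.sheaf (𝟙 X.left))) (Iso.refl _)
  obtain ⟨one⟩ := Ample.nonempty_pullback_structureModule E.ι
  obtain ⟨eL⟩ := hL
  let F := Scheme.Modules.pullback E.ι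
  let eLI : CohB1.tensorMod (F.obj L) (Omega.conormal E.ι) ≅ Coh.structureModule E.curve.left :=
    (OX.pullTensorIso E.ι L _).symm ≪≫ F.mapIso eL ≪≫ one
  let inv : CohB1.tensorMod (Omega.conormal E.ι) (F.obj L) ≅ Coh.structureModule E.curve.left :=
    WeilFin11.swapIso _ _ ≪≫ eLI
  let main : CohB1.tensorMod ω₁ (Omega.conormal E.ι) ≅ CohB1.tensorMod (F.obj L) (Omega.conormal E.ι) :=
    WeilFin11.congrIso (Iso.refl _) eC.symm ≪≫ a ≪≫ F.mapIso eΩ ≪≫ one ≪≫ eLI.symm
  let eω₁ : ω₁ ≅ F.obj L := (HypVan12.cancelIso inv (Iso.refl _)).symm ≪≫ HypVan12.cancelIso inv main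
  -- through the residue field
  let c := Spec.map (CommRingCat.ofHom (IsLocalRing.residue R))
  haveI : IsClosedImmersion c :=
    IsClosedImmersion.spec_of_surjective _ IsLocalRing.residue_surjective
  have rc := rank_conormal_of_isEffCartier c (isEffCartierIdeal_residue R)
  obtain ⟨ω₂, hω₂⟩ := exists_via c (𝟙 _) (n := 0) rc
  have hk := ProjQ9.isPullback_mapBase m c
  let j := hk.lift (E.ι ≫ i0) E.curve.hom (by rw [Category.assoc, hi0X]; exact E.w)
  haveI : IsImmersion j := by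
    haveI : IsImmersion (j ≫ ProjQ9.mapBase m c) := by
      rw [hk.lift_fst]
      infer_instance
    exact IsImmersion.of_comp j (ProjQ9.mapBase m c)
  obtain ⟨ZE, iE, gE, cE, nE, hEg, hiE, hgE, hqcE, hqsE, hvE⟩ := hωE
  obtain ⟨u₂⟩ := nonempty_iso_comp_rank E.curve.hom c j (hk.lift_snd _ _ _) iE gE hEg hiE hgE hvE
    c (𝟙 _) (Category.comp_id c) rc inferInstance hω₂ (E.ι ≫ iX) gX
    (by rw [Category.assoc, hig]; exact E.w) r₃ hgX hω₃
  have hω₂i : PicF.IsInvertible ω₂ := by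
    obtain ⟨DC, DΩ, hDC, hDΩ, ⟨a⟩⟩ := hω₂
    exact FMAdj25.isInvertible_of_tensor (PBDeg.isInvertible_extPow rc hDC)
      (RelProjK.isInvertible_of_iso a (Ample.isInvertible_pullback c (PBDeg.isInvertible_extPow (rank_omega _ 0) hDΩ)))
  haveI : Subsingleton ↥(Spec (CommRingCat.of (IsLocalRing.ResidueField R))) :=
    inferInstanceAs (Subsingleton (PrimeSpectrum (IsLocalRing.ResidueField R)))
  obtain ⟨triv⟩ := EulerPull.nonempty_free_iso_of_subsingleton (PBDeg.rankOne_iff.2 hω₂i)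
  obtain ⟨oneE⟩ := Ample.nonempty_pullback_structureModule E.curve.hom
  exact ⟨(WeilFin11.congrIso (Iso.refl ωE)
      ((Scheme.Modules.pullback E.curve.hom).mapIso (triv ≪≫ OmegaPn27.freeOneIso) ≪≫ oneE) ≪≫
      Euler.tFUnitIso ωE).symm ≪≫ u₂.symm ≪≫ u₁ ≪≫
    WeilFin11.congrIso eω₁ ((Scheme.Modules.pullbackCongr (Category.comp_id E.ι)).app ω) ≪≫
    (OX.pullTensorIso E.ι L ω).symm⟩

end GrothLib.Canon12
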